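import Cfsg.Agent.Lib.Blocks.Order7920.Table

/-!
# Local structure of a simple group of order 7920

The centraliser of an involution has order `48`, and a Sylow `3`-normaliser has order `144`.
-/

set_option autoImplicit false

namespace CfsgLib.Blocks.Order7920

open Cfsg CfsgLib CfsgLib.Char
open scoped Classical ComplexConjugate

variable {G : Type*} [Group G] [Fintype G] [IsSimpleGroup G]

variable (hG : Nat.card G = 7920)
include hG

omit [IsSimpleGroup G] hG in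
theorem orderOf_conj_eq' (c x : G) : orderOf (c * x * c⁻¹) = orderOf x :=
  orderOf_injective (MulAut.conj c).toMonoidHom (MulAut.conj c).injective x

omit [IsSimpleGroup G] in
/-- A subgroup of order divisible by `p` has an element of order `p`. -/
theorem exists_mem_orderOf {p : ℕ} [Fact p.Prime] (H : Subgroup G) (h : p ∣ Nat.card H) :
    ∃ x ∈ H, orderOf x = p := by
  obtain ⟨x, hx⟩ := exists_prime_orderOf_dvd_card' (G := H) p h
  exact ⟨x, x.2, by rw [Subgroup.orderOf_coe, hx]⟩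

/-- An element of order eleven is not conjugate to its inverse. -/
theorem not_isConj_inv_eleven {z : G} (hz : orderOf z = 11) : ¬ IsConj z z⁻¹ := by
  intro h
  have : Fact (Nat.Prime 11) := ⟨by norm_num⟩
  obtain ⟨c, hc⟩ := isConj_iff.1 h
  obtain ⟨P, hP⟩ := exists_sylow_mem hz
  obtain ⟨-, hN, -⟩ := eleven_values hG P
  have hPz : (P : Subgroup G) = Subgroup.zpowers z :=
    (Subgroup.eq_of_le_of_card_ge (Subgroup.zpowers_le.2 hP)
      (le_of_eq (by rw [card_sylow hG (Or.inl rfl) P, Nat.card_zpowers, hz]))).symm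
  have hcN : c ∈ Subgroup.normalizer ((P : Subgroup G) : Set G) := by
    rw [hPz, Subgroup.mem_normalizer_iff]
    intro y
    constructor
    · intro hy
      obtain ⟨i, rfl⟩ := Subgroup.mem_zpowers_iff.1 hy
      rw [← MulAut.conj_apply, map_zpow, MulAut.conj_apply, hc]
      exact Subgroup.zpow_mem _ (Subgroup.inv_mem _ (Subgroup.mem_zpowers z)) i
    · intro hy
      obtain ⟨i, hi⟩ := Subgroup.mem_zpowers_iff.1 hy
      have : y = z ^ (-i) := by
        refine (MulAut.conj c).injective ?_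
        rw [map_zpow, MulAut.conj_apply, MulAut.conj_apply, hc, inv_zpow', neg_neg, hi]
      rw [this]
      exact Subgroup.zpow_mem _ (Subgroup.mem_zpowers z) _
  have ho : orderOf c ∣ 55 := hN ▸ Subgroup.orderOf_dvd_natCard _ hcN
  have h55 : c ^ 55 = 1 := orderOf_dvd_iff_pow_eq_one.1 ho
  have hpow : ∀ k : ℕ, c ^ k * z * (c ^ k)⁻¹ = if Even k then z else z⁻¹ := by
    intro k
    induction k with
    | zero => simp
    | succ k ih =>
      rw [pow_succ', mul_inv_rev, show c * c ^ k * z * ((c ^ k)⁻¹ * c⁻¹) =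
        c * (c ^ k * z * (c ^ k)⁻¹) * c⁻¹ by group, ih]
      by_cases hk : Even k
      · rw [if_pos hk, if_neg (Nat.even_add_one.not.2 (not_not.2 hk)), hc]
      · rw [if_neg hk, if_pos (Nat.even_add_one.2 hk), ← MulAut.conj_apply, map_inv,
          MulAut.conj_apply, hc, inv_inv]
  have h2 := hpow 55
  rw [h55, one_mul, inv_one, mul_one, if_neg (by decide)] at h2
  have : z ^ 2 = 1 := by rw [pow_two]; nth_rewrite 2 [h2]; rw [mul_inv_cancel]
  have := orderOf_dvd_of_pow_eq_one this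
  rw [hz] at this
  norm_num at this

omit [IsSimpleGroup G] hG in
/-- A class sum evaluated at a fixed element. -/
theorem sum_class_mul (χ : IrrCharacter G) (t g : G) :
    ∑ x ∈ CfsgLib.CharIntegral.classFinset t, (χ : G → ℂ) (x * g) =
      ((Subgroup.centralizer ({t} : Set G)).index : ℂ) * (χ : G → ℂ) t / (χ : G → ℂ) 1 *
        (χ : G → ℂ) g := by
  obtain ⟨n, ρ, hρ, hρc'⟩ := χ.2
  have hρc := hρc'.symm
  have := hρ
  rw [hρc]
  have h := congrArg (fun f : Module.End ℂ (Fin n → ℂ) => LinearMap.trace ℂ (Fin n → ℂ) (f * ρ g))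
    (CfsgLib.CharIntegral.classSum_eq_scalar ρ t)
  simp only [Finset.sum_mul, map_sum, ← map_mul] at h
  refine h.trans ?_
  rw [smul_mul_assoc, map_smul, smul_eq_mul, Representation.char_one]
  rfl

/-- No product of two conjugates of an involution has order eleven. -/
theorem triple_eleven [Fintype (IrrCharacter G)] {t z : G} (ht : orderOf t = 2) (hz : orderOf z = 11) :
    ∑ χ : IrrCharacter G, (χ : G → ℂ) t * (χ : G → ℂ) t / (χ : G → ℂ) 1 * conj ((χ : G → ℂ) z) = 0 := by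
  have hzero : ∀ x ∈ CfsgLib.CharIntegral.classFinset t,
      ∑ χ : IrrCharacter G, (χ : G → ℂ) (x * t) * conj ((χ : G → ℂ) z) = 0 := by
    intro x hx
    obtain ⟨c, rfl⟩ := isConj_iff.1 (CfsgLib.CharIntegral.mem_classFinset.1 hx)
    rw [column_orthogonality, if_neg]
    intro hcon
    have htt : t * t = 1 := by rw [← pow_two, ← ht]; exact pow_orderOf_eq_one t
    have ht' : t⁻¹ = t := inv_eq_of_mul_eq_one_left htt
    have hstep : IsConj (c * t * c⁻¹ * t) (t * (c * t * c⁻¹)) := isConj_iff.2 ⟨t, by group⟩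
    refine not_isConj_inv_eleven hG hz ((hcon.symm.trans hstep).trans ?_)
    have : t * (c * t * c⁻¹) = (c * t * c⁻¹ * t)⁻¹ := by
      simp only [mul_inv_rev, inv_inv, ht', mul_assoc]
    rw [this]
    obtain ⟨d, hd⟩ := isConj_iff.1 hcon
    exact isConj_iff.2 ⟨d, by rw [← MulAut.conj_apply, map_inv, MulAut.conj_apply, hd]⟩
  have h := Finset.sum_eq_zero hzero
  rw [Finset.sum_comm] at h
  simp only [← Finset.sum_mul, sum_class_mul] at h
  have hi : ((Subgroup.centralizer ({t} : Set G)).index : ℂ) ≠ 0 :=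
    Nat.cast_ne_zero.2 Subgroup.index_ne_zero_of_finite
  refine (mul_eq_zero.1 ?_).resolve_left hi
  rw [Finset.mul_sum]
  refine Eq.trans (Finset.sum_congr rfl fun χ _ => ?_) h
  ring

omit [IsSimpleGroup G] in
theorem centralizer_le_144 {x : G}
    (h5 : ¬ 5 ∣ Nat.card (Subgroup.centralizer ({x} : Set G)))
    (h11 : ¬ 11 ∣ Nat.card (Subgroup.centralizer ({x} : Set G))) :
    Nat.card (Subgroup.centralizer ({x} : Set G)) ∣ 144 := by
  have hd : Nat.card (Subgroup.centralizer ({x} : Set G)) ∣ 144 * (5 * 11) := by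
    have := Subgroup.card_subgroup_dvd_card (Subgroup.centralizer ({x} : Set G))
    rwa [hG] at this
  exact (Nat.Coprime.mul_right ((Nat.prime_five.coprime_iff_not_dvd.2 h5).symm)
    (((by norm_num : Nat.Prime 11).coprime_iff_not_dvd.2 h11).symm)).dvd_of_dvd_mul_right hd

/-- An element of order prime to `55` commutes with no element of order five or eleven. -/
theorem centralizer_dvd_144 (T : Tbl G) {x : G} (hx : x ≠ 1) (h5 : ¬ 5 ∣ orderOf x)
    (h11 : ¬ 11 ∣ orderOf x) : Nat.card (Subgroup.centralizer ({x} : Set G)) ∣ 144 := by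
  have key : ∀ p : ℕ, Nat.Prime p → ¬ p ∣ orderOf x →
      (∀ y : G, orderOf y = p → Nat.card (Subgroup.centralizer ({y} : Set G)) = p) →
      ¬ p ∣ Nat.card (Subgroup.centralizer ({x} : Set G)) := by
    intro p hp hno hC hd
    have := Fact.mk hp
    obtain ⟨y, hy, hyo⟩ := exists_mem_orderOf hG _ hd
    have hxy : x ∈ Subgroup.centralizer ({y} : Set G) :=
      Subgroup.mem_centralizer_singleton_iff.2 (Subgroup.mem_centralizer_singleton_iff.1 hy).symm
    have h := Subgroup.orderOf_dvd_natCard _ hxy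
    rw [hC y hyo] at h
    rcases (Nat.dvd_prime hp).1 h with h1 | h1
    · exact hx (orderOf_eq_one_iff.1 h1)
    · exact hno (by rw [h1])
  exact centralizer_le_144 hG (key 5 Nat.prime_five h5 fun y hy => card_centralizer_five hG T hy)
    (key 11 (by norm_num) h11 fun y hy => card_centralizer_eleven hG hy)

omit [IsSimpleGroup G] hG in
theorem isConj_pow_involution {t : G} (ht : orderOf t = 2) {k : ℕ} (hk : ¬ 2 ∣ k) :
    IsConj (t ^ k) t := by
  rw [← pow_mod_orderOf, ht, show k % 2 = 1 by omega, pow_one]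

omit [Fintype G] [IsSimpleGroup G] hG in
/-- The arithmetic at an involution. -/
theorem involution_arith {a1 a2 a3 b c d e : ℤ} {C : ℕ} (m1 : a1 % 4 = 2) (m2 : a2 % 4 = 2)
    (m3 : a3 % 4 = 2) (mb : b % 4 = 3) (md : d % 4 = 1)
    (i1 : 1 + 10 * (a1 + a2 + a3) + 11 * b + 44 * c + 45 * d + 55 * e = 0)
    (i5 : 1 + b - c = 0) (i11 : 1 - (a1 + a2 + a3) + d = 0)
    (i3 : 90 - 9 * (a1 ^ 2 + a2 ^ 2 + a3 ^ 2) + 2 * d ^ 2 = 0)
    (iC : (C : ℤ) = 1 + (a1 ^ 2 + a2 ^ 2 + a3 ^ 2) + b ^ 2 + c ^ 2 + d ^ 2 + e ^ 2) (hCd : C ∣ 144) :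
    (a1 = 2 ∨ a1 = -2) ∧ (a2 = 2 ∨ a2 = -2) ∧ (a3 = 2 ∨ a3 = -2) ∧ b = 3 ∧ c = 4 ∧ d = -3 ∧
      e = -1 ∧ C = 48 := by
  have hCle : (C : ℤ) ≤ 144 := by exact_mod_cast Nat.le_of_dvd (by norm_num) hCd
  have hd2 : d = -3 ∨ d = 9 := by
    have h3 : (3 : ℤ) ∣ d := by
      refine Int.Prime.dvd_pow' (k := 2) Nat.prime_three (show ((3 : ℕ) : ℤ) ∣ d ^ 2 from ?_)
      omega
    have hdle : d ^ 2 ≤ 144 := by
      linarith [sq_nonneg a1, sq_nonneg a2, sq_nonneg a3, sq_nonneg b, sq_nonneg c, sq_nonneg e]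
    obtain ⟨k, rfl⟩ := h3
    have hk : -4 ≤ k ∧ k ≤ 4 := by
      constructor <;> nlinarith only [hdle]
    omega
  have hb1 : a1 ^ 2 ≤ 28 ∧ a2 ^ 2 ≤ 28 ∧ a3 ^ 2 ≤ 28 := by
    rcases hd2 with rfl | rfl <;> refine ⟨?_, ?_, ?_⟩ <;> norm_num at i3 <;>
      linarith [sq_nonneg a1, sq_nonneg a2, sq_nonneg a3]
  have hbd : ∀ {a : ℤ}, a % 4 = 2 → a ^ 2 ≤ 28 → a = 2 ∨ a = -2 := by
    intro a hk h2
    have : -5 ≤ a ∧ a ≤ 5 := ⟨by nlinarith only [h2], by nlinarith only [h2]⟩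
    omega
  have r1 := hbd m1 hb1.1
  have r2 := hbd m2 hb1.2.1
  have r3 := hbd m3 hb1.2.2
  have hsq : a1 ^ 2 + a2 ^ 2 + a3 ^ 2 = 12 := by
    rcases r1 with rfl | rfl <;> rcases r2 with rfl | rfl <;> rcases r3 with rfl | rfl <;> norm_num
  have hdv : d = -3 := by
    rcases hd2 with h | h
    · exact h
    · subst h; omega
  subst hdv
  have hev : e = 2 - b := by omega
  have hcv : c = 1 + b := by omega
  rw [hsq, hev, hcv] at iC
  have iC' : (C : ℤ) = 3 * b ^ 2 - 2 * b + 27 := by rw [iC]; ring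
  have hbr : -6 ≤ b ∧ b ≤ 7 := ⟨by nlinarith only [iC', hCle], by nlinarith only [iC', hCle]⟩
  obtain ⟨hb0, hb9⟩ := hbr
  have hb3 : b = 3 := by
    have hbm : b = -5 ∨ b = -1 ∨ b = 3 ∨ b = 7 := by omega
    rcases hbm with rfl | rfl | rfl | rfl
    · exact absurd hCd (by rw [show C = 112 by omega]; norm_num)
    · exact absurd hCd (by rw [show C = 32 by omega]; norm_num)
    · rfl
    · exact absurd hCd (by rw [show C = 160 by omega]; norm_num)
  subst hb3
  exact ⟨r1, r2, r3, rfl, by omega, rfl, by omega, by omega⟩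

/-- The column of an involution, as far as it is needed. -/
theorem involution_column (T : Tbl G) {t : G} (ht : orderOf t = 2) :
    ∃ a1 a2 a3 : ℤ, (T.t1 : G → ℂ) t = a1 ∧ (T.t2 : G → ℂ) t = a2 ∧ (T.t3 : G → ℂ) t = a3 ∧
      (a1 = 2 ∨ a1 = -2) ∧ (a2 = 2 ∨ a2 = -2) ∧ (a3 = 2 ∨ a3 = -2) ∧
      (T.e11 : G → ℂ) t = 3 ∧ (T.f44 : G → ℂ) t = 4 ∧ (T.m45 : G → ℂ) t = -3 ∧
      (T.n55 : G → ℂ) t = -1 ∧ (T.s1 : G → ℂ) t = 0 ∧ (T.s2 : G → ℂ) t = 0 ∧
      Nat.card (Subgroup.centralizer ({t} : Set G)) = 48 := by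
  have := Fintype.ofFinite (IrrCharacter G)
  obtain ⟨h, hh⟩ : ∃ h : G, orderOf h = 5 := by
    have : Fact (Nat.Prime 5) := ⟨Nat.prime_five⟩
    exact exists_prime_orderOf_dvd_card' 5 (by rw [hG]; norm_num)
  obtain ⟨z, hz⟩ : ∃ z : G, orderOf z = 11 := by
    have : Fact (Nat.Prime 11) := ⟨by norm_num⟩
    exact exists_prime_orderOf_dvd_card' 11 (by rw [hG]; norm_num)
  have ht1 : t ≠ 1 := fun e => by simp [e] at ht
  have hnot : ∀ g : G, orderOf g ≠ 2 → ¬ IsConj t g := fun g hg hc => by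
    obtain ⟨c, rfl⟩ := isConj_iff.1 hc
    exact hg (by rw [orderOf_conj_eq', ht])
  obtain ⟨k1, -, v1⟩ := value_involution hG ht T.t1
  obtain ⟨k2, -, v2⟩ := value_involution hG ht T.t2
  obtain ⟨k3, -, v3⟩ := value_involution hG ht T.t3
  obtain ⟨kb, -, vb⟩ := value_involution hG ht T.e11
  obtain ⟨kc, -, vc⟩ := value_involution hG ht T.f44
  obtain ⟨kd, -, vd⟩ := value_involution hG ht T.m45
  obtain ⟨ke, -, ve⟩ := value_involution hG ht T.n55
  have hs : ∀ χ : IrrCharacter G, deg χ = 16 → (χ : G → ℂ) t = 0 := fun χ hχ =>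
    vanish hG (p := 2) (n := 4) Nat.prime_two (by norm_num) (by norm_num) (by norm_num [hχ])
      (by rw [ht])
  rw [T.d_t1] at v1
  rw [T.d_t2] at v2
  rw [T.d_t3] at v3
  rw [T.d_e11] at vb
  rw [T.d_f44] at vc
  rw [T.d_m45] at vd
  rw [T.d_n55] at ve
  have e1 := T.ortho t 1
  rw [if_neg (hnot 1 (by simp))] at e1
  simp only [deg_cast, T.d_t1, T.d_t2, T.d_t3, T.d_e11, T.d_s1, T.d_s2, T.d_f44, T.d_m45, T.d_n55,
    trivChar_apply, hs T.s1 T.d_s1, hs T.s2 T.d_s2, v1, v2, v3, vb, vc, vd, ve, map_natCast, map_one, one_mul, zero_mul, add_zero,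
    deg_trivChar, Nat.cast_one] at e1
  have e5 := T.ortho t h
  rw [if_neg (hnot h (by omega))] at e5
  simp only [value_five hG T _ hh, T.d_t1, T.d_t2, T.d_t3, T.d_e11, T.d_s1, T.d_s2, T.d_f44, T.d_m45,
    T.d_n55, trivChar_apply, deg_trivChar, hs T.s1 T.d_s1, hs T.s2 T.d_s2, v1, v2, v3, vb, vc, vd, ve] at e5
  norm_num at e5
  have e11 := T.ortho t z
  rw [if_neg (hnot z (by omega))] at e11
  simp only [value_eleven hG T.t1 (by rw [T.d_t1]; norm_num) hz,
    value_eleven hG T.t2 (by rw [T.d_t2]; norm_num) hz,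
    value_eleven hG T.t3 (by rw [T.d_t3]; norm_num) hz,
    value_eleven hG T.e11 (by rw [T.d_e11]; norm_num) hz,
    value_eleven hG T.f44 (by rw [T.d_f44]; norm_num) hz,
    value_eleven hG T.m45 (by rw [T.d_m45]; norm_num) hz,
    value_eleven hG T.n55 (by rw [T.d_n55]; norm_num) hz, T.d_t1, T.d_t2, T.d_t3, T.d_e11, T.d_f44,
    T.d_m45, T.d_n55, trivChar_apply, hs T.s1 T.d_s1, hs T.s2 T.d_s2, v1, v2, v3, vb, vc, vd, ve] at e11
  norm_num at e11
  have e3 := triple_eleven hG ht hz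
  rw [T.sum_eq] at e3
  simp only [value_eleven hG T.t1 (by rw [T.d_t1]; norm_num) hz,
    value_eleven hG T.t2 (by rw [T.d_t2]; norm_num) hz,
    value_eleven hG T.t3 (by rw [T.d_t3]; norm_num) hz,
    value_eleven hG T.e11 (by rw [T.d_e11]; norm_num) hz,
    value_eleven hG T.f44 (by rw [T.d_f44]; norm_num) hz,
    value_eleven hG T.m45 (by rw [T.d_m45]; norm_num) hz,
    value_eleven hG T.n55 (by rw [T.d_n55]; norm_num) hz, deg_cast, deg_trivChar, T.d_t1, T.d_t2,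
    T.d_t3, T.d_e11, T.d_f44, T.d_m45, T.d_n55, trivChar_apply, hs T.s1 T.d_s1, hs T.s2 T.d_s2,
    v1, v2, v3, vb, vc, vd, ve] at e3
  norm_num at e3
  have eC := T.ortho t t
  rw [if_pos (IsConj.refl t)] at eC
  simp only [trivChar_apply, hs T.s1 T.d_s1, hs T.s2 T.d_s2, v1, v2, v3, vb, vc, vd, ve,
    map_intCast, map_one, map_zero, mul_one, mul_zero, add_zero] at eC
  obtain ⟨C, hC⟩ : ∃ C, Nat.card (Subgroup.centralizer ({t} : Set G)) = C := ⟨_, rfl⟩
  have hCd : C ∣ 144 := hC ▸ centralizer_dvd_144 hG T ht1 (by rw [ht]; norm_num) (by rw [ht]; norm_num)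
  rw [hC] at eC
  obtain ⟨a1, ha1⟩ : ∃ a : ℤ, a = (10 : ℤ) - 4 * k1 := ⟨_, rfl⟩
  obtain ⟨a2, ha2⟩ : ∃ a : ℤ, a = (10 : ℤ) - 4 * k2 := ⟨_, rfl⟩
  obtain ⟨a3, ha3⟩ : ∃ a : ℤ, a = (10 : ℤ) - 4 * k3 := ⟨_, rfl⟩
  obtain ⟨b, hb⟩ : ∃ a : ℤ, a = (11 : ℤ) - 4 * kb := ⟨_, rfl⟩
  obtain ⟨c, hc⟩ : ∃ a : ℤ, a = (44 : ℤ) - 4 * kc := ⟨_, rfl⟩
  obtain ⟨d, hd⟩ : ∃ a : ℤ, a = (45 : ℤ) - 4 * kd := ⟨_, rfl⟩
  obtain ⟨e, he⟩ : ∃ a : ℤ, a = (55 : ℤ) - 4 * ke := ⟨_, rfl⟩
  have i1 : 1 + 10 * (a1 + a2 + a3) + 11 * b + 44 * c + 45 * d + 55 * e = 0 := by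
    apply Int.cast_injective (α := ℂ)
    subst ha1 ha2 ha3 hb hc hd he
    push_cast at e1 ⊢
    linear_combination e1
  have i5 : 1 + b - c = 0 := by
    apply Int.cast_injective (α := ℂ)
    subst hb hc
    push_cast at e5 ⊢
    linear_combination e5
  have i11 : 1 - (a1 + a2 + a3) + d = 0 := by
    apply Int.cast_injective (α := ℂ)
    subst ha1 ha2 ha3 hd
    push_cast at e11 ⊢
    linear_combination e11
  have i3 : 90 - 9 * (a1 ^ 2 + a2 ^ 2 + a3 ^ 2) + 2 * d ^ 2 = 0 := by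
    apply Int.cast_injective (α := ℂ)
    subst ha1 ha2 ha3 hd
    push_cast at e3 ⊢
    linear_combination 90 * e3
  have iC : (C : ℤ) = 1 + (a1 ^ 2 + a2 ^ 2 + a3 ^ 2) + b ^ 2 + c ^ 2 + d ^ 2 + e ^ 2 := by
    apply Int.cast_injective (α := ℂ)
    subst ha1 ha2 ha3 hb hc hd he
    push_cast at eC ⊢
    linear_combination -eC
  obtain ⟨r1, r2, r3, hbv, hcv, hdv, hev, hCv⟩ := involution_arith (by omega) (by omega)
    (by omega) (by omega) (by omega) i1 i5 i11 i3 iC hCd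
  refine ⟨a1, a2, a3, by rw [v1, ha1]; norm_num, by rw [v2, ha2]; norm_num,
    by rw [v3, ha3]; norm_num, r1, r2, r3, ?_, ?_, ?_, ?_, hs T.s1 T.d_s1, hs T.s2 T.d_s2,
    hC.trans hCv⟩
  · rw [vb, show ((11 : ℕ) : ℤ) - 4 * kb = 3 by push_cast; omega]; norm_num
  · rw [vc, show ((44 : ℕ) : ℤ) - 4 * kc = 4 by push_cast; omega]; norm_num
  · rw [vd, show ((45 : ℕ) : ℤ) - 4 * kd = -3 by push_cast; omega]; norm_num
  · rw [ve, show ((55 : ℕ) : ℤ) - 4 * ke = -1 by push_cast; omega]; norm_num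

/-- Involution centralisers have order `48`. -/
theorem card_centralizer_involution {t : G} (ht : orderOf t = 2) :
    Nat.card (Subgroup.centralizer ({t} : Set G)) = 48 := by
  obtain ⟨T⟩ := exists_tbl hG
  obtain ⟨_, _, _, -, -, -, -, -, -, -, -, -, -, -, -, h⟩ := involution_column hG T ht
  exact h

/-- All involutions are conjugate. -/
theorem isConj_involution {t s : G} (ht : orderOf t = 2) (hs : orderOf s = 2) : IsConj t s := by
  obtain ⟨T⟩ := exists_tbl hG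
  by_contra hn
  obtain ⟨a1, a2, a3, u1, u2, u3, r1, r2, r3, ub, uc, ud, ue, us1, us2, -⟩ := involution_column hG T ht
  obtain ⟨b1, b2, b3, w1, w2, w3, q1, q2, q3, wb, wc, wd, we, ws1, ws2, -⟩ := involution_column hG T hs
  have h := T.ortho t s
  rw [if_neg hn] at h
  simp only [trivChar_apply, u1, u2, u3, ub, uc, ud, ue, us1, us2, w1, w2, w3, wb, wc, wd, we, ws1,
    ws2, map_intCast, map_one, map_zero, map_neg, Complex.conj_ofNat] at h
  have hi : 36 + (a1 * b1 + a2 * b2 + a3 * b3) = 0 := by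
    apply Int.cast_injective (α := ℂ)
    push_cast
    linear_combination h
  rcases r1 with rfl | rfl <;> rcases r2 with rfl | rfl <;> rcases r3 with rfl | rfl <;>
    rcases q1 with rfl | rfl <;> rcases q2 with rfl | rfl <;> rcases q3 with rfl | rfl <;>
    norm_num at hi

end CfsgLib.Blocks.Order7920
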