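import Mathlib.Data.ZMod.Basic
import Mathlib.Tactic

/-!
# Finite checks on maps of `ZMod 11` commuting with a multiplication
-/

set_option autoImplicit false

namespace CfsgLib.Blocks.Order7920.Coord

/-- The map fixing `0` with `f 1 = a`, `f (-1) = b` and `f (3 x) = mu * f x`. -/
def tab (mu a b : ZMod 11) : ZMod 11 → ZMod 11 := fun x =>
  match x.val with
  | 1 => a
  | 3 => mu * a
  | 9 => mu * (mu * a)
  | 5 => mu * (mu * (mu * a))
  | 4 => mu * (mu * (mu * (mu * a)))
  | 10 => b
  | 8 => mu * b
  | 2 => mu * (mu * b)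
  | 6 => mu * (mu * (mu * b))
  | 7 => mu * (mu * (mu * (mu * b)))
  | _ => 0

theorem eq_tab (mu : ZMod 11) (f : ZMod 11 → ZMod 11) (h0 : f 0 = 0) (h : ∀ x, f (3 * x) = mu * f x)
    (x : ZMod 11) : f x = tab mu (f 1) (f 10) x := by
  have e3 : f 3 = mu * f 1 := h 1
  have e9 : f 9 = mu * (mu * f 1) := by rw [← e3]; exact h 3
  have e5 : f 5 = mu * (mu * (mu * f 1)) := by rw [← e9]; exact h 9
  have e4 : f 4 = mu * (mu * (mu * (mu * f 1))) := by rw [← e5]; exact h 5
  have e8 : f 8 = mu * f 10 := h 10
  have e2 : f 2 = mu * (mu * f 10) := by rw [← e8]; exact h 8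
  have e6 : f 6 = mu * (mu * (mu * f 10)) := by rw [← e2]; exact h 2
  have e7 : f 7 = mu * (mu * (mu * (mu * f 10))) := by rw [← e6]; exact h 6
  obtain rfl | rfl | rfl | rfl | rfl | rfl | rfl | rfl | rfl | rfl | rfl :
      x = 0 ∨ x = 1 ∨ x = 2 ∨ x = 3 ∨ x = 4 ∨ x = 5 ∨ x = 6 ∨ x = 7 ∨ x = 8 ∨ x = 9 ∨ x = 10 := by
    revert x
    decide
  · exact h0
  · rfl
  · exact e2
  · exact e3
  · exact e4
  · exact e5
  · exact e6
  · exact e7
  · exact e8
  · exact e9
  · rfl

/-- All residues, as a list. -/
def residues : List (ZMod 11) := [0, 1, 2, 3, 4, 5, 6, 7, 8, 9, 10]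

theorem mem_residues (x : ZMod 11) : x ∈ residues := by revert x; decide

/-- The powers of three. -/
def mults : List (ZMod 11) := [1, 3, 9, 5, 4]

theorem pow_mem_mults (j : ℕ) : (3 : ZMod 11) ^ j ∈ mults := by
  induction j with
  | zero => decide
  | succ j ih =>
    rw [pow_succ']
    have : ∀ m ∈ mults, (3 : ZMod 11) * m ∈ mults := by decide
    exact this _ ih

/-- The two kinds of normal forms equal to a given map. -/
def isForm (W T : ZMod 11 → ZMod 11) : Bool :=
  residues.any fun i => mults.any fun m =>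
    (residues.all fun x => decide (T x = m * x + i)) ||
      residues.any fun k => residues.all fun x => decide (T x = m * W (x + k) + i)

theorem isForm_of_affine {W T : ZMod 11 → ZMod 11} (i : ZMod 11) (j : ℕ)
    (h : ∀ x, T x = 3 ^ j * x + i) : isForm W T = true := by
  simp only [isForm, List.any_eq_true, List.all_eq_true, Bool.or_eq_true, decide_eq_true_eq]
  exact ⟨i, mem_residues i, _, pow_mem_mults j, Or.inl fun x _ => h x⟩

theorem isForm_of_double {W T : ZMod 11 → ZMod 11} (i k : ZMod 11) (j : ℕ)
    (h : ∀ x, T x = 3 ^ j * W (x + k) + i) : isForm W T = true := by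
  simp only [isForm, List.any_eq_true, List.all_eq_true, Bool.or_eq_true, decide_eq_true_eq]
  exact ⟨i, mem_residues i, _, pow_mem_mults j, Or.inr ⟨k, mem_residues k, fun x _ => h x⟩⟩

/-- Whether `(a, b)` can describe the involution. -/
def candidate (a b : ZMod 11) : Bool :=
  let W := tab 4 a b
  if residues.all fun x => decide (W (W x) = x) then isForm W (fun x => W (W x + 1)) else false

/-- The surviving parameters. -/
def survivors : List (ZMod 11 × ZMod 11) :=
  [(1, 2), (1, 6), (3, 6), (3, 7), (4, 2), (4, 8), (5, 8), (5, 10), (9, 7), (9, 10)]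

theorem candidates_ok : (residues.all fun a => residues.all fun b =>
    a == 0 || b == 0 || !candidate a b || survivors.contains (a, b)) = true := by decide +kernel

theorem mem_survivors {a b : ZMod 11} (ha : a ≠ 0) (hb : b ≠ 0)
    (hinv : ∀ x, tab 4 a b (tab 4 a b x) = x)
    (hform : isForm (tab 4 a b) (fun x => tab 4 a b (tab 4 a b x + 1)) = true) :
    (a, b) ∈ survivors := by
  have h := candidates_ok
  rw [List.all_eq_true] at h
  have h1 := h a (mem_residues a)
  rw [List.all_eq_true] at h1
  have h2 := h1 b (mem_residues b)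
  have hc : candidate a b = true := by
    simp only [candidate]
    rw [if_pos (by simpa [List.all_eq_true] using fun x _ => hinv x)]
    exact hform
  simp only [hc, Bool.not_true, Bool.or_false, Bool.or_eq_true, beq_iff_eq, List.contains_iff_mem] at h2
  rcases h2 with (h2 | h2) | h2
  · exact absurd h2 ha
  · exact absurd h2 hb
  · exact h2

/-- The involution in standard position. -/
def w0 : ZMod 11 → ZMod 11 := tab 4 1 6

/-- A map of order four. -/
def orderFour (T : ZMod 11 → ZMod 11) : Bool :=
  (residues.all fun x => decide (T (T (T (T x))) = x)) && !(residues.all fun x => decide (T (T x) = x))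

theorem no_four : (residues.all fun i => mults.all fun m =>
    (!orderFour fun x => m * x + i) &&
      residues.all fun k => !orderFour fun x => m * w0 (x + k) + i) = true := by decide +kernel

theorem affine_no_four (i : ZMod 11) (j : ℕ) (T : ZMod 11 → ZMod 11) (h : ∀ x, T x = 3 ^ j * x + i)
    (h4 : ∀ x, T (T (T (T x))) = x) (x : ZMod 11) : T (T x) = x := by
  have hh := no_four
  simp only [List.all_eq_true, Bool.and_eq_true, orderFour, Bool.not_eq_true', Bool.and_eq_false_iff,
    Bool.not_eq_false'] at hh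
  have h1 := (hh i (mem_residues i) _ (pow_mem_mults j)).1
  have e : T = fun x => 3 ^ j * x + i := funext h
  rcases h1 with h1 | h1
  · exfalso
    rw [List.all_eq_false] at h1
    obtain ⟨y, -, hy⟩ := h1
    exact hy (decide_eq_true (by simpa only [e] using h4 y))
  · simpa only [e] using of_decide_eq_true (h1 x (mem_residues x))

theorem double_no_four (i k : ZMod 11) (j : ℕ) (T : ZMod 11 → ZMod 11)
    (h : ∀ x, T x = 3 ^ j * w0 (x + k) + i)
    (h4 : ∀ x, T (T (T (T x))) = x) (x : ZMod 11) : T (T x) = x := by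
  have hh := no_four
  simp only [List.all_eq_true, Bool.and_eq_true, orderFour, Bool.not_eq_true', Bool.and_eq_false_iff,
    Bool.not_eq_false'] at hh
  have h1 := (hh i (mem_residues i) _ (pow_mem_mults j)).2 k (mem_residues k)
  have e : T = fun x => 3 ^ j * w0 (x + k) + i := funext h
  rcases h1 with h1 | h1
  · exfalso
    rw [List.all_eq_false] at h1
    obtain ⟨y, -, hy⟩ := h1
    exact hy (decide_eq_true (by simpa only [e] using h4 y))
  · simpa only [e] using of_decide_eq_true (h1 x (mem_residues x))

/-- The map extending the involution off `0`. -/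
def g0 : ZMod 11 → ZMod 11 := tab 9 7 9

theorem g0_unique : ∀ t s : ZMod 11, t ≠ 0 → s ≠ 0 →
    (∀ x : ZMod 11, x ≠ 0 → tab 9 t s (tab 9 t s x) = w0 x) →
    (∀ x : ZMod 11, x ≠ 0 → tab 9 t s x ≠ x) → t = 7 ∧ s = 9 := by decide +kernel

end CfsgLib.Blocks.Order7920.Coord
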