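import Cfsg.Agent.Lib.Blocks.Order7920.IndexTwelve
import Cfsg.Agent.Lib.Blocks.Order7920.CoordData

/-!
# The action of degree twelve in coordinates

A simple group of order 7920 is generated by four elements whose permutations of the twelve cosets
are fixed in advance; so there is only one such group.
-/

set_option autoImplicit false

namespace CfsgLib.Blocks.Order7920

open MulAction Coord
open scoped Classical

section Coords

variable {G : Type*} [Group G] [Fintype G]

/-- The generators of a point stabiliser, with the point fixed by `h`. -/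
structure Frame (z h w : G) (H : Subgroup G) (c : G ⧸ H) : Prop where
  order : Nat.card G = 7920
  card_H : Nat.card H = 660
  oz : orderOf z = 11
  oh : orderOf h = 5
  ow : orderOf w = 2
  hz : h * z * h⁻¹ = z ^ 3
  wh : w * h * w⁻¹ = h⁻¹
  memz : z ∈ H
  memh : h ∈ H
  memw : w ∈ H
  form : ∀ a ∈ H, ∃ i j : ℕ, a = z ^ i * h ^ j ∨ ∃ k : ℕ, a = z ^ i * h ^ j * w * z ^ k
  hfix : h • c = c
  cne : c ≠ ((1 : G) : G ⧸ H)
  zfix : ∀ p : G ⧸ H, z • p = p → p = ((1 : G) : G ⧸ H)

variable {z h w : G} {H : Subgroup G} {c : G ⧸ H}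

/-- The points: the base coset and the orbit of `c` under `z`. -/
def pt (z : G) (c : G ⧸ H) : Option (ZMod 11) → G ⧸ H
  | none => ((1 : G) : G ⧸ H)
  | some x => z ^ x.val • c

omit [Fintype G] in
theorem smul_base {a : G} (ha : a ∈ H) : a • ((1 : G) : G ⧸ H) = ((1 : G) : G ⧸ H) := by
  rw [MulAction.Quotient.smul_coe, QuotientGroup.eq]
  simpa using H.inv_mem ha

theorem Frame.pow_cast (F : Frame z h w H c) (n : ℕ) : z ^ n = z ^ ((n : ZMod 11)).val := by
  rw [ZMod.val_natCast, ← F.oz, pow_mod_orderOf]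

theorem Frame.index (F : Frame z h w H c) : H.index = 12 := by
  have := H.card_mul_index
  rw [F.card_H, F.order] at this
  omega

theorem Frame.pt_bijective (F : Frame z h w H c) : Function.Bijective (pt z c) := by
  have : Fact (Nat.Prime 11) := ⟨by norm_num⟩
  have key : ∀ n : ℕ, n < 11 → z ^ n • c = c → n = 0 := by
    intro n hn hfix
    by_contra hn0
    obtain ⟨m, hm⟩ := exists_pow_eq_self_of_coprime (x := z) (n := n)
      (by rw [F.oz]; exact ((Nat.Prime.coprime_iff_not_dvd (by norm_num)).2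
        fun hd => hn0 (Nat.eq_zero_of_dvd_of_lt hd hn)).symm)
    have hst : (z ^ n) ^ m ∈ MulAction.stabilizer G c := Subgroup.pow_mem _ hfix m
    rw [hm] at hst
    exact F.cne (F.zfix c hst)
  have hinj : Function.Injective (pt z c) := by
    have hbase : ∀ x : ZMod 11, z ^ x.val • c ≠ ((1 : G) : G ⧸ H) := fun x e => by
      refine F.cne ?_
      rw [eq_inv_smul_iff.2 e, smul_base (H.inv_mem (H.pow_mem F.memz _))]
    intro x y e
    cases x with
    | none =>
      cases y with
      | none => rfl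
      | some y => exact absurd e.symm (hbase y)
    | some x =>
      cases y with
      | none => exact absurd e (hbase x)
      | some y =>
        have h1 : z ^ ((x - y : ZMod 11)).val • c = c := by
          have e' : z ^ x.val • c = z ^ y.val • c := e
          have h2 : z ^ ((x - y : ZMod 11)).val • z ^ y.val • c = z ^ y.val • c := by
            rw [← mul_smul, ← pow_add, F.pow_cast, Nat.cast_add, ZMod.natCast_zmod_val,
              ZMod.natCast_zmod_val, sub_add_cancel]
            exact e'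
          rwa [← mul_smul, (Commute.refl z).pow_pow _ _ |>.eq, mul_smul, smul_left_cancel_iff] at h2
        rw [sub_eq_zero.1 ((ZMod.val_eq_zero _).1 (key _ (ZMod.val_lt _) h1))]
  have : Fintype (G ⧸ H) := Fintype.ofFinite _
  refine (Fintype.bijective_iff_injective_and_card _).2 ⟨hinj, ?_⟩
  rw [Fintype.card_option, ZMod.card, ← Nat.card_eq_fintype_card, ← Subgroup.index_eq_card, F.index]

/-- The points as an equivalence. -/
noncomputable def Frame.coords (F : Frame z h w H c) : Option (ZMod 11) ≃ G ⧸ H :=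
  Equiv.ofBijective _ F.pt_bijective

/-- The map on finite points of an element of the stabiliser. -/
noncomputable def Frame.amap (F : Frame z h w H c) (a : G) (x : ZMod 11) : ZMod 11 :=
  (F.coords.symm (a • pt z c (some x))).getD 0

theorem Frame.amap_spec (F : Frame z h w H c) {a : G} (ha : a ∈ H) (x : ZMod 11) :
    a • pt z c (some x) = pt z c (some (F.amap a x)) := by
  obtain ⟨y, hy⟩ := F.pt_bijective.2 (a • pt z c (some x))
  cases y with
  | none =>
    exfalso
    have h1 : pt z c (some x) = pt z c none := by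
      refine (smul_left_cancel a ?_)
      rw [← hy]
      exact (smul_base ha).symm
    simpa using F.pt_bijective.1 h1
  | some y =>
    have e : F.coords.symm (a • pt z c (some x)) = some y := by
      rw [Equiv.symm_apply_eq, ← hy]; rfl
    rw [Frame.amap, e, ← hy]
    rfl

theorem Frame.amap_unique (F : Frame z h w H c) {a : G} (ha : a ∈ H) {x y : ZMod 11}
    (e : a • pt z c (some x) = pt z c (some y)) : F.amap a x = y :=
  Option.some_injective _ (F.pt_bijective.1 ((F.amap_spec ha x).symm.trans e))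

theorem Frame.amap_mul (F : Frame z h w H c) {a b : G} (ha : a ∈ H) (hb : b ∈ H) (x : ZMod 11) :
    F.amap (a * b) x = F.amap a (F.amap b x) :=
  F.amap_unique (H.mul_mem ha hb) (by rw [mul_smul, F.amap_spec hb, F.amap_spec ha])

theorem Frame.amap_one (F : Frame z h w H c) (x : ZMod 11) : F.amap 1 x = x :=
  F.amap_unique H.one_mem (one_smul _ _)

theorem Frame.amap_zpow (F : Frame z h w H c) (n : ℕ) (x : ZMod 11) :
    F.amap (z ^ n) x = x + n := by
  refine F.amap_unique (H.pow_mem F.memz n) ?_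
  show z ^ n • z ^ x.val • c = z ^ (x + n).val • c
  rw [← mul_smul, ← pow_add, F.pow_cast, Nat.cast_add, ZMod.natCast_zmod_val, add_comm]

theorem Frame.amap_h (F : Frame z h w H c) (x : ZMod 11) : F.amap h x = 3 * x := by
  refine F.amap_unique F.memh ?_
  show h • z ^ x.val • c = z ^ (3 * x).val • c
  have e : h * z ^ x.val = z ^ (3 * x).val * h := by
    rw [← mul_inv_eq_iff_eq_mul, conj_pow_eq', F.hz, ← pow_mul, F.pow_cast, Nat.cast_mul,
      ZMod.natCast_zmod_val]
    norm_num
  rw [← mul_smul, e, mul_smul, F.hfix]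

theorem Frame.amap_hpow (F : Frame z h w H c) (j : ℕ) (x : ZMod 11) : F.amap (h ^ j) x = 3 ^ j * x := by
  induction j with
  | zero => rw [pow_zero, F.amap_one, pow_zero, one_mul]
  | succ j ih =>
    rw [pow_succ', F.amap_mul F.memh (H.pow_mem F.memh j), F.amap_h, ih, pow_succ', mul_assoc]

theorem Frame.amap_form (F : Frame z h w H c) {a : G} (ha : a ∈ H) :
    (∃ (i : ZMod 11) (j : ℕ), ∀ x, F.amap a x = 3 ^ j * x + i) ∨
      ∃ (i k : ZMod 11) (j : ℕ), ∀ x, F.amap a x = 3 ^ j * F.amap w (x + k) + i := by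
  obtain ⟨i, j, rfl | ⟨k, rfl⟩⟩ := F.form a ha
  · refine Or.inl ⟨i, j, fun x => ?_⟩
    rw [F.amap_mul (H.pow_mem F.memz i) (H.pow_mem F.memh j), F.amap_zpow, F.amap_hpow]
  · refine Or.inr ⟨i, k, j, fun x => ?_⟩
    rw [F.amap_mul (H.mul_mem (H.mul_mem (H.pow_mem F.memz i) (H.pow_mem F.memh j)) F.memw)
        (H.pow_mem F.memz k),
      F.amap_mul (H.mul_mem (H.pow_mem F.memz i) (H.pow_mem F.memh j)) F.memw,
      F.amap_mul (H.pow_mem F.memz i) (H.pow_mem F.memh j), F.amap_zpow, F.amap_hpow, F.amap_zpow]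

theorem Frame.fix_h (F : Frame z h w H c) {p : G ⧸ H} (hp : h • p = p) :
    p = ((1 : G) : G ⧸ H) ∨ p = c := by
  obtain ⟨y, rfl⟩ := F.pt_bijective.2 p
  cases y with
  | none => exact Or.inl rfl
  | some x =>
    right
    have h1 := F.amap_h x
    rw [F.amap_unique F.memh hp] at h1
    have : ∀ x : ZMod 11, x = 3 * x → x = 0 := by decide
    rw [this x h1]
    show z ^ (0 : ZMod 11).val • c = c
    rw [ZMod.val_zero, pow_zero, one_smul]

theorem Frame.w_fix (F : Frame z h w H c) : w • c = c := by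
  have hh : h • (w • c) = w • c := by
    rw [← mul_smul]
    have e : h * w = w * h⁻¹ := by
      have h2 := F.wh
      rw [mul_inv_eq_iff_eq_mul] at h2
      calc h * w = h * (w * h) * h⁻¹ := by group
        _ = w * h⁻¹ := by rw [h2]; group
    rw [e, mul_smul, (inv_smul_eq_iff.2 F.hfix.symm)]
  refine (F.fix_h hh).resolve_left fun e => F.cne ?_
  rw [eq_inv_smul_iff.2 e, smul_base (H.inv_mem F.memw)]

theorem Frame.amap_w (F : Frame z h w H c) (x : ZMod 11) :
    F.amap w x = tab 4 (F.amap w 1) (F.amap w 10) x := by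
  refine eq_tab 4 (F.amap w) ?_ (fun y => ?_) x
  · refine F.amap_unique F.memw ?_
    show w • z ^ (0 : ZMod 11).val • c = z ^ (0 : ZMod 11).val • c
    rw [ZMod.val_zero, pow_zero, one_smul, F.w_fix]
  · have e : w * h = h⁻¹ * w := mul_inv_eq_iff_eq_mul.1 F.wh
    have e4 : h⁻¹ = h ^ 4 := by
      refine inv_eq_of_mul_eq_one_right ?_
      rw [← pow_succ', show 4 + 1 = orderOf h from F.oh.symm]
      exact pow_orderOf_eq_one h
    have h1 : F.amap (w * h) y = F.amap w (3 * y) := by rw [F.amap_mul F.memw F.memh, F.amap_h]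
    rw [← h1, e, e4, F.amap_mul (H.pow_mem F.memh 4) F.memw, F.amap_hpow]
    exact congrArg (· * F.amap w y) (show (3 : ZMod 11) ^ 4 = 4 by decide)

theorem Frame.w_sq (F : Frame z h w H c) (x : ZMod 11) : F.amap w (F.amap w x) = x := by
  rw [← F.amap_mul F.memw F.memw, ← pow_two, show w ^ 2 = 1 by rw [← F.ow]; exact pow_orderOf_eq_one w,
    F.amap_one]

theorem Frame.w_params (F : Frame z h w H c) : (F.amap w 1, F.amap w 10) ∈ survivors := by
  have hne : ∀ x : ZMod 11, x ≠ 0 → F.amap w x ≠ 0 := fun x hx e => hx (by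
    have h1 := F.w_sq x
    rw [e] at h1
    rw [← h1]
    refine F.amap_unique F.memw ?_
    show w • z ^ (0 : ZMod 11).val • c = z ^ (0 : ZMod 11).val • c
    rw [ZMod.val_zero, pow_zero, one_smul, F.w_fix])
  have htab : F.amap w = tab 4 (F.amap w 1) (F.amap w 10) := funext F.amap_w
  refine mem_survivors (hne 1 (by decide)) (hne 10 (by decide)) (fun x => by rw [← htab]; exact F.w_sq x) ?_
  rw [← htab]
  have hT : ∀ x, F.amap w (F.amap w x + 1) = F.amap (w * z ^ 1 * w) x := fun x => by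
    rw [F.amap_mul (H.mul_mem F.memw (H.pow_mem F.memz 1)) F.memw, F.amap_mul F.memw (H.pow_mem F.memz 1),
      F.amap_zpow, Nat.cast_one]
  have hmem : w * z ^ 1 * w ∈ H := H.mul_mem (H.mul_mem F.memw (H.pow_mem F.memz 1)) F.memw
  rcases F.amap_form hmem with ⟨i, j, hij⟩ | ⟨i, k, j, hij⟩
  · exact isForm_of_affine i j fun x => (hT x).trans (hij x)
  · exact isForm_of_double i k j fun x => (hT x).trans (hij x)

/-- Replacing the involution. -/
theorem Frame.change_w (F : Frame z h w H c) (l : ℕ) : Frame z h (h ^ l * w) H c where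
  order := F.order
  card_H := F.card_H
  oz := F.oz
  oh := F.oh
  ow := by
    have hw2 : w * w = 1 := by rw [← pow_two, ← F.ow]; exact pow_orderOf_eq_one w
    have hwh : w * h ^ l * w⁻¹ = (h ^ l)⁻¹ := by rw [conj_pow_eq', F.wh, inv_pow]
    refine orderOf_eq_prime ?_ fun e => ?_
    · rw [pow_two, show h ^ l * w * (h ^ l * w) = h ^ l * (w * h ^ l * w⁻¹) * (w * w) by group, hwh,
        hw2, mul_inv_cancel, one_mul]
    · have hd : orderOf w ∣ orderOf h := by
        rw [show w = (h ^ l)⁻¹ from eq_inv_of_mul_eq_one_right e, orderOf_inv]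
        exact orderOf_pow_dvd l
      rw [F.ow, F.oh] at hd
      norm_num at hd
  hz := F.hz
  wh := by
    rw [mul_inv_rev, show h ^ l * w * h * (w⁻¹ * (h ^ l)⁻¹) = h ^ l * (w * h * w⁻¹) * (h ^ l)⁻¹ by group,
      F.wh]
    group
  memz := F.memz
  memh := F.memh
  memw := H.mul_mem (H.pow_mem F.memh l) F.memw
  form := by
    intro a ha
    obtain ⟨i, j, rfl | ⟨k, rfl⟩⟩ := F.form a ha
    · exact ⟨i, j, Or.inl rfl⟩
    · refine ⟨i, j + 4 * l, Or.inr ⟨k, ?_⟩⟩
      have e : h ^ (4 * l) * h ^ l = 1 := by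
        rw [← pow_add, show 4 * l + l = 5 * l by ring, pow_mul, ← F.oh, pow_orderOf_eq_one, one_pow]
      rw [pow_add, show z ^ i * (h ^ j * h ^ (4 * l)) * (h ^ l * w) = z ^ i * h ^ j * (h ^ (4 * l) * h ^ l) * w
        by group, e, mul_one]
  hfix := F.hfix
  cne := F.cne
  zfix := F.zfix

/-- Replacing the Sylow generator by its inverse. -/
theorem Frame.change_z (F : Frame z h w H c) : Frame (z ^ 10) h w H c where
  order := F.order
  card_H := F.card_H
  oz := by rw [orderOf_pow, F.oz]; norm_num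
  oh := F.oh
  ow := F.ow
  hz := by rw [conj_pow_eq', F.hz, ← pow_mul, ← pow_mul]
  wh := F.wh
  memz := H.pow_mem F.memz 10
  memh := F.memh
  memw := F.memw
  form := by
    intro a ha
    have e : ∀ i : ℕ, z ^ i = (z ^ 10) ^ (10 * i) := fun i => by
      rw [← pow_mul, ← pow_mod_orderOf z (10 * (10 * i)), ← pow_mod_orderOf z i, F.oz]
      congr 1
      omega
    obtain ⟨i, j, rfl | ⟨k, rfl⟩⟩ := F.form a ha
    · exact ⟨10 * i, j, Or.inl (by rw [← e])⟩
    · exact ⟨10 * i, j, Or.inr ⟨10 * k, by rw [← e, ← e]⟩⟩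
  hfix := F.hfix
  cne := F.cne
  zfix := fun p hp => by
    refine F.zfix p ?_
    have : (z ^ 10) ^ 10 ∈ MulAction.stabilizer G p := Subgroup.pow_mem _ hp 10
    rwa [← pow_mul, ← pow_mod_orderOf, F.oz, show 10 * 10 % 11 = 1 from rfl, pow_one] at this

theorem pt_change (F : Frame z h w H c) (x : ZMod 11) : pt (z ^ 10) c (some x) = pt z c (some (-x)) := by
  show (z ^ 10) ^ x.val • c = z ^ (-x).val • c
  rw [← pow_mul, F.pow_cast, Nat.cast_mul, ZMod.natCast_zmod_val, show ((10 : ℕ) : ZMod 11) = -1 by decide,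
    neg_one_mul]

/-- A frame with the involution in standard position. -/
theorem Frame.exists_standard (F : Frame z h w H c) :
    ∃ z' w', ∃ F' : Frame z' h w' H c, ∀ x, F'.amap w' x = w0 x := by
  -- scaling: the parameters are multiplied by a power of three
  have scale : ∀ {z₁ w₁ : G} (F₁ : Frame z₁ h w₁ H c), (F₁.amap w₁ 1, F₁.amap w₁ 10) ∈
      [((1 : ZMod 11), (6 : ZMod 11)), (3, 7), (4, 2), (5, 8), (9, 10)] →
      ∃ z' w', ∃ F' : Frame z' h w' H c, ∀ x, F'.amap w' x = w0 x := by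
    intro z₁ w₁ F₁ hm
    have hsc : ∀ p ∈ [((1 : ZMod 11), (6 : ZMod 11)), (3, 7), (4, 2), (5, 8), (9, 10)],
        ∃ l < 5, (3 : ZMod 11) ^ l * p.1 = 1 ∧ (3 : ZMod 11) ^ l * p.2 = 6 := by decide +kernel
    obtain ⟨l, -, h1, h2⟩ := hsc _ hm
    refine ⟨z₁, h ^ l * w₁, F₁.change_w l, fun x => ?_⟩
    have hv : ∀ y, (F₁.change_w l).amap (h ^ l * w₁) y = 3 ^ l * F₁.amap w₁ y := fun y => by
      refine (F₁.change_w l).amap_unique (F₁.change_w l).memw ?_
      rw [F₁.amap_spec (H.mul_mem (H.pow_mem F₁.memh l) F₁.memw), F₁.amap_mul (H.pow_mem F₁.memh l) F₁.memw,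
        F₁.amap_hpow]
    rw [(F₁.change_w l).amap_w x, hv 1, hv 10, h1, h2]
    rfl
  have hsplit : ∀ p ∈ survivors, p ∈ [((1 : ZMod 11), (6 : ZMod 11)), (3, 7), (4, 2), (5, 8), (9, 10)] ∨
      (-p.2, -p.1) ∈ [((1 : ZMod 11), (6 : ZMod 11)), (3, 7), (4, 2), (5, 8), (9, 10)] := by decide +kernel
  rcases hsplit _ F.w_params with hc | hc
  · exact scale F hc
  · refine scale F.change_z ?_
    have hv : ∀ y, F.change_z.amap w y = -F.amap w (-y) := fun y => by
      refine F.change_z.amap_unique F.memw ?_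
      rw [pt_change F, pt_change F, neg_neg, F.amap_spec F.memw]
    rw [hv 1, hv 10, show (-1 : ZMod 11) = 10 by decide, show (-10 : ZMod 11) = 1 by decide]
    exact hc

theorem Frame.no_order_four (F : Frame z h w H c) (hw0 : ∀ x, F.amap w x = w0 x)
    (hfaith : ∀ a : G, (∀ p : G ⧸ H, a • p = p) → a = 1) {a : G} (ha : a ∈ H) (h4 : a ^ 4 = 1) :
    a ^ 2 = 1 := by
  have hT4 : ∀ x, F.amap a (F.amap a (F.amap a (F.amap a x))) = x := fun x => by
    rw [← F.amap_mul ha ha, ← F.amap_mul ha ha,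
      ← F.amap_mul (H.mul_mem ha ha) (H.mul_mem ha ha)]
    rw [show a * a * (a * a) = a ^ 4 by simp only [pow_succ, pow_zero, one_mul, mul_assoc], h4, F.amap_one]
  have hT2 : ∀ x, F.amap a (F.amap a x) = x := by
    rcases F.amap_form ha with ⟨i, j, hij⟩ | ⟨i, k, j, hij⟩
    · exact affine_no_four i j _ hij hT4
    · exact double_no_four i k j _ (fun x => (hij x).trans (by rw [hw0])) hT4
  refine hfaith _ fun p => ?_
  obtain ⟨y, rfl⟩ := F.pt_bijective.2 p
  cases y with
  | none => exact smul_base (H.pow_mem ha 2)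
  | some x => rw [pow_two, F.amap_spec (H.mul_mem ha ha), F.amap_mul ha ha, hT2]

end Coords

section Main

variable {G : Type*} [Group G] [Fintype G] [IsSimpleGroup G]
variable (hG : Nat.card G = 7920)
include hG

/-- An element squaring to a given inverting involution and inducing squaring. -/
theorem exists_root {h w : G} (ho : orderOf h = 5) (hw : orderOf w = 2) (hwh : w * h * w⁻¹ = h⁻¹) :
    ∃ g : G, g * h * g⁻¹ = h ^ 2 ∧ g * g = w := by
  obtain ⟨T⟩ := exists_tbl hG
  have : Fact (Nat.Prime 5) := ⟨Nat.prime_five⟩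
  obtain ⟨P, hP⟩ := exists_sylow_mem ho
  have hN := (five_values hG T.d_t1 P).2.1
  set N := Subgroup.normalizer ((P : Subgroup G) : Set G) with hNdef
  have hPh : Subgroup.zpowers h = (P : Subgroup G) :=
    Subgroup.eq_of_le_of_card_ge (Subgroup.zpowers_le.2 hP)
      (by rw [Nat.card_zpowers, ho, card_sylow hG (Or.inr rfl) P])
  have hh5 : h ^ 5 = 1 := by rw [← ho]; exact pow_orderOf_eq_one h
  have hcent : ∀ x : G, x * h * x⁻¹ = h → ∃ i : ℕ, x = h ^ i := by
    intro x hx
    have hsub : Subgroup.zpowers h = Subgroup.centralizer ({h} : Set G) :=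
      Subgroup.eq_of_le_of_card_ge (Subgroup.zpowers_le.2 (Subgroup.mem_centralizer_singleton_iff.2 rfl))
        (by rw [card_centralizer_five hG T ho, Nat.card_zpowers, ho])
    have hxm : x ∈ Subgroup.zpowers h := by
      rw [hsub, Subgroup.mem_centralizer_singleton_iff]
      exact mul_inv_eq_iff_eq_mul.1 hx
    obtain ⟨i, -, hi⟩ := Finset.mem_image.1 (mem_zpowers_iff_mem_range_orderOf.1 hxm)
    exact ⟨i, hi.symm⟩
  -- some element squares
  obtain ⟨y, hy⟩ : ∃ y : G, y * h * y⁻¹ = h ^ 2 := by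
    by_contra hno
    push Not at hno
    have hcase : ∀ x ∈ N, x * h * x⁻¹ = h ∨ x * h * x⁻¹ = h⁻¹ := by
      intro x hx
      have hm := (Subgroup.mem_normalizer_iff.1 hx h).1 hP
      rw [← hPh] at hm
      obtain ⟨a, ha, hpa⟩ := Finset.mem_image.1 (mem_zpowers_iff_mem_range_orderOf.1 hm)
      rw [ho, Finset.mem_range] at ha
      interval_cases a
      · exfalso
        rw [pow_zero, eq_comm, conj_eq_one_iff] at hpa
        rw [hpa, orderOf_one] at ho
        norm_num at ho
      · exact Or.inl (by rw [← hpa, pow_one])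
      · exact absurd hpa.symm (hno x)
      · refine absurd ?_ (hno x⁻¹)
        rw [inv_inv]
        have h3 := conj_iterate hpa.symm 1
        have e : h = x⁻¹ * h ^ 3 * x := by rw [hpa]; group
        have e6 : h ^ 2 = x⁻¹ * h ^ (3 * 2) * x := by
          conv_lhs => rw [e]
          rw [pow_mul, pow_two, pow_two]; group
        rw [e6, show (3 * 2 : ℕ) = 5 + 1 from rfl, pow_add, hh5, one_mul, pow_one]
      · exact Or.inr (by rw [← hpa]; exact eq_inv_of_mul_eq_one_left (by rw [← pow_succ, hh5]))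
    have hsub : subFinset N ⊆ (subFinset (Subgroup.zpowers h)) ∪
        (subFinset (Subgroup.zpowers h)).image (w * ·) := by
      intro x hx
      rcases hcase x (mem_subFinset.1 hx) with e | e
      · obtain ⟨i, rfl⟩ := hcent x e
        exact Finset.mem_union_left _ (mem_subFinset.2 (Subgroup.pow_mem _ (Subgroup.mem_zpowers h) i))
      · obtain ⟨i, hi⟩ := hcent (w⁻¹ * x) (by
          rw [mul_inv_rev, inv_inv, show w⁻¹ * x * h * (x⁻¹ * w) = w⁻¹ * (x * h * x⁻¹) * w by group, e,
            ← hwh]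
          group)
        refine Finset.mem_union_right _ (Finset.mem_image.2 ⟨h ^ i, mem_subFinset.2
          (Subgroup.pow_mem _ (Subgroup.mem_zpowers h) i), ?_⟩)
        rw [← hi, mul_inv_cancel_left]
    have hle := (Finset.card_le_card hsub).trans (Finset.card_union_le _ _)
    rw [Finset.card_image_of_injective _ (mul_right_injective w), card_subFinset, card_subFinset, hN,
      Nat.card_zpowers, ho] at hle
    omega
  have hy2 : y * y * h * (y * y)⁻¹ = h⁻¹ := by
    have h3 := conj_iterate hy 2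
    rw [pow_two] at h3
    rw [h3]
    exact eq_inv_of_mul_eq_one_left (by rw [← pow_succ]; exact hh5)
  obtain ⟨i, hi⟩ := hcent (w⁻¹ * (y * y)) (by
    rw [mul_inv_rev, inv_inv, show w⁻¹ * (y * y) * h * ((y * y)⁻¹ * w) = w⁻¹ * (y * y * h * (y * y)⁻¹) * w
      by group, hy2, ← hwh]
    group)
  refine ⟨h ^ (3 * i) * y * (h ^ (3 * i))⁻¹, ?_, ?_⟩
  · rw [show h ^ (3 * i) * y * (h ^ (3 * i))⁻¹ * h * (h ^ (3 * i) * y * (h ^ (3 * i))⁻¹)⁻¹ =
      h ^ (3 * i) * (y * ((h ^ (3 * i))⁻¹ * h * h ^ (3 * i)) * y⁻¹) * (h ^ (3 * i))⁻¹ by group,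
      show (h ^ (3 * i))⁻¹ * h * h ^ (3 * i) = h by group, hy]
    group
  · rw [show h ^ (3 * i) * y * (h ^ (3 * i))⁻¹ * (h ^ (3 * i) * y * (h ^ (3 * i))⁻¹) =
      h ^ (3 * i) * (w * (w⁻¹ * (y * y))) * (h ^ (3 * i))⁻¹ by group, hi]
    have hwp : w * (h ^ (3 * i))⁻¹ * w⁻¹ = h ^ (3 * i) := by
      rw [← inv_pow, conj_pow_eq', show w * h⁻¹ * w⁻¹ = (w * h * w⁻¹)⁻¹ by group, hwh, inv_inv]
    have hwq : h ^ (3 * i) * w = w * (h ^ (3 * i))⁻¹ := (mul_inv_eq_iff_eq_mul.1 hwp).symm
    rw [show h ^ (3 * i) * (w * h ^ i) * (h ^ (3 * i))⁻¹ = (h ^ (3 * i) * w) * (h ^ i * (h ^ (3 * i))⁻¹) by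
      group, hwq, mul_assoc]
    have h5i : (h ^ (3 * i))⁻¹ * (h ^ i * (h ^ (3 * i))⁻¹) = 1 := by
      rw [inv_mul_eq_one, eq_mul_inv_iff_mul_eq, ← pow_add, show 3 * i + 3 * i = 5 * i + i by ring,
        pow_add, pow_mul, hh5, one_pow, one_mul]
    rw [h5i, mul_one]

/-- The permutations of the generators. -/
theorem exists_coordinates : ∃ (Φ : G →* Equiv.Perm (Option (ZMod 11))) (z h w g : G),
    Function.Injective Φ ∧ Subgroup.closure ({z, h, w, g} : Set G) = ⊤ ∧
      (∀ p, Φ z p = p.map (· + 1)) ∧ (∀ p, Φ h p = p.map (3 * ·)) ∧ (∀ p, Φ w p = p.map w0) ∧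
      ∀ p, Φ g p = p.elim (some 0) fun x => if x = 0 then none else some (g0 x) := by
  obtain ⟨z₀, h, w₀, H, hz, hh, hw, hhz, hwh, hcard, mz, mh, mw, hform⟩ := exists_index_twelve hG
  have hidx : H.index = 12 := by
    have := H.card_mul_index
    rw [hcard, hG] at this
    omega
  let act : G →* Equiv.Perm (G ⧸ H) := MulAction.toPermHom G (G ⧸ H)
  have hfaith : ∀ a : G, (∀ p : G ⧸ H, a • p = p) → a = 1 := by
    intro a ha
    have hm : a ∈ act.ker := Equiv.ext ha
    rcases Subgroup.Normal.eq_bot_or_eq_top (inferInstance : act.ker.Normal) with e | e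
    · rwa [e, Subgroup.mem_bot] at hm
    · exfalso
      have htop : H = ⊤ := eq_top_iff.2 fun x _ => by
        have hx : act x⁻¹ = 1 := (MonoidHom.mem_ker).1 (by rw [e]; trivial)
        have h1 : x⁻¹ • ((1 : G) : G ⧸ H) = ((1 : G) : G ⧸ H) :=
          show act x⁻¹ ((1 : G) : G ⧸ H) = _ by rw [hx]; rfl
        rw [MulAction.Quotient.smul_coe, QuotientGroup.eq] at h1
        simpa using h1
      rw [htop, Subgroup.card_top, hG] at hcard
      norm_num at hcard
  have : Fintype (G ⧸ H) := Fintype.ofFinite _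
  have hcard12 : Fintype.card (G ⧸ H) = 12 := by
    rw [← Nat.card_eq_fintype_card, ← Subgroup.index_eq_card, hidx]
  -- fixed points of the Sylow generator
  have hzfix : ∀ p : G ⧸ H, z₀ • p = p → p = ((1 : G) : G ⧸ H) := by
    intro p hp
    have : Fact (Nat.Prime 11) := ⟨by norm_num⟩
    obtain ⟨g, rfl⟩ := QuotientGroup.mk_surjective p
    rw [MulAction.Quotient.smul_coe, smul_eq_mul, eq_comm, QuotientGroup.eq, ← mul_assoc] at hp
    obtain ⟨P, hP⟩ := exists_sylow_mem hz
    obtain ⟨-, hN, -⟩ := eleven_values hG P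
    have hPz : Subgroup.zpowers z₀ = (P : Subgroup G) :=
      Subgroup.eq_of_le_of_card_ge (Subgroup.zpowers_le.2 hP)
        (by rw [Nat.card_zpowers, hz, card_sylow hG (Or.inl rfl) P])
    -- the normaliser lies in `H`
    have hNH : ∀ x : G, x * z₀ * x⁻¹ ∈ Subgroup.zpowers z₀ → x ∈ H := by
      intro x hx
      obtain ⟨a, ha, hpa⟩ := Finset.mem_image.1 (mem_zpowers_iff_mem_range_orderOf.1 hx)
      rw [hz, Finset.mem_range] at ha
      have hxN : x ∈ Subgroup.normalizer ((P : Subgroup G) : Set G) := by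
        rw [← hPz]
        have hmap : (Subgroup.zpowers z₀).map (MulAut.conj x).toMonoidHom = Subgroup.zpowers z₀ := by
          refine Subgroup.eq_of_le_of_card_ge ?_ ?_
          · rw [MonoidHom.map_zpowers]
            exact Subgroup.zpowers_le.2 hx
          · rw [Subgroup.card_map_of_injective (MulAut.conj x).injective]
        rw [Subgroup.mem_normalizer_iff]
        intro y
        constructor
        · intro hy
          rw [← hmap]
          exact ⟨y, hy, rfl⟩
        · intro hy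
          rw [← hmap] at hy
          obtain ⟨y', hy', e⟩ := hy
          rwa [← (MulAut.conj x).injective e]
      let K : Subgroup G := Subgroup.normalizer ((P : Subgroup G) : Set G)
      have hmem : z₀ ∈ K ⊓ H ∧ h ∈ K ⊓ H := by
        refine ⟨⟨Subgroup.le_normalizer hP, mz⟩, ⟨?_, mh⟩⟩
        show h ∈ Subgroup.normalizer ((P : Subgroup G) : Set G)
        rw [← hPz, Subgroup.mem_normalizer_iff]
        intro y
        constructor
        · intro hy
          obtain ⟨n, -, rfl⟩ := Finset.mem_image.1 (mem_zpowers_iff_mem_range_orderOf.1 hy)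
          exact conj_mem_zpowers hhz n
        · intro hy
          obtain ⟨n, -, hn⟩ := Finset.mem_image.1 (mem_zpowers_iff_mem_range_orderOf.1 hy)
          have e : y = h⁻¹ * z₀ ^ n * h := by rw [hn]; group
          have e4 : h⁻¹ = h ^ 4 := by
            refine inv_eq_of_mul_eq_one_right ?_
            rw [← pow_succ', show 4 + 1 = orderOf h from hh.symm]
            exact pow_orderOf_eq_one h
          have e' : y = h ^ 4 * z₀ ^ n * (h ^ 4)⁻¹ := by rw [e, ← e4, inv_inv]
          rw [e']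
          exact conj_mem_zpowers (conj_iterate hhz 4) n
      have hd : (55 : ℕ) ∣ Nat.card (K ⊓ H : Subgroup G) := by
        have h1 := Subgroup.orderOf_dvd_natCard _ hmem.1
        have h2 := Subgroup.orderOf_dvd_natCard _ hmem.2
        rw [hz] at h1
        rw [hh] at h2
        exact Nat.Coprime.mul_dvd_of_dvd_of_dvd (by norm_num : Nat.Coprime 11 5) h1 h2
      have heq : K ⊓ H = K := Subgroup.eq_of_le_of_card_ge inf_le_left
        (hN.le.trans (Nat.le_of_dvd Nat.card_pos hd))
      exact (heq.symm.le hxN).2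
    -- conjugate inside `H`
    have hconj : orderOf (g⁻¹ * z₀ * g) = 11 := by
      have e := orderOf_conj_eq' g⁻¹ z₀
      rwa [inv_inv, hz] at e
    have h660 : (Nat.card H).factorization 11 = 1 := by
      rw [hcard, show (660 : ℕ) = 11 ^ 1 * 60 from rfl, Nat.factorization_mul (by norm_num) (by norm_num),
        Finsupp.add_apply, Nat.Prime.factorization_pow (by norm_num), Finsupp.single_eq_same,
        Nat.factorization_eq_zero_of_not_dvd (by norm_num : ¬ 11 ∣ 60)]
    have hsyl : ∀ Z : H, orderOf Z = 11 → ∃ S : Sylow 11 H, (S : Subgroup H) = Subgroup.zpowers Z :=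
      fun Z hZ => ⟨Sylow.ofCard (Subgroup.zpowers Z) (by rw [Nat.card_zpowers, hZ, h660, pow_one]), rfl⟩
    obtain ⟨S, hS⟩ := hsyl ⟨g⁻¹ * z₀ * g, hp⟩ (by rw [← Subgroup.orderOf_coe]; exact hconj)
    obtain ⟨R, hR⟩ := hsyl ⟨z₀, mz⟩ (by rw [← Subgroup.orderOf_coe]; exact hz)
    obtain ⟨d, hd⟩ := MulAction.exists_smul_eq H S R
    have hmem : d * ⟨g⁻¹ * z₀ * g, hp⟩ * d⁻¹ ∈ Subgroup.zpowers (⟨z₀, mz⟩ : H) := by
      rw [← hR, ← hd, Sylow.coe_subgroup_smul, hS]
      exact Subgroup.smul_mem_pointwise_smul _ (MulAut.conj d) _ (Subgroup.mem_zpowers _)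
    obtain ⟨n, hn⟩ := Subgroup.mem_zpowers_iff.1 hmem
    have hn' := congrArg Subtype.val hn
    simp only [SubgroupClass.coe_zpow, Subgroup.coe_mul, Subgroup.coe_inv] at hn'
    have hdg : (d : G) * g⁻¹ ∈ H := hNH _ ⟨n, by
      show z₀ ^ n = _
      rw [hn']; group⟩
    rw [QuotientGroup.eq, mul_one]
    exact (H.mul_mem_cancel_left d.2).1 hdg
  -- a second fixed point of `h`
  obtain ⟨c, hc, hcne⟩ : ∃ c : G ⧸ H, h • c = c ∧ c ≠ ((1 : G) : G ⧸ H) := by
    have : Fact (Nat.Prime 5) := ⟨Nat.prime_five⟩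
    have hp5 : IsPGroup 5 (Subgroup.zpowers h) :=
      IsPGroup.of_card (n := 1) (by rw [Nat.card_zpowers, hh, pow_one])
    have hmod := hp5.card_modEq_card_fixedPoints (α := G ⧸ H)
    rw [Nat.card_eq_fintype_card, hcard12] at hmod
    by_contra hno
    push Not at hno
    have hle : Nat.card (MulAction.fixedPoints (Subgroup.zpowers h) (G ⧸ H)) ≤ 1 := by
      rw [Finite.card_le_one_iff_subsingleton]
      refine ⟨fun a b => Subtype.ext ?_⟩
      rw [hno _ (a.2 ⟨h, Subgroup.mem_zpowers h⟩), hno _ (b.2 ⟨h, Subgroup.mem_zpowers h⟩)]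
    unfold Nat.ModEq at hmod
    omega
  have F₀ : Frame z₀ h w₀ H c :=
    ⟨hG, hcard, hz, hh, hw, hhz, hwh, mz, mh, mw, hform, hc, hcne, hzfix⟩
  obtain ⟨z, w, F, hw0⟩ := F₀.exists_standard
  obtain ⟨g, hgh, hgg⟩ := exists_root hG F.oh F.ow F.wh
  -- `g` has order four, and fixes no point
  have hg4 : g ^ 4 = 1 ∧ g ^ 2 ≠ 1 := by
    refine ⟨?_, fun e => ?_⟩
    · rw [show g ^ 4 = (g * g) ^ 2 by rw [← pow_two, ← pow_mul], hgg, ← F.ow]
      exact pow_orderOf_eq_one w
    · have := F.ow
      rw [← hgg, ← pow_two, e, orderOf_one] at this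
      norm_num at this
  have hnofix : ∀ p : G ⧸ H, g • p ≠ p := by
    intro p hp
    obtain ⟨a, rfl⟩ := QuotientGroup.mk_surjective p
    rw [MulAction.Quotient.smul_coe, smul_eq_mul, eq_comm, QuotientGroup.eq, ← mul_assoc] at hp
    have hcp : ∀ n : ℕ, (a⁻¹ * g * a) ^ n = a⁻¹ * g ^ n * a := fun n => by
      rw [show a⁻¹ * g * a = a⁻¹ * g * a⁻¹⁻¹ by rw [inv_inv], conj_pow, inv_inv]
    refine hg4.2 ?_
    have h2 := F.no_order_four hw0 hfaith hp (by rw [hcp, hg4.1]; group)
    rw [hcp] at h2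
    calc g ^ 2 = a * (a⁻¹ * g ^ 2 * a) * a⁻¹ := by group
      _ = 1 := by rw [h2]; group
  have hgfix : ∀ p : G ⧸ H, h • p = p → h • (g • p) = g • p := by
    intro p hp
    have h5 : h ^ 5 = 1 := by rw [← F.oh]; exact pow_orderOf_eq_one h
    have e2 : (h ^ 2) • (g • p) = g • p := by
      rw [← hgh, ← mul_smul, inv_mul_cancel_right, mul_smul, hp]
    have : (h ^ 2) ^ 3 ∈ MulAction.stabilizer G (g • p) := Subgroup.pow_mem _ e2 3
    rwa [← pow_mul, show 2 * 3 = 5 + 1 from rfl, pow_add, h5, one_mul, pow_one] at this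
  have hg_base : g • ((1 : G) : G ⧸ H) = c :=
    (F.fix_h (hgfix _ (smul_base F.memh))).resolve_left (hnofix _)
  have hg_c : g • c = ((1 : G) : G ⧸ H) := (F.fix_h (hgfix _ F.hfix)).resolve_right (hnofix _)
  have hg_some : ∀ x : ZMod 11, x ≠ 0 → ∃ y : ZMod 11, y ≠ 0 ∧ g • pt z c (some x) = pt z c (some y) := by
    intro x hx
    obtain ⟨y, hy⟩ := F.pt_bijective.2 (g • pt z c (some x))
    cases y with
    | none =>
      exfalso
      have h1 : g • pt z c (some x) = g • c := by rw [hg_c, ← hy]; rfl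
      have h2 : pt z c (some x) = pt z c (some 0) := by
        rw [smul_left_cancel g h1]
        show c = z ^ (0 : ZMod 11).val • c
        rw [ZMod.val_zero, pow_zero, one_smul]
      exact hx (Option.some_injective _ (F.pt_bijective.1 h2))
    | some y =>
      refine ⟨y, fun e => ?_, hy.symm⟩
      have h1 : g • pt z c (some x) = g • ((1 : G) : G ⧸ H) := by
        rw [hg_base, ← hy, e]
        show z ^ (0 : ZMod 11).val • c = c
        rw [ZMod.val_zero, pow_zero, one_smul]
      have h2 : pt z c (some x) = pt z c none := smul_left_cancel g h1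
      simpa using F.pt_bijective.1 h2
  choose gm hgm0 hgm using hg_some
  let G1 : ZMod 11 → ZMod 11 := fun x => if hx : x = 0 then 0 else gm x hx
  have hG1 : ∀ x, x ≠ 0 → G1 x ≠ 0 ∧ g • pt z c (some x) = pt z c (some (G1 x)) := fun x hx => by
    simp only [G1, dif_neg hx]
    exact ⟨hgm0 x hx, hgm x hx⟩
  have hG1mul : ∀ x, G1 (3 * x) = 9 * G1 x := by
    intro x
    by_cases hx : x = 0
    · subst hx
      simp [G1]
    have hx3 : (3 : ZMod 11) * x ≠ 0 := by
      have : ∀ y : ZMod 11, y ≠ 0 → 3 * y ≠ 0 := by decide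
      exact this x hx
    refine Option.some_injective _ (F.pt_bijective.1 ?_)
    rw [← (hG1 _ hx3).2, ← F.amap_h, ← F.amap_spec F.memh, ← mul_smul,
      show g * h = h ^ 2 * g from mul_inv_eq_iff_eq_mul.1 hgh, mul_smul, (hG1 x hx).2,
      F.amap_spec (H.pow_mem F.memh 2), F.amap_hpow]
    exact congrArg (fun m => pt z c (some (m * G1 x))) (show (3 : ZMod 11) ^ 2 = 9 by decide)
  have htab : ∀ x, G1 x = tab 9 (G1 1) (G1 10) x := eq_tab 9 G1 (by simp [G1]) hG1mul
  have htab' : G1 = tab 9 (G1 1) (G1 10) := funext htab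
  obtain ⟨t7, s9⟩ := g0_unique (G1 1) (G1 10) (hG1 1 (by decide)).1 (hG1 10 (by decide)).1
    (fun x hx => by
      rw [← htab']
      refine Option.some_injective _ (F.pt_bijective.1 ?_)
      rw [← (hG1 _ (hG1 x hx).1).2, ← (hG1 x hx).2, ← mul_smul, hgg, F.amap_spec F.memw, hw0])
    (fun x hx e => by
      rw [← htab'] at e
      refine hnofix _ ((hG1 x hx).2.trans ?_)
      rw [e])
  have hG1g0 : ∀ x, G1 x = g0 x := fun x => by rw [htab, t7, s9]; rfl
  -- the representation
  let Φ : G →* Equiv.Perm (Option (ZMod 11)) :=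
    (Equiv.permCongrHom F.coords.symm).toMonoidHom.comp act
  have hΦ : ∀ a p q, a • pt z c p = pt z c q → Φ a p = q := fun a p q e => by
    show F.coords.symm (a • F.coords p) = q
    rw [Equiv.symm_apply_eq]
    exact e
  refine ⟨Φ, z, h, w, g, ?_, ?_, fun p => ?_, fun p => ?_, fun p => ?_, fun p => ?_⟩
  · refine (injective_iff_map_eq_one Φ).2 fun a ha => hfaith a fun p => ?_
    obtain ⟨q, rfl⟩ := F.pt_bijective.2 p
    have h1 : F.coords.symm (a • F.coords q) = q := congrFun (congrArg DFunLike.coe ha) q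
    rw [Equiv.symm_apply_eq] at h1
    exact h1
  · set K := Subgroup.closure ({z, h, w, g} : Set G) with hK
    have kz : z ∈ K := Subgroup.subset_closure (by simp)
    have kh : h ∈ K := Subgroup.subset_closure (by simp)
    have kw : w ∈ K := Subgroup.subset_closure (by simp)
    have kg : g ∈ K := Subgroup.subset_closure (by simp)
    have hHK : H ≤ K := fun a ha => by
      obtain ⟨i, j, rfl | ⟨k, rfl⟩⟩ := F.form a ha
      · exact K.mul_mem (K.pow_mem kz i) (K.pow_mem kh j)
      · exact K.mul_mem (K.mul_mem (K.mul_mem (K.pow_mem kz i) (K.pow_mem kh j)) kw) (K.pow_mem kz k)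
    refine eq_top_iff.2 fun a _ => ?_
    obtain ⟨p, hp⟩ := F.pt_bijective.2 ((a : G) : G ⧸ H)
    obtain ⟨k, hk, hka⟩ : ∃ k ∈ K, k • ((1 : G) : G ⧸ H) = (a : G ⧸ H) := by
      cases p with
      | none => exact ⟨1, K.one_mem, by rw [one_smul]; exact hp⟩
      | some x => exact ⟨z ^ x.val * g, K.mul_mem (K.pow_mem kz _) kg, by rw [mul_smul, hg_base]; exact hp⟩
    rw [MulAction.Quotient.smul_coe, QuotientGroup.eq, smul_eq_mul, mul_one] at hka
    rw [show a = k * (k⁻¹ * a) by group]
    exact K.mul_mem hk (hHK hka)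
  · refine hΦ z p _ ?_
    cases p with
    | none => exact smul_base F.memz
    | some x =>
      rw [F.amap_spec F.memz]
      refine congrArg (fun y => pt z c (some y)) ?_
      have h1 := F.amap_zpow 1 x
      rwa [pow_one, Nat.cast_one] at h1
  · refine hΦ h p _ ?_
    cases p with
    | none => exact smul_base F.memh
    | some x => rw [F.amap_spec F.memh, F.amap_h]; rfl
  · refine hΦ w p _ ?_
    cases p with
    | none => exact smul_base F.memw
    | some x => rw [F.amap_spec F.memw, hw0]; rfl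
  · refine hΦ g p _ ?_
    cases p with
    | none =>
      show g • ((1 : G) : G ⧸ H) = z ^ (0 : ZMod 11).val • c
      rw [hg_base, ZMod.val_zero, pow_zero, one_smul]
    | some x =>
      simp only [Option.elim_some]
      by_cases hx : x = 0
      · subst hx
        rw [if_pos rfl]
        show g • z ^ (0 : ZMod 11).val • c = ((1 : G) : G ⧸ H)
        rw [ZMod.val_zero, pow_zero, one_smul, hg_c]
      · rw [if_neg hx, (hG1 x hx).2, hG1g0]

omit hG in
/-- Simple groups of order `7920` are isomorphic. -/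
theorem nonempty_mulEquiv {G' : Type*} [Group G'] [Finite G'] [IsSimpleGroup G'] (hG : Nat.card G = 7920)
    (hG' : Nat.card G' = 7920) : Nonempty (G ≃* G') := by
  have := Fintype.ofFinite G'
  obtain ⟨Φ, z, h, w, g, hinj, hgen, ez, eh, ew, eg⟩ := exists_coordinates hG
  obtain ⟨Φ', z', h', w', g', hinj', hgen', ez', eh', ew', eg'⟩ := exists_coordinates hG'
  have hr : Φ.range = Φ'.range := by
    rw [MonoidHom.range_eq_map, MonoidHom.range_eq_map, ← hgen, ← hgen', MonoidHom.map_closure,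
      MonoidHom.map_closure]
    simp only [Set.image_insert_eq, Set.image_singleton]
    rw [show Φ z = Φ' z' from Equiv.ext fun p => (ez p).trans (ez' p).symm,
      show Φ h = Φ' h' from Equiv.ext fun p => (eh p).trans (eh' p).symm,
      show Φ w = Φ' w' from Equiv.ext fun p => (ew p).trans (ew' p).symm,
      show Φ g = Φ' g' from Equiv.ext fun p => (eg p).trans (eg' p).symm]
  exact ⟨(MonoidHom.ofInjective hinj).trans
    ((MulEquiv.subgroupCongr hr).trans (MonoidHom.ofInjective hinj').symm)⟩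

end Main

end CfsgLib.Blocks.Order7920
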