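import Cfsg.Agent.Lib.Blocks.Order7920.GraphNormal
import Cfsg.Agent.Lib.Orders.FrobeniusCount

/-!
# The count in a subgroup of index two with forty-five Sylow subgroups at eleven
-/

set_option autoImplicit false

namespace CfsgLib.Order7920Graph

open scoped Classical

variable {G : Type*} [Group G] [Finite G] {A : Set ℕ}

/-- A `p`-element normalizing a Sylow subgroup lies in it. -/
theorem mem_sylow {p : ℕ} [Fact p.Prime] (P : Sylow p G) {g : G} (hg : IsPGroup p (Subgroup.zpowers g))
    (hn : g ∈ Subgroup.normalizer ((P : Subgroup G) : Set G)) : g ∈ (P : Subgroup G) := by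
  have h := P.3 (hg.to_sup_of_normal_right' P.2 (Subgroup.zpowers_le.2 hn)) le_sup_right
  rw [← h]
  exact (le_sup_left : Subgroup.zpowers g ≤ _) (Subgroup.mem_zpowers g)

theorem isPGroup_zpowers {p : ℕ} [Fact p.Prime] {g : G} (hg : orderOf g = p) :
    IsPGroup p (Subgroup.zpowers g) :=
  IsPGroup.of_card (n := 1) (by rw [Nat.card_zpowers, hg, pow_one])

theorem zpowers_eq_sylow {p : ℕ} [Fact p.Prime] (P : Sylow p G) (hP : Nat.card (P : Subgroup G) = p)
    {y : G} (hy : orderOf y = p) (hc : y ∈ Subgroup.centralizer ((P : Subgroup G) : Set G)) :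
    Subgroup.zpowers y = (P : Subgroup G) :=
  Subgroup.eq_of_le_of_card_ge (Subgroup.zpowers_le.2 (mem_sylow P (isPGroup_zpowers hy)
    (Subgroup.centralizer_le_normalizer _ hc))) (by rw [Nat.card_zpowers, hy, hP])

theorem card_lt {H K : Subgroup G} (h : H < K) : Nat.card H < Nat.card K :=
  lt_of_le_of_ne (Nat.le_of_dvd Nat.card_pos (Subgroup.card_dvd_of_le h.le))
    fun e => h.ne (Subgroup.eq_of_le_of_card_ge h.le e.ge)

variable (M : Subgroup G)

/-- The part of the centralizer of a Sylow subgroup inside `M`. -/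
def cm (P : Sylow 11 G) : Subgroup G := M ⊓ Subgroup.centralizer ((P : Subgroup G) : Set G)

/-- The part of the normalizer of a Sylow subgroup inside `M`. -/
def nm (P : Sylow 11 G) : Subgroup G := M ⊓ Subgroup.normalizer ((P : Subgroup G) : Set G)

/-- The invariants used by the count. -/
structure Inv (M : Subgroup G) : Prop where
  normal : M.Normal
  card : Nat.card M = 3960
  syl : ∀ P : Sylow 11 G, (P : Subgroup G) ≤ M
  cardP : ∀ P : Sylow 11 G, Nat.card (P : Subgroup G) = 11
  count : Nat.card (Sylow 11 G) = 45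
  cm44 : ∀ P : Sylow 11 G, Nat.card (cm M P) = 44
  nm88 : ∀ P : Sylow 11 G, Nat.card (nm M P) = 88
  five : Nat.card (Sylow 5 G) = 396
  five_le : ∀ Q : Sylow 5 G, (Q : Subgroup G) ≤ M
  cardQ : ∀ Q : Sylow 5 G, Nat.card (Q : Subgroup G) = 5
  no_common : ∀ u : G, (∀ P : Sylow 11 G, u ∈ Subgroup.centralizer ((P : Subgroup G) : Set G)) → u = 1

variable {M} (h : Inv M) [Fact (Nat.Prime 11)]
include h

theorem cm_le_nm (P : Sylow 11 G) : cm M P ≤ nm M P :=
  inf_le_inf_left _ (Subgroup.centralizer_le_normalizer _)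

theorem le_cm (P : Sylow 11 G) : (P : Subgroup G) ≤ cm M P := by
  have : IsCyclic (P : Subgroup G) := isCyclic_of_prime_card (h.cardP P)
  exact le_inf (h.syl P) fun g hg => Subgroup.mem_centralizer_iff.2 fun x hx =>
    congrArg Subtype.val (IsMulCommutative.is_comm.comm (⟨x, hx⟩ : (P : Subgroup G)) ⟨g, hg⟩)

/-- The elements of order dividing four in the centralizer form a commutative subgroup of order four. -/
theorem exists_four (P : Sylow 11 G) :
    ∃ U : Subgroup G, U ≤ cm M P ∧ Nat.card U = 4 ∧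
      (∀ x ∈ cm M P, x ∈ U ↔ x ^ 4 = 1) ∧ ∀ x ∈ U, ∀ y ∈ U, x * y = y * x := by
  have : Fact (Nat.Prime 2) := ⟨Nat.prime_two⟩
  obtain ⟨U₀, hU₀⟩ := Sylow.exists_subgroup_card_pow_prime (G := cm M P) 2 (n := 2)
    (by rw [h.cm44 P]; norm_num)
  refine ⟨U₀.map (cm M P).subtype, Subgroup.map_subtype_le U₀, ?_, fun x hx => ⟨?_, fun hx4 => ?_⟩, ?_⟩
  · rw [Subgroup.card_map_of_injective (cm M P).subtype_injective, hU₀]; norm_num
  · rintro ⟨y, hy, rfl⟩
    have := orderOf_dvd_iff_pow_eq_one.1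
      ((Subgroup.orderOf_dvd_natCard U₀ hy).trans (dvd_of_eq hU₀))
    simpa using congrArg Subtype.val this
  · set P' : Subgroup (cm M P) := (P : Subgroup G).subgroupOf (cm M P)
    have hP' : Nat.card P' = 11 := by
      rw [Nat.card_congr (Subgroup.subgroupOfEquivOfLe (le_cm h P)).toEquiv, h.cardP P]
    have hidx : P'.index = 4 := by
      have := P'.card_mul_index
      rw [hP', h.cm44 P] at this
      omega
    set S : Set (cm M P) := {y | y ^ 4 = 1}
    have hinj : Function.Injective fun y : S => ((y : cm M P) : (cm M P) ⧸ P') := by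
      intro y y' e
      have hp : ((y : cm M P)⁻¹ * y' : cm M P) ∈ P' := QuotientGroup.eq.1 e
      set p := ((y : cm M P)⁻¹ * y' : cm M P) with hp'
      have hc : Commute (y : cm M P) p := by
        refine Subtype.ext ?_
        exact ((Subgroup.mem_centralizer_iff.1 (y : cm M P).2.2) (p : G) (Subgroup.mem_subgroupOf.1 hp)).symm
      have h4 : p ^ 4 = 1 := by
        have e1 : ((y : cm M P) * p) ^ 4 = 1 := by rw [hp', mul_inv_cancel_left]; exact y'.2
        rwa [hc.mul_pow, show (y : cm M P) ^ 4 = 1 from y.2, one_mul] at e1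
      have h11 : p ^ 11 = 1 :=
        orderOf_dvd_iff_pow_eq_one.1 (hP' ▸ Subgroup.orderOf_dvd_natCard P' hp)
      have hp1 : p = 1 := by
        have : orderOf p ∣ Nat.gcd 4 11 :=
          Nat.dvd_gcd (orderOf_dvd_of_pow_eq_one h4) (orderOf_dvd_of_pow_eq_one h11)
        exact orderOf_eq_one_iff.1 (Nat.eq_one_of_dvd_one (by simpa using this))
      exact Subtype.ext (inv_mul_eq_one.1 hp1)
    have hle : Nat.card S ≤ 4 := by
      rw [← hidx, Subgroup.index_eq_card]
      exact Nat.card_le_card_of_injective _ hinj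
    have hsub : (U₀ : Set (cm M P)) ⊆ S := fun y hy =>
      orderOf_dvd_iff_pow_eq_one.1 ((Subgroup.orderOf_dvd_natCard U₀ hy).trans (dvd_of_eq hU₀))
    have heq : (U₀ : Set (cm M P)) = S := Set.eq_of_subset_of_ncard_le hsub (by
      rw [← Nat.card_coe_set_eq, ← Nat.card_coe_set_eq]
      calc Nat.card S ≤ 4 := hle
        _ = _ := hU₀.symm) (Set.toFinite S)
    have hmem : (⟨x, hx⟩ : cm M P) ∈ (U₀ : Set (cm M P)) := by
      rw [heq]; exact Subtype.ext hx4
    exact ⟨_, hmem, rfl⟩
  · have : IsMulCommutative U₀ := IsPGroup.isMulCommutative_of_card_eq_prime_sq hU₀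
    rintro _ ⟨a, ha, rfl⟩ _ ⟨b, hb, rfl⟩
    exact congrArg Subtype.val
      (congrArg Subtype.val (IsMulCommutative.is_comm.comm (⟨a, ha⟩ : U₀) ⟨b, hb⟩))

/-- The centralizer part is commutative. -/
theorem cm_le_centralizer (P : Sylow 11 G) {u : G} (hu : u ∈ cm M P) (hu4 : u ^ 4 = 1) :
    cm M P ≤ Subgroup.centralizer ({u} : Set G) := by
  obtain ⟨U, hUle, hUc, hUiff, hUcomm⟩ := exists_four h P
  set D := cm M P ⊓ Subgroup.centralizer ({u} : Set G)
  have hPD : (P : Subgroup G) ≤ D := le_inf (le_cm h P) fun x hx =>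
    Subgroup.mem_centralizer_singleton_iff.2 (Subgroup.mem_centralizer_iff.1 hu.2 x hx)
  have hUD : U ≤ D := le_inf hUle fun x hx =>
    Subgroup.mem_centralizer_singleton_iff.2 (hUcomm x hx u ((hUiff u hu).2 hu4))
  have h1 := Subgroup.card_dvd_of_le hPD
  have h2 := Subgroup.card_dvd_of_le hUD
  rw [h.cardP P] at h1
  rw [hUc] at h2
  have h44 : 44 ∣ Nat.card D := (Nat.Coprime.mul_dvd_of_dvd_of_dvd (by norm_num) h1 h2 : 11 * 4 ∣ _)
  have := Subgroup.eq_of_le_of_card_ge (inf_le_left : D ≤ cm M P)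
    (by rw [h.cm44 P]; exact Nat.le_of_dvd Nat.card_pos h44)
  exact this.symm.le.trans inf_le_right

theorem orderOf_dvd_of_mem_cm {P : Sylow 11 G} {x : G} (hx : x ∈ cm M P) : orderOf x ∣ 44 :=
  h.cm44 P ▸ Subgroup.orderOf_dvd_natCard _ hx

theorem pow_four_of_pow_eight {P : Sylow 11 G} {x : G} (hx : x ∈ cm M P) (hx8 : x ^ 8 = 1) :
    x ^ 4 = 1 :=
  orderOf_dvd_iff_pow_eq_one.1
    (Nat.dvd_gcd (orderOf_dvd_of_mem_cm h hx) (orderOf_dvd_of_pow_eq_one hx8) : orderOf x ∣ Nat.gcd 44 8)

/-- A nontrivial element centralizes at most one Sylow subgroup at eleven. -/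
theorem unique_centralized {u : G} (hu1 : u ≠ 1) (hu8 : u ^ 8 = 1) {P P' : Sylow 11 G}
    (hu : u ∈ cm M P) (hu' : u ∈ cm M P') : P = P' := by
  have hu4 := pow_four_of_pow_eight h hu hu8
  set D := M ⊓ Subgroup.centralizer ({u} : Set G) with hD
  have hle : cm M P ≤ D := le_inf inf_le_left (cm_le_centralizer h P hu hu4)
  have hle' : (P' : Subgroup G) ≤ D :=
    le_inf (h.syl P') ((le_cm h P').trans (cm_le_centralizer h P' hu' hu4))
  let f : Sylow 11 D → Sylow 11 G := fun R => Sylow.ofCard ((R : Subgroup D).map D.subtype) (by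
    have h1 : Nat.card (P : Subgroup G) = 11 ^ (Nat.card G).factorization 11 := P.card_eq_multiplicity
    rw [Subgroup.card_map_of_injective D.subtype_injective, ← h1, h.cardP P]
    have hd : 11 ∣ Nat.card D := (h.cardP P ▸ Subgroup.card_dvd_of_le ((le_cm h P).trans hle))
    have hd2 : ¬ 11 ^ 2 ∣ Nat.card D := fun h2 => by
      have := h2.trans (Subgroup.card_dvd_of_le (inf_le_left : D ≤ M))
      rw [h.card] at this
      norm_num at this
    rw [R.card_eq_multiplicity]
    have h11 : Nat.Prime 11 := Fact.out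
    have e1 := (h11.pow_dvd_iff_le_factorization Nat.card_pos.ne').1 ((pow_one 11).symm ▸ hd)
    have e2 : ¬ 2 ≤ (Nat.card D).factorization 11 := fun e =>
      hd2 ((h11.pow_dvd_iff_le_factorization Nat.card_pos.ne').2 e)
    rw [show (Nat.card D).factorization 11 = 1 by omega, pow_one])
  have hfinj : Function.Injective f := fun R R' e => Sylow.ext
    (Subgroup.map_injective D.subtype_injective (congrArg (fun S : Sylow 11 G => (S : Subgroup G)) e :))
  let R : Sylow 11 D := P.subtype ((le_cm h P).trans hle)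
  let R' : Sylow 11 D := P'.subtype hle'
  have hfR : f R = P := Sylow.ext (Subgroup.map_subgroupOf_eq_of_le ((le_cm h P).trans hle))
  have hfR' : f R' = P' := Sylow.ext (Subgroup.map_subgroupOf_eq_of_le hle')
  have hn1 : Nat.card (Sylow 11 D) % 11 = 1 := card_sylow_modEq_one 11 D
  have hn2 : Nat.card (Sylow 11 D) * 44 ∣ 3960 := by
    have hN : (cm M P).subgroupOf D ≤ Subgroup.normalizer ((R : Subgroup D) : Set D) := by
      intro x hx
      refine Subgroup.centralizer_le_normalizer _ (Subgroup.mem_centralizer_iff.2 fun y hy => ?_)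
      exact Subtype.ext (Subgroup.mem_centralizer_iff.1 (Subgroup.mem_subgroupOf.1 hx).2 (y : G) hy)
    have h1 := Subgroup.card_dvd_of_le hN
    rw [Nat.card_congr (Subgroup.subgroupOfEquivOfLe hle).toEquiv, h.cm44 P] at h1
    have h2 := R.card_eq_index_normalizer
    have h3 := (Subgroup.normalizer ((R : Subgroup D) : Set D)).card_mul_index
    have h4 := Subgroup.card_dvd_of_le (inf_le_left : D ≤ M)
    rw [h.card, ← h3] at h4
    refine dvd_trans ?_ h4
    rw [mul_comm]
    exact Nat.mul_dvd_mul h1 (dvd_of_eq h2)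
  have hle45 : Nat.card (Sylow 11 D) ≤ 45 := h.count ▸ Nat.card_le_card_of_injective f hfinj
  have hcases : Nat.card (Sylow 11 D) = 1 ∨ Nat.card (Sylow 11 D) = 45 := by
    generalize Nat.card (Sylow 11 D) = n at hn1 hn2 hle45
    have hl : ∀ n < 46, n % 11 = 1 → n * 44 ∣ 3960 → n = 1 ∨ n = 45 := by decide +kernel
    exact hl n (by omega) hn1 hn2
  rcases hcases with e | e
  · have := (Nat.card_eq_one_iff_unique.1 e).1
    rw [← hfR, ← hfR', Subsingleton.elim R R']
  · refine absurd (h.no_common u fun S => ?_) hu1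
    obtain ⟨T, hT⟩ := ((Nat.bijective_iff_injective_and_card f).2 ⟨hfinj, e.trans h.count.symm⟩).2 S
    refine Subgroup.mem_centralizer_iff.2 fun x hx => ?_
    rw [← hT] at hx
    obtain ⟨y, -, rfl⟩ := hx
    exact Subgroup.mem_centralizer_singleton_iff.1 y.2.2

theorem exists_centralized [Fact (Nat.Prime 5)] [Fact (Nat.Prime 3)] {g : G} (hgM : g ∈ M)
    (hg8 : g ^ 8 = 1) (hg1 : g ≠ 1) : ∃ P : Sylow 11 G, g ∈ cm M P := by
  have := Fintype.ofFinite G
  have := Fintype.ofFinite (Sylow 11 G)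
  have := Fintype.ofFinite (Sylow 5 G)
  set sM := Finset.univ.filter (· ∈ M) with hsM
  set W := sM.filter fun x => x ^ 8 = 1 with hW
  set E := fun P : Sylow 11 G => Finset.univ.filter fun x => x ∈ cm M P ∧ 11 ∣ orderOf x with hE
  set V := fun P : Sylow 11 G => Finset.univ.filter fun x => x ∈ cm M P ∧ x ^ 4 = 1 ∧ x ≠ 1 with hV
  set F := fun Q : Sylow 5 G => Finset.univ.filter fun x => x ∈ (Q : Subgroup G) ∧ x ≠ 1 with hF
  set T := sM.filter fun x => x ^ 440 ≠ 1 with hT
  have hEcard : ∀ P, (E P).card = 40 ∧ (V P).card = 3 := by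
    intro P
    obtain ⟨U, hUle, hUc, hUiff, -⟩ := exists_four h P
    have h1 : (Finset.univ.filter (· ∈ cm M P)).card = 44 := by
      rw [← h.cm44 P, Nat.card_eq_fintype_card, Fintype.card_subtype]
    have h2 : (Finset.univ.filter (· ∈ U)).card = 4 := by
      rw [← hUc, Nat.card_eq_fintype_card, Fintype.card_subtype]
    have hsub : Finset.univ.filter (· ∈ U) ⊆ Finset.univ.filter (· ∈ cm M P) := fun x hx => by
      simp only [Finset.mem_filter, Finset.mem_univ, true_and] at hx ⊢; exact hUle hx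
    have eE : E P = Finset.univ.filter (· ∈ cm M P) \ Finset.univ.filter (· ∈ U) := by
      ext x
      simp only [hE, Finset.mem_filter, Finset.mem_univ, true_and, Finset.mem_sdiff]
      refine and_congr_right fun hx => ?_
      rw [hUiff x hx, ← orderOf_dvd_iff_pow_eq_one]
      have hd := orderOf_dvd_of_mem_cm h hx
      generalize orderOf x = o at hd
      have hl : ∀ o ∈ Nat.divisors 44, 11 ∣ o ↔ ¬ o ∣ 4 := by decide +kernel
      exact hl o (Nat.mem_divisors.2 ⟨hd, by norm_num⟩)
    have eV : V P = (Finset.univ.filter (· ∈ U)).erase 1 := by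
      ext x
      simp only [hV, Finset.mem_filter, Finset.mem_univ, true_and, Finset.mem_erase]
      exact ⟨fun ⟨a, b, c⟩ => ⟨c, (hUiff x a).2 b⟩,
        fun ⟨c, b⟩ => ⟨hUle b, (hUiff x (hUle b)).1 b, c⟩⟩
    rw [eE, eV, Finset.card_sdiff_of_subset hsub, h1, h2,
      Finset.card_erase_of_mem (by simp [one_mem]), h2]
    exact ⟨rfl, rfl⟩
  have hEd : ((Finset.univ : Finset (Sylow 11 G)) : Set (Sylow 11 G)).PairwiseDisjoint E := by
    intro P _ P' _ hne
    rw [Function.onFun, Finset.disjoint_left]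
    intro x hx hx'
    simp only [hE, Finset.mem_filter, Finset.mem_univ, true_and] at hx hx'
    have hy : orderOf (x ^ (orderOf x / 11)) = 11 :=
      orderOf_pow_orderOf_div (orderOf_pos x).ne' hx.2
    exact hne (Sylow.ext ((zpowers_eq_sylow P (h.cardP P) hy (Subgroup.pow_mem _ hx.1.2 _)).symm.trans
      (zpowers_eq_sylow P' (h.cardP P') hy (Subgroup.pow_mem _ hx'.1.2 _))))
  have hFd : ((Finset.univ : Finset (Sylow 5 G)) : Set (Sylow 5 G)).PairwiseDisjoint F := by
    intro Q _ Q' _ hne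
    rw [Function.onFun, Finset.disjoint_left]
    intro x hx hx'
    simp only [hF, Finset.mem_filter, Finset.mem_univ, true_and] at hx hx'
    have hord : orderOf x = 5 := ((Nat.dvd_prime (by norm_num)).1
      (h.cardQ Q ▸ Subgroup.orderOf_dvd_natCard _ hx.1)).resolve_left
        fun e => hx.2 (orderOf_eq_one_iff.1 e)
    have heq : ∀ R : Sylow 5 G, x ∈ (R : Subgroup G) → Subgroup.zpowers x = (R : Subgroup G) :=
      fun R hR => Subgroup.eq_of_le_of_card_ge (Subgroup.zpowers_le.2 hR)
        (by rw [Nat.card_zpowers, hord, h.cardQ R])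
    exact hne (Sylow.ext ((heq Q hx.1).symm.trans (heq Q' hx'.1)))
  have hVd : ((Finset.univ : Finset (Sylow 11 G)) : Set (Sylow 11 G)).PairwiseDisjoint V := by
    intro P _ P' _ hne
    rw [Function.onFun, Finset.disjoint_left]
    intro x hx hx'
    simp only [hV, Finset.mem_filter, Finset.mem_univ, true_and] at hx hx'
    exact hne (unique_centralized h hx.2.2 (by rw [show 8 = 4 * 2 by rfl, pow_mul, hx.2.1, one_pow])
      hx.1 hx'.1)
  have hEc : (Finset.univ.biUnion E).card = 1800 := by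
    rw [Finset.card_biUnion hEd, Finset.sum_congr rfl fun P _ => (hEcard P).1, Finset.sum_const,
      Finset.card_univ, ← Nat.card_eq_fintype_card, h.count]
    rfl
  have hVc : (Finset.univ.biUnion V).card = 135 := by
    rw [Finset.card_biUnion hVd, Finset.sum_congr rfl fun P _ => (hEcard P).2, Finset.sum_const,
      Finset.card_univ, ← Nat.card_eq_fintype_card, h.count]
    rfl
  have hFc : (Finset.univ.biUnion F).card = 1584 := by
    rw [Finset.card_biUnion hFd, Finset.sum_congr rfl fun (Q : Sylow 5 G) _ =>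
      show (F Q).card = 4 from ?_, Finset.sum_const, Finset.card_univ, ← Nat.card_eq_fintype_card, h.five]
    · rfl
    · have e : F Q = (Finset.univ.filter (· ∈ (Q : Subgroup G))).erase 1 := by
        ext x; simp [hF, and_comm]
      rw [e, Finset.card_erase_of_mem (by simp), ← Fintype.card_subtype, ← Nat.card_eq_fintype_card,
        h.cardQ Q]
  have hMc : sM.card = 3960 := by
    rw [← h.card, Nat.card_eq_fintype_card, Fintype.card_subtype]
  have hTc : 440 ≤ T.card := by
    have hd : 440 ∣ Nat.card {x : M // x ^ 440 = 1} :=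
      CfsgLib.Orders.dvd_card_pow_eq_one 440 (by rw [h.card]; norm_num)
    have e : Nat.card {x : M // x ^ 440 = 1} + T.card = 3960 := by
      have e1 : Nat.card {x : M // x ^ 440 = 1} = (sM.filter fun x => x ^ 440 = 1).card := by
        rw [← Nat.card_eq_finsetCard]
        exact Nat.card_congr
          { toFun := fun x => ⟨((x : M) : G), Finset.mem_filter.2 ⟨by simp [hsM], by
              simpa using congrArg Subtype.val x.2⟩⟩
            invFun := fun x => ⟨⟨(x : G), by simpa [hsM] using (Finset.mem_filter.1 x.2).1⟩,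
              Subtype.ext (Finset.mem_filter.1 x.2).2⟩
            left_inv := fun _ => rfl
            right_inv := fun _ => rfl }
      rw [e1, hT, Finset.card_filter_add_card_filter_not, hMc]
    have hpos : 0 < T.card := by
      obtain ⟨y, hy⟩ := exists_prime_orderOf_dvd_card' (G := M) 3 (by rw [h.card]; norm_num)
      refine Finset.card_pos.2 ⟨(y : G), Finset.mem_filter.2 ⟨by simp [hsM], fun e => ?_⟩⟩
      rw [← orderOf_dvd_iff_pow_eq_one, Subgroup.orderOf_coe, hy] at e
      norm_num at e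
    omega
  have hsubM : Finset.univ.biUnion E ⊆ sM ∧ Finset.univ.biUnion F ⊆ sM ∧ Finset.univ.biUnion V ⊆ W := by
    refine ⟨?_, ?_, ?_⟩
    · intro x hx
      simp only [Finset.mem_biUnion, hE, Finset.mem_filter, Finset.mem_univ, true_and] at hx
      obtain ⟨P, hx, -⟩ := hx
      exact Finset.mem_filter.2 ⟨Finset.mem_univ _, hx.1⟩
    · intro x hx
      simp only [Finset.mem_biUnion, hF, Finset.mem_filter, Finset.mem_univ, true_and] at hx
      obtain ⟨Q, hx, -⟩ := hx
      exact Finset.mem_filter.2 ⟨Finset.mem_univ _, h.five_le Q hx⟩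
    · intro x hx
      simp only [Finset.mem_biUnion, hV, Finset.mem_filter, Finset.mem_univ, true_and] at hx
      obtain ⟨P, hx, hx4, -⟩ := hx
      refine Finset.mem_filter.2 ⟨Finset.mem_filter.2 ⟨Finset.mem_univ _, hx.1⟩, ?_⟩
      rw [show 8 = 4 * 2 by rfl, pow_mul, hx4, one_pow]
  have hfive : ∀ x ∈ Finset.univ.biUnion F, orderOf x = 5 := by
    intro x hx
    simp only [Finset.mem_biUnion, hF, Finset.mem_filter, Finset.mem_univ, true_and] at hx
    obtain ⟨Q, hx, hx1⟩ := hx
    exact ((Nat.dvd_prime (by norm_num)).1 (h.cardQ Q ▸ Subgroup.orderOf_dvd_natCard _ hx)).resolve_left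
      fun e => hx1 (orderOf_eq_one_iff.1 e)
  have heleven : ∀ x ∈ Finset.univ.biUnion E, 11 ∣ orderOf x ∧ orderOf x ∣ 44 := by
    intro x hx
    simp only [Finset.mem_biUnion, hE, Finset.mem_filter, Finset.mem_univ, true_and] at hx
    obtain ⟨P, hx, h11⟩ := hx
    exact ⟨h11, orderOf_dvd_of_mem_cm h hx⟩
  have hWle : W.card ≤ 136 := by
    have hu : W ∪ (Finset.univ.biUnion E ∪ (Finset.univ.biUnion F ∪ T)) ⊆ sM :=
      Finset.union_subset (Finset.filter_subset _ _) (Finset.union_subset hsubM.1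
        (Finset.union_subset hsubM.2.1 (Finset.filter_subset _ _)))
    have := Finset.card_le_card hu
    rw [Finset.card_union_of_disjoint, Finset.card_union_of_disjoint, Finset.card_union_of_disjoint,
      hEc, hFc, hMc] at this
    · omega
    · rw [Finset.disjoint_left]
      intro x hx hx'
      refine (Finset.mem_filter.1 hx').2 (orderOf_dvd_iff_pow_eq_one.1 ?_)
      rw [hfive x hx]
      norm_num
    · rw [Finset.disjoint_left]
      intro x hx hx'
      obtain ⟨h11, h44⟩ := heleven x hx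
      rcases Finset.mem_union.1 hx' with h5 | h5
      · rw [hfive x h5] at h11; norm_num at h11
      · exact (Finset.mem_filter.1 h5).2 (orderOf_dvd_iff_pow_eq_one.1 (h44.trans (by norm_num)))
    · rw [Finset.disjoint_left]
      intro x hx hx'
      have h8 : orderOf x ∣ 8 := orderOf_dvd_of_pow_eq_one (Finset.mem_filter.1 hx).2
      rcases Finset.mem_union.1 hx' with h5 | h5
      · exact absurd ((heleven x h5).1.trans h8) (by norm_num)
      rcases Finset.mem_union.1 h5 with h5 | h5
      · rw [hfive x h5] at h8; norm_num at h8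
      · exact (Finset.mem_filter.1 h5).2 (orderOf_dvd_iff_pow_eq_one.1 (h8.trans (by norm_num)))
  have heq : insert 1 (Finset.univ.biUnion V) = W := by
    have h1 : (1 : G) ∈ W := by simp [hW, hsM, one_mem]
    have h1V : (1 : G) ∉ Finset.univ.biUnion V := by simp [hV]
    refine Finset.eq_of_subset_of_card_le (Finset.insert_subset h1 hsubM.2.2) ?_
    rw [Finset.card_insert_of_notMem h1V, hVc]
    exact hWle
  have hgW : g ∈ W := by simp [hW, hsM, hgM, hg8]
  rw [← heq, Finset.mem_insert, Finset.mem_biUnion] at hgW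
  obtain ⟨P, -, hP⟩ := hgW.resolve_left hg1
  simp only [hV, Finset.mem_filter, Finset.mem_univ, true_and] at hP
  exact ⟨P, hP.1⟩

/-- The centralizer in `M` of an element centralizing a Sylow subgroup normalizes it. -/
theorem centralizer_le_nm {g : G} (hg1 : g ≠ 1) (hg8 : g ^ 8 = 1) {P : Sylow 11 G} (hg : g ∈ cm M P) :
    M ⊓ Subgroup.centralizer ({g} : Set G) ≤ nm M P := by
  rintro x ⟨hxM, hx⟩
  refine ⟨hxM, ?_⟩
  have hxg : x * g = g * x := Subgroup.mem_centralizer_singleton_iff.1 hx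
  have hmem : g ∈ cm M (x • P) := by
    refine ⟨hg.1, Subgroup.mem_centralizer_iff.2 fun y hy => ?_⟩
    rw [SetLike.mem_coe, Sylow.coe_subgroup_smul] at hy
    obtain ⟨w, hw, rfl⟩ := hy
    show MulAut.conj x • w * g = g * (MulAut.conj x • w)
    rw [MulAut.smul_def, MulAut.conj_apply]
    have hwg : w * g = g * w := Subgroup.mem_centralizer_iff.1 hg.2 w hw
    have hxi : x⁻¹ * g = g * x⁻¹ := ((show Commute x g from hxg).inv_left).eq
    calc x * w * x⁻¹ * g = x * (w * g) * x⁻¹ := by rw [mul_assoc, hxi]; group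
      _ = x * g * (w * x⁻¹) := by rw [hwg]; group
      _ = g * (x * w * x⁻¹) := by rw [hxg]; group
  have := (unique_centralized h hg1 hg8 hg hmem).symm
  exact Sylow.smul_eq_iff_mem_normalizer.1 this

theorem exists_central_mem {g : G} {P : Sylow 11 G} (hg : g ∈ nm M P) (hg8 : g ^ 8 = 1) :
    ∃ z ∈ cm M P, z ≠ 1 ∧ z ^ 4 = 1 ∧ Commute z g ∧
      Nat.card (M ⊓ Subgroup.centralizer ({z} : Set G) : Subgroup G) = 88 := by
  have : Fact (Nat.Prime 2) := ⟨Nat.prime_two⟩
  set H := nm M P with hH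
  have hzp : IsPGroup 2 (Subgroup.zpowers (⟨g, hg⟩ : H)) := by
    obtain ⟨k, -, hk⟩ := (Nat.dvd_prime_pow Nat.prime_two).1
      (show orderOf (⟨g, hg⟩ : H) ∣ 2 ^ 3 from orderOf_dvd_of_pow_eq_one (Subtype.ext (by simpa using hg8)))
    exact IsPGroup.of_card (by rw [Nat.card_zpowers, hk])
  obtain ⟨S, hS⟩ := hzp.exists_le_sylow
  set S' := (S : Subgroup H).map H.subtype with hS'
  have hSc : Nat.card S' = 8 := by
    rw [hS', Subgroup.card_map_of_injective H.subtype_injective, S.card_eq_multiplicity, hH, h.nm88 P,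
      show (88 : ℕ) = 2 ^ 3 * 11 from rfl, Nat.factorization_mul (by norm_num) (by norm_num),
      Finsupp.add_apply, Nat.Prime.factorization_pow Nat.prime_two, Finsupp.single_eq_same,
      Nat.factorization_eq_zero_of_not_dvd (by norm_num)]
    norm_num
  have hgS : g ∈ S' := ⟨⟨g, hg⟩, hS (Subgroup.mem_zpowers _), rfl⟩
  obtain ⟨U, hUle, hUc, hUiff, hUcomm⟩ := exists_four h P
  have hSH : S' ≤ H := Subgroup.map_subtype_le _
  have hdvd : (cm M P).relIndex H = 2 := by
    have := Subgroup.card_mul_index ((cm M P).subgroupOf H)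
    rw [Nat.card_congr (Subgroup.subgroupOfEquivOfLe (cm_le_nm h P)).toEquiv, h.cm44 P, hH, h.nm88 P]
      at this
    show ((cm M P).subgroupOf (nm M P)).index = 2
    omega
  have hUS : U ≤ S' := by
    have h1 : 4 ≤ Nat.card (cm M P ⊓ S' : Subgroup G) := by
      have h2 : (cm M P).relIndex S' ≤ 2 :=
        hdvd ▸ Subgroup.relIndex_le_of_le_right hSH (by rw [hdvd]; norm_num)
      have h3 := Subgroup.card_mul_index ((cm M P).subgroupOf S')
      rw [← Subgroup.inf_subgroupOf_right, Nat.card_congr (Subgroup.subgroupOfEquivOfLe inf_le_right).toEquiv,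
        hSc, Subgroup.inf_subgroupOf_right] at h3
      have h4 : ((cm M P).subgroupOf S').index ≤ 2 := h2
      nlinarith
    have h5 : cm M P ⊓ S' ≤ U := fun x hx => (hUiff x hx.1).2
      (pow_four_of_pow_eight h hx.1 (orderOf_dvd_iff_pow_eq_one.1 (hSc ▸ Subgroup.orderOf_dvd_natCard _ hx.2)))
    exact (Subgroup.eq_of_le_of_card_ge h5 (by rw [hUc]; exact h1)).symm.le.trans inf_le_right
  -- an element of `U` central in the Sylow subgroup
  obtain ⟨z, hzU, hz1, hzS⟩ : ∃ z ∈ U, z ≠ 1 ∧ S' ≤ Subgroup.centralizer ({z} : Set G) := by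
    have hS2 : IsPGroup 2 S' := IsPGroup.of_card (n := 3) (by rw [hSc]; norm_num)
    have : Nontrivial S' := Finite.one_lt_card_iff_nontrivial.1 (by rw [hSc]; norm_num)
    have := hS2.center_nontrivial
    obtain ⟨w, hw⟩ := exists_ne (1 : Subgroup.center S')
    have hwc : ∀ s ∈ S', s * ((w : S') : G) = ((w : S') : G) * s := fun s hs =>
      congrArg Subtype.val (Subgroup.mem_center_iff.1 w.2 ⟨s, hs⟩)
    by_cases hwU : ((w : S') : G) ∈ U
    · exact ⟨_, hwU, fun e => hw (Subtype.ext (Subtype.ext e)), fun s hs =>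
        Subgroup.mem_centralizer_singleton_iff.2 (hwc s hs)⟩
    obtain ⟨z, hz, hz1⟩ := Subgroup.nontrivial_iff_exists_ne_one U |>.1
      (Finite.one_lt_card_iff_nontrivial.1 (by rw [hUc]; norm_num))
    refine ⟨z, hz, hz1, ?_⟩
    set D := S' ⊓ Subgroup.centralizer ({z} : Set G)
    have hUD : U ≤ D := le_inf hUS fun x hx => Subgroup.mem_centralizer_singleton_iff.2 (hUcomm x hx z hz)
    have hlt : U < D := lt_of_le_of_ne hUD fun e => hwU (e ▸
      ⟨(w : S').2, Subgroup.mem_centralizer_singleton_iff.2 (hwc z (hUS hz)).symm⟩)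
    have h1 : 4 < Nat.card D := hUc ▸ card_lt hlt
    have h2 : Nat.card D ∣ 8 := hSc ▸ Subgroup.card_dvd_of_le inf_le_left
    have : D = S' := Subgroup.eq_of_le_of_card_ge inf_le_left (by
      rw [hSc]
      obtain ⟨k, hk3, hk⟩ := (Nat.dvd_prime_pow Nat.prime_two).1 (show Nat.card D ∣ 2 ^ 3 from h2)
      interval_cases k <;> omega)
    exact this.symm.le.trans inf_le_right
  have hzc : z ∈ cm M P := hUle hzU
  have hz4 := (hUiff z hzc).1 hzU
  have hz8 : z ^ 8 = 1 := by rw [show 8 = 4 * 2 by rfl, pow_mul, hz4, one_pow]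
  refine ⟨z, hzc, hz1, hz4, (Subgroup.mem_centralizer_singleton_iff.1 (hzS hgS)).symm, ?_⟩
  have hle := centralizer_le_nm h hz1 hz8 hzc
  set D := M ⊓ Subgroup.centralizer ({z} : Set G)
  have h1 : 44 ∣ Nat.card D :=
    h.cm44 P ▸ Subgroup.card_dvd_of_le (le_inf inf_le_left (cm_le_centralizer h P hzc hz4))
  have h2 : 8 ∣ Nat.card D :=
    hSc ▸ Subgroup.card_dvd_of_le (le_inf (hSH.trans inf_le_left) hzS)
  have h3 : 88 ∣ Nat.card D := (Nat.Coprime.mul_dvd_of_dvd_of_dvd (by norm_num)
    ((by norm_num : 11 ∣ 44).trans h1) h2 : 11 * 8 ∣ _)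
  exact Nat.dvd_antisymm (h.nm88 P ▸ Subgroup.card_dvd_of_le hle) h3

/-- A nontrivial normal subgroup of order prime to three. -/
theorem exists_small_normal [Fact (Nat.Prime 5)] [Fact (Nat.Prime 3)] :
    ∃ L : Subgroup G, L.Normal ∧ L ≠ ⊥ ∧ ¬ 3 ∣ Nat.card L := by
  have := Fintype.ofFinite G
  have := Fintype.ofFinite (Sylow 11 G)
  set K := Finset.univ.filter fun g => g ∈ M ∧ g ^ 8 = 1 ∧ g ≠ 1 ∧
    Nat.card (M ⊓ Subgroup.centralizer ({g} : Set G) : Subgroup G) = 88 with hK
  have hKm : ∀ g, g ∈ K ↔ g ∈ M ∧ g ^ 8 = 1 ∧ g ≠ 1 ∧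
      Nat.card (M ⊓ Subgroup.centralizer ({g} : Set G) : Subgroup G) = 88 := fun g => by simp [hK]
  choose! Pf hPf using fun g (hg : g ∈ M ∧ g ^ 8 = 1 ∧ g ≠ 1) =>
    exists_centralized h hg.1 hg.2.1 hg.2.2
  have hout : ∀ P : Sylow 11 G, ∀ g ∈ nm M P, g ∉ cm M P → g ∈ K := by
    intro P g hg hgc
    have h88 : orderOf g ∣ 88 := h.nm88 P ▸ Subgroup.orderOf_dvd_natCard _ hg
    have hg8 : g ^ 8 = 1 := by
      rw [← orderOf_dvd_iff_pow_eq_one]
      have h11 : ¬ 11 ∣ orderOf g := by
        intro hd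
        have hy := orderOf_pow_orderOf_div (orderOf_pos g).ne' hd
        have hy' : g ^ (orderOf g / 11) ∈ (P : Subgroup G) :=
          mem_sylow P (isPGroup_zpowers hy) (Subgroup.pow_mem _ hg.2 _)
        refine hgc ⟨hg.1, Subgroup.mem_centralizer_iff.2 fun x hx => ?_⟩
        have hyP : Subgroup.zpowers (g ^ (orderOf g / 11)) = (P : Subgroup G) :=
          Subgroup.eq_of_le_of_card_ge (Subgroup.zpowers_le.2 hy')
            (by rw [Nat.card_zpowers, hy, h.cardP P])
        rw [SetLike.mem_coe, ← hyP] at hx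
        obtain ⟨i, rfl⟩ := hx
        exact (((Commute.refl g).pow_left _).zpow_left i).eq
      exact (Nat.Coprime.dvd_of_dvd_mul_left (m := 11)
        ((Nat.Prime.coprime_iff_not_dvd Fact.out).2 h11).symm h88 : orderOf g ∣ 8)
    have hg1 : g ≠ 1 := fun e => hgc (e ▸ one_mem _)
    obtain ⟨z, hz, hz1, hz4, hzg, -⟩ := exists_central_mem h hg hg8
    have hPg := hPf g ⟨hg.1, hg8, hg1⟩
    have hne : Pf g ≠ P := fun e => hgc (e ▸ hPg)
    set D := M ⊓ Subgroup.centralizer ({g} : Set G) with hD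
    have hle := centralizer_le_nm h hg1 hg8 hPg
    have h1 : cm M (Pf g) ≤ D :=
      le_inf inf_le_left (cm_le_centralizer h (Pf g) hPg (pow_four_of_pow_eight h hPg hg8))
    have hz8 : z ^ 8 = 1 := by rw [show 8 = 4 * 2 by rfl, pow_mul, hz4, one_pow]
    have hzD : z ∈ D := ⟨hz.1, Subgroup.mem_centralizer_singleton_iff.2 hzg.eq⟩
    have hlt : cm M (Pf g) < D := lt_of_le_of_ne h1 fun e =>
      hne (unique_centralized h hz1 hz8 (e.symm ▸ hzD : z ∈ cm M (Pf g)) hz)
    have a1 := card_lt hlt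
    have a2 : Nat.card D ∣ 88 := h.nm88 (Pf g) ▸ Subgroup.card_dvd_of_le hle
    have a3 : 44 ∣ Nat.card D := h.cm44 (Pf g) ▸ Subgroup.card_dvd_of_le h1
    rw [h.cm44 (Pf g)] at a1
    have a4 := Nat.le_of_dvd (by norm_num) a2
    exact (hKm g).2 ⟨hg.1, hg8, hg1, by show Nat.card D = 88; omega⟩
  have hone : ∀ P : Sylow 11 G, ∀ z ∈ K, ∀ z' ∈ K, z ∈ cm M P → z' ∈ cm M P → z = z' := by
    intro P z hz z' hz' hzP hz'P
    by_contra hne
    obtain ⟨hzM, hz8, hz1, hz88⟩ := (hKm z).1 hz
    obtain ⟨hz'M, hz'8, hz'1, hz'88⟩ := (hKm z').1 hz'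
    obtain ⟨U, hUle, hUc, hUiff, hUcomm⟩ := exists_four h P
    have hcen : ∀ w : G, w ∈ cm M P → w ^ 8 = 1 → w ≠ 1 →
        Nat.card (M ⊓ Subgroup.centralizer ({w} : Set G) : Subgroup G) = 88 →
        w ∈ U ⊓ Subgroup.centralizer (nm M P : Set G) := by
      intro w hw hw8 hw1 hw88
      refine ⟨(hUiff w hw).2 (pow_four_of_pow_eight h hw hw8), ?_⟩
      have e := Subgroup.eq_of_le_of_card_ge (centralizer_le_nm h hw1 hw8 hw)
        (by rw [hw88, h.nm88 P])
      exact Subgroup.mem_centralizer_iff.2 fun x hx =>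
        Subgroup.mem_centralizer_singleton_iff.1 (e.symm ▸ hx :).2
    have hzU := hcen z hzP hz8 hz1 hz88
    have hz'U := hcen z' hz'P hz'8 hz'1 hz'88
    set UC := U ⊓ Subgroup.centralizer (nm M P : Set G)
    have h3 : 3 ≤ Nat.card UC := by
      have : ({1, z, z'} : Finset G) ⊆ Finset.univ.filter (· ∈ UC) := by
        intro x hx
        simp only [Finset.mem_insert, Finset.mem_singleton] at hx
        simp only [Finset.mem_filter, Finset.mem_univ, true_and]
        rcases hx with rfl | rfl | rfl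
        exacts [one_mem _, hzU, hz'U]
      have := Finset.card_le_card this
      rw [← Fintype.card_subtype, ← Nat.card_eq_fintype_card, Finset.card_insert_of_notMem
        (by simp [Ne.symm hz1, Ne.symm hz'1]), Finset.card_pair hne] at this
      exact this
    have hUC : UC = U := Subgroup.eq_of_le_of_card_ge inf_le_left (by
      have hd : Nat.card UC ∣ 4 := hUc ▸ Subgroup.card_dvd_of_le inf_le_left
      have := Nat.le_of_dvd (by norm_num) hd
      rw [hUc]
      rcases Nat.lt_or_ge (Nat.card UC) 4 with hl | hl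
      · interval_cases (Nat.card UC); norm_num at hd
      · exact hl)
    obtain ⟨g, hg, hgc⟩ : ∃ g ∈ nm M P, g ∉ cm M P := by
      by_contra hall
      push Not at hall
      have := Subgroup.card_dvd_of_le (hall : nm M P ≤ cm M P)
      rw [h.nm88 P, h.cm44 P] at this
      norm_num at this
    obtain ⟨hgM, hg8, hg1, -⟩ := (hKm g).1 (hout P g hg hgc)
    have hPg := hPf g ⟨hgM, hg8, hg1⟩
    have hUN : U ≤ nm M (Pf g) := by
      refine le_trans ?_ (centralizer_le_nm h hg1 hg8 hPg)
      intro u hu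
      refine ⟨(hUle hu).1, Subgroup.mem_centralizer_singleton_iff.2 ?_⟩
      exact (Subgroup.mem_centralizer_iff.1 (hUC.symm ▸ hu : u ∈ UC).2 g hg).symm
    obtain ⟨u, hu, hu1⟩ : ∃ u ∈ cm M (Pf g) ⊓ U, u ≠ 1 := by
      by_contra hall
      push Not at hall
      have hbot : cm M (Pf g) ⊓ U = ⊥ := (Subgroup.eq_bot_iff_forall _).2 hall
      have h2 : (cm M (Pf g)).relIndex U ≤ 2 := by
        have e : (cm M (Pf g)).relIndex (nm M (Pf g)) = 2 := by
          have := Subgroup.card_mul_index ((cm M (Pf g)).subgroupOf (nm M (Pf g)))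
          rw [Nat.card_congr (Subgroup.subgroupOfEquivOfLe (cm_le_nm h _)).toEquiv, h.cm44, h.nm88]
            at this
          show ((cm M (Pf g)).subgroupOf (nm M (Pf g))).index = 2
          omega
        exact e ▸ Subgroup.relIndex_le_of_le_right hUN (by rw [e]; norm_num)
      rw [← Subgroup.inf_relIndex_right, hbot, Subgroup.relIndex_bot_left, hUc] at h2
      omega
    have hu4 := (hUiff u (hUle hu.2)).1 hu.2
    exact hgc (unique_centralized h hu1 (by rw [show 8 = 4 * 2 by rfl, pow_mul, hu4, one_pow]) hu.1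
      (hUle hu.2) ▸ hPg)
  have hK45 : K.card ≤ 45 := by
    rw [← h.count, Nat.card_eq_fintype_card, ← Finset.card_univ]
    refine Finset.card_le_card_of_injOn Pf (fun _ _ => Finset.mem_univ _) ?_
    intro z hz z' hz' e
    rw [Finset.mem_coe] at hz hz'
    have a := (hKm z).1 hz
    have b := (hKm z').1 hz'
    exact hone (Pf z) z hz z' hz' (hPf z ⟨a.1, a.2.1, a.2.2.1⟩) (e ▸ hPf z' ⟨b.1, b.2.1, b.2.2.1⟩)
  obtain ⟨P₀⟩ : Nonempty (Sylow 11 G) := inferInstance
  obtain ⟨z, hz, hz1, hz4, -, hz88⟩ := exists_central_mem h (one_mem (nm M P₀)) (one_pow 8)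
  have hzK : z ∈ K := (hKm z).2 ⟨hz.1, by rw [show 8 = 4 * 2 by rfl, pow_mul, hz4, one_pow], hz1, hz88⟩
  have hKsub : ∀ g ∈ K, g ∈ nm M P₀ := by
    set B := (Finset.univ.filter (· ∈ nm M P₀) \ Finset.univ.filter (· ∈ cm M P₀))
    have hBc : B.card = 44 := by
      rw [Finset.card_sdiff_of_subset (fun x hx => by
        simp only [Finset.mem_filter, Finset.mem_univ, true_and] at hx ⊢; exact cm_le_nm h P₀ hx),
        ← Fintype.card_subtype, ← Fintype.card_subtype, ← Nat.card_eq_fintype_card,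
        ← Nat.card_eq_fintype_card, h.cm44, h.nm88]
    have hzB : z ∉ B := by simp [B, hz]
    have hsub : insert z B ⊆ K := Finset.insert_subset hzK fun x hx => by
      simp only [B, Finset.mem_sdiff, Finset.mem_filter, Finset.mem_univ, true_and] at hx
      exact hout P₀ x hx.1 hx.2
    have := Finset.eq_of_subset_of_card_le hsub
      (by rw [Finset.card_insert_of_notMem hzB, hBc]; exact hK45)
    intro g hg
    rw [← this, Finset.mem_insert] at hg
    rcases hg with rfl | hg
    · exact cm_le_nm h P₀ hz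
    · simp only [B, Finset.mem_sdiff, Finset.mem_filter, Finset.mem_univ, true_and] at hg
      exact hg.1
  set L := Subgroup.closure (K : Set G) with hL
  have hLn : L.Normal := by
    have hMn := h.normal
    refine ⟨fun n hn g => ?_⟩
    have hconj : ∀ w ∈ K, g * w * g⁻¹ ∈ K := by
      intro w hw
      obtain ⟨a, b, c, d⟩ := (hKm w).1 hw
      refine (hKm _).2 ⟨hMn.conj_mem w a g, by rw [conj_pow, b]; group, fun e => c (by simpa using e), ?_⟩
      rw [← d]
      symm
      refine Nat.card_congr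
        { toFun := fun x => ⟨g * x * g⁻¹, hMn.conj_mem _ x.2.1 g, Subgroup.mem_centralizer_singleton_iff.2 ?_⟩
          invFun := fun x => ⟨g⁻¹ * x * g⁻¹⁻¹, hMn.conj_mem _ x.2.1 g⁻¹,
            Subgroup.mem_centralizer_singleton_iff.2 ?_⟩
          left_inv := fun x => Subtype.ext (by simp [mul_assoc])
          right_inv := fun x => Subtype.ext (by simp [mul_assoc]) }
      · have e : (x : G) * w = w * x := Subgroup.mem_centralizer_singleton_iff.1 x.2.2
        calc g * (x : G) * g⁻¹ * (g * w * g⁻¹) = g * ((x : G) * w) * g⁻¹ := by group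
          _ = _ := by rw [e]; group
      · have e : (x : G) * (g * w * g⁻¹) = g * w * g⁻¹ * x :=
          Subgroup.mem_centralizer_singleton_iff.1 x.2.2
        calc g⁻¹ * (x : G) * g⁻¹⁻¹ * w = g⁻¹ * ((x : G) * (g * w * g⁻¹)) * g := by group
          _ = _ := by rw [e]; group
    have : L ≤ L.comap (MulAut.conj g).toMonoidHom := (Subgroup.closure_le _).2 fun w hw =>
      Subgroup.subset_closure (by simpa using hconj w hw)
    simpa using this hn
  refine ⟨L, hLn, fun e => hz1 ?_, fun h3 => ?_⟩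
  · have : z ∈ L := Subgroup.subset_closure hzK
    rwa [e, Subgroup.mem_bot] at this
  · have := h3.trans (h.nm88 P₀ ▸ Subgroup.card_dvd_of_le ((Subgroup.closure_le _).2 hKsub : L ≤ nm M P₀))
    norm_num at this

end CfsgLib.Order7920Graph
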