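import Cfsg.Agent.Lib.Blocks.Order7920.GraphCount

/-!
# A group of order 7920 with disconnected prime graph is simple
-/

set_option autoImplicit false

namespace CfsgLib.Order7920Graph

open scoped Classical Pointwise

variable {G : Type*} [Group G] [Finite G] {A : Set ℕ}

theorem odd_mem_of_index_two {M : Subgroup G} (hM : M.index = 2) {g : G} (hg : ¬ 2 ∣ orderOf g) :
    g ∈ M := by
  obtain ⟨m, hm⟩ := Nat.odd_iff.2 (Nat.two_dvd_ne_zero.1 hg)
  have e : g = (g * g) ^ (m + 1) := by
    rw [← pow_two, ← pow_mul, show 2 * (m + 1) = orderOf g + 1 by omega, pow_add, pow_orderOf_eq_one,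
      one_mul, pow_one]
  rw [e]
  exact Subgroup.pow_mem _ (Subgroup.mul_self_mem_of_index_two hM g) _

theorem isCentral_complement {p : ℕ} [Fact p.Prime] {M : Subgroup G} (P : Sylow p G)
    (hPM : (P : Subgroup G) ≤ M)
    (hc : M ⊓ Subgroup.normalizer ((P : Subgroup G) : Set G) ≤
      Subgroup.centralizer ((P : Subgroup G) : Set G)) :
    Subgroup.normalizer ((P.subtype hPM : Subgroup M) : Set M) ≤
      Subgroup.centralizer ((P.subtype hPM : Subgroup M) : Set M) := by
  intro g hg
  have hgn : (g : G) ∈ Subgroup.normalizer ((P : Subgroup G) : Set G) := by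
    rw [Subgroup.mem_normalizer_iff] at hg ⊢
    intro x
    by_cases hx : x ∈ M
    · exact hg ⟨x, hx⟩
    · exact iff_of_false (fun h => hx (hPM h)) fun h => hx (by
        have := mul_mem (mul_mem (inv_mem g.2) (hPM h)) g.2
        simpa [mul_assoc] using this)
  exact Subgroup.mem_centralizer_iff.2 fun x hx => Subtype.ext
    (Subgroup.mem_centralizer_iff.1 (hc ⟨g.2, hgn⟩) (x : G) hx)

variable (hG : Nat.card G = 7920) (hA : Sep G A)
include hG hA

theorem linked_of_central [Fact (Nat.Prime 11)] {p : ℕ} [Fact p.Prime] {M : Subgroup G} [M.Normal]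
    (hMc : Nat.card M = 3960) (P : Sylow p G) (hPM : (P : Subgroup G) ≤ M)
    (hP : Nat.card (P : Subgroup G) = p) (hp : p = 5 ∨ p = 11)
    (hc : M ⊓ Subgroup.normalizer ((P : Subgroup G) : Set G) ≤
      Subgroup.centralizer ((P : Subgroup G) : Set G)) : Linked A := by
  obtain ⟨K, hK, hKc⟩ := exists_normal_complement (P.subtype hPM) (isCentral_complement P hPM hc)
  have e : Nat.card (P.subtype hPM : Subgroup M) = p :=
    (Nat.card_congr (Subgroup.subgroupOfEquivOfLe hPM).toEquiv).trans hP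
  rw [e, hMc] at hKc
  refine linked_of_normal hG hA K (fun h => ?_) fun hh => ?_
  · rw [h, Subgroup.card_bot] at hKc
    rcases hp with rfl | rfl <;> omega
  · rcases hp with rfl | rfl
    · have := hh.2.2.1
      omega
    · have := hh.2.2.2
      omega

/-- The case of a subgroup of index two. -/
theorem linked_of_index_two [Fact (Nat.Prime 11)] [Fact (Nat.Prime 5)] [Fact (Nat.Prime 3)]
    (M : Subgroup G) [hMn : M.Normal] (hM : M.index = 2)
    (hn : Nat.card (Sylow 11 G) = 45) : Linked A := by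
  have hMc : Nat.card M = 3960 := by
    have := M.card_mul_index
    rw [hM, hG] at this
    omega
  have hP11 := card_eleven hG
  have hsylM : ∀ P : Sylow 11 G, (P : Subgroup G) ≤ M := fun P g hg =>
    odd_mem_of_index_two hM fun hd => by
      have := hd.trans (hP11 P ▸ Subgroup.orderOf_dvd_natCard _ hg)
      norm_num at this
  have hN176 : ∀ P : Sylow 11 G, Nat.card (Subgroup.normalizer ((P : Subgroup G) : Set G)) = 176 :=
    fun P => by
      have := (sylow_eleven hG P).2
      rw [hn] at this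
      omega
  have hC88 : ∀ P : Sylow 11 G, 88 ∣ Nat.card (Subgroup.normalizer ((P : Subgroup G) : Set G) ⊓
      Subgroup.centralizer ((P : Subgroup G) : Set G) : Subgroup G) := fun P => by
    have h := card_dvd_mul_inf_centralizer (hP11 P) (H := Subgroup.normalizer ((P : Subgroup G) : Set G)) le_rfl
    rw [hN176 P] at h
    obtain ⟨t, ht⟩ := h
    exact ⟨t / 5, by omega⟩
  obtain ⟨P₀⟩ : Nonempty (Sylow 11 G) := inferInstance
  have h211 : 11 ∈ A ↔ 2 ∈ A :=
    iff_of_centralizer hA (by norm_num) Nat.prime_two (by norm_num) (inf_le_right :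
      Subgroup.normalizer ((P₀ : Subgroup G) : Set G) ⊓ Subgroup.centralizer ((P₀ : Subgroup G) : Set G) ≤ _)
      (by rw [hP11 P₀]) ((by norm_num : 2 ∣ 88).trans (hC88 P₀))
  have hhalf : ∀ H : Subgroup G, Nat.card H ∣ 2 * Nat.card (M ⊓ H : Subgroup G) := fun H => by
    have h1 : (M.subgroupOf H).index ∣ 2 := hM ▸ Subgroup.relIndex_dvd_index_of_normal M H
    have h2 := (M.subgroupOf H).card_mul_index
    rw [← Subgroup.inf_subgroupOf_right, Nat.card_congr (Subgroup.subgroupOfEquivOfLe inf_le_right).toEquiv,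
      Subgroup.inf_subgroupOf_right] at h2
    rw [← h2, mul_comm 2]
    exact Nat.mul_dvd_mul_left _ h1
  have hnm : ∀ P : Sylow 11 G, Nat.card (nm M P) = 88 := fun P => by
    have h1 := hN176 P ▸ hhalf (Subgroup.normalizer ((P : Subgroup G) : Set G))
    have h2 : Nat.card (nm M P) ∣ 176 := hN176 P ▸ Subgroup.card_dvd_of_le inf_le_right
    have h3 : Nat.card (nm M P) ∣ 3960 := hMc ▸ Subgroup.card_dvd_of_le inf_le_left
    have h4 : Nat.card (nm M P) ∣ 88 := Nat.dvd_gcd h2 h3
    exact Nat.dvd_antisymm h4 (Nat.dvd_of_mul_dvd_mul_left two_pos (by norm_num; exact h1))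
  have hcm : ∀ P : Sylow 11 G, Linked A ∨ Nat.card (cm M P) = 44 := fun P => by
    have hle : cm M P ≤ nm M P := inf_le_inf_left _ (Subgroup.centralizer_le_normalizer _)
    have h := card_dvd_mul_inf_centralizer (hP11 P) (H := nm M P) inf_le_right
    have e : nm M P ⊓ Subgroup.centralizer ((P : Subgroup G) : Set G) = cm M P :=
      le_antisymm (fun x hx => ⟨hx.1.1, hx.2⟩) fun x hx => ⟨hle hx, hx.2⟩
    rw [e, hnm P] at h
    have hd : Nat.card (cm M P) ∣ 88 := hnm P ▸ Subgroup.card_dvd_of_le hle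
    have h44 : 44 ∣ Nat.card (cm M P) := by
      obtain ⟨t, ht⟩ := h
      exact ⟨t / 5, by omega⟩
    obtain ⟨t, ht⟩ := h44
    rw [ht] at hd
    have ht2 : t ∣ 2 := Nat.dvd_of_mul_dvd_mul_left (by norm_num : 0 < 44) (by norm_num; exact hd)
    rcases (Nat.dvd_prime Nat.prime_two).1 ht2 with rfl | rfl
    · exact Or.inr ht
    left
    refine linked_of_central hG hA hMc P (hsylM P) (hP11 P) (Or.inr rfl) ?_
    show nm M P ≤ _
    rw [← Subgroup.eq_of_le_of_card_ge hle (by rw [ht, hnm P])]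
    exact inf_le_right
  -- the Sylow subgroups at five
  have hQ5 : ∀ Q : Sylow 5 G, Nat.card (Q : Subgroup G) = 5 := fun Q => by
    rw [Q.card_eq_multiplicity, hG, show (7920 : ℕ) = 5 * 1584 from rfl,
      Nat.factorization_mul (by norm_num) (by norm_num), Finsupp.add_apply,
      Nat.Prime.factorization_self (Fact.out : Nat.Prime 5),
      Nat.factorization_eq_zero_of_not_dvd (by norm_num), pow_one]
  have hQM : ∀ Q : Sylow 5 G, (Q : Subgroup G) ≤ M := fun Q g hg =>
    odd_mem_of_index_two hM fun hd => by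
      have := hd.trans (hQ5 Q ▸ Subgroup.orderOf_dvd_natCard _ hg)
      norm_num at this
  obtain ⟨Q⟩ : Nonempty (Sylow 5 G) := inferInstance
  set NQ := Subgroup.normalizer ((Q : Subgroup G) : Set G)
  obtain ⟨c, hcdef⟩ : ∃ c, c = Nat.card (NQ ⊓ Subgroup.centralizer ((Q : Subgroup G) : Set G) : Subgroup G) :=
    ⟨_, rfl⟩
  have hm5 : Nat.card (Sylow 5 G) * Nat.card NQ = 7920 := by
    rw [Sylow.card_eq_index_normalizer Q]; exact (Subgroup.index_mul_card _).trans hG
  have hc4 : Nat.card NQ ∣ 4 * c := hcdef ▸ card_dvd_mul_inf_centralizer (hQ5 Q) le_rfl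
  have hn5 : Nat.card (Sylow 5 G) % 5 = 1 := card_sylow_modEq_one 5 G
  have hd5 : Nat.card (Sylow 5 G) ∣ 792 := by
    refine (Nat.dvd_gcd ?_ ?_ : Nat.card (Sylow 5 G) ∣ Nat.gcd 3960 1584).trans (by norm_num)
    · let Q₀ : Sylow 5 M := Q.subtype (hQM Q)
      have h1 := (normalizer_index_dvd M Q₀).1
      rw [show ((Q₀ : Subgroup M).map M.subtype) = (Q : Subgroup G) from
        Subgroup.map_subgroupOf_eq_of_le (hQM Q), hMc] at h1
      rw [Sylow.card_eq_index_normalizer Q]
      exact h1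
    · have := Q.card_dvd_index
      have e := (Q : Subgroup G).card_mul_index
      rw [hQ5 Q, hG] at e
      rwa [show (Q : Subgroup G).index = 1584 by omega] at this
  have h5cases : Nat.card (Sylow 5 G) = 1 ∨ Nat.card (Sylow 5 G) = 6 ∨ Nat.card (Sylow 5 G) = 11 ∨
      Nat.card (Sylow 5 G) = 36 ∨ Nat.card (Sylow 5 G) = 66 ∨ Nat.card (Sylow 5 G) = 396 := by
    generalize Nat.card (Sylow 5 G) = n at hn5 hd5
    have hl : ∀ n ∈ Nat.divisors 792, n % 5 = 1 → n = 1 ∨ n = 6 ∨ n = 11 ∨ n = 36 ∨ n = 66 ∨ n = 396 := by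
      decide +kernel
    exact hl n (Nat.mem_divisors.2 ⟨hd5, by norm_num⟩) hn5
  have hlink : 30 ∣ c → Linked A := fun h30 => by
    have hP : 5 ∣ Nat.card (Q : Subgroup G) := by rw [hQ5 Q]
    have a2 := iff_of_centralizer hA Nat.prime_five Nat.prime_two (by norm_num) (inf_le_right :
      NQ ⊓ _ ≤ _) hP (hcdef ▸ (by norm_num : 2 ∣ 30).trans h30)
    have a3 := iff_of_centralizer hA Nat.prime_five Nat.prime_three (by norm_num) (inf_le_right :
      NQ ⊓ _ ≤ _) hP (hcdef ▸ (by norm_num : 3 ∣ 30).trans h30)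
    exact ⟨a2.symm.trans a3, a2.symm, h211.symm⟩
  rcases h5cases with e | e | e | e | e | e
  · rw [e] at hm5
    rw [show Nat.card NQ = 7920 by omega] at hc4
    obtain ⟨t, ht⟩ := hc4
    exact hlink ⟨66 * t, by omega⟩
  · rw [e] at hm5
    rw [show Nat.card NQ = 1320 by omega] at hc4
    obtain ⟨t, ht⟩ := hc4
    exact hlink ⟨11 * t, by omega⟩
  · rw [e] at hm5
    rw [show Nat.card NQ = 720 by omega] at hc4
    obtain ⟨t, ht⟩ := hc4
    exact hlink ⟨6 * t, by omega⟩
  · -- an element of order eleven would centralize an element of order five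
    exfalso
    rw [e] at hm5
    rw [show Nat.card NQ = 220 by omega] at hc4
    have h11 : 11 ∣ c := by obtain ⟨t, ht⟩ := hc4; exact ⟨5 * t, by omega⟩
    obtain ⟨y, hy⟩ := exists_prime_orderOf_dvd_card' (G := (NQ ⊓ Subgroup.centralizer ((Q : Subgroup G) : Set G) : Subgroup G)) 11 (hcdef ▸ h11)
    rw [← Subgroup.orderOf_coe] at hy
    let P : Sylow 11 G := Sylow.ofCard (Subgroup.zpowers (y : G)) (by
      rw [Nat.card_zpowers, hy, hG, show (7920 : ℕ) = 11 * 720 from rfl,
        Nat.factorization_mul (by norm_num) (by norm_num), Finsupp.add_apply,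
        Nat.Prime.factorization_self (Fact.out : Nat.Prime 11),
        Nat.factorization_eq_zero_of_not_dvd (by norm_num), pow_one])
    have hle : (Q : Subgroup G) ≤ Subgroup.normalizer ((P : Subgroup G) : Set G) := by
      refine le_trans (fun q hq => ?_) (Subgroup.centralizer_le_normalizer _)
      refine Subgroup.mem_centralizer_iff.2 fun x hx => ?_
      obtain ⟨i, rfl⟩ := hx
      have hc : Commute (y : G) q := (Subgroup.mem_centralizer_iff.1 y.2.2 q hq).symm
      exact (hc.zpow_left i).eq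
    have := Subgroup.card_dvd_of_le hle
    rw [hQ5 Q, hN176 P] at this
    norm_num at this
  · rw [e] at hm5
    rw [show Nat.card NQ = 120 by omega] at hc4
    obtain ⟨t, ht⟩ := hc4
    exact hlink ⟨t, by omega⟩
  by_cases hl : Linked A
  · exact hl
  have hinv : Inv M := by
    refine ⟨hMn, hMc, hsylM, hP11, hn, fun P => (hcm P).resolve_left hl, hnm, e, hQM, hQ5, fun u hu => ?_⟩
    by_contra hu1
    refine hl ?_
    set Z : Subgroup G := ⨅ P : Sylow 11 G, Subgroup.centralizer ((P : Subgroup G) : Set G)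
    have hZn : Z.Normal := by
      refine ⟨fun z hz g => ?_⟩
      rw [Subgroup.mem_iInf] at hz ⊢
      intro P
      refine Subgroup.mem_centralizer_iff.2 fun x hx => ?_
      have hw : g⁻¹ * x * g ∈ ((g⁻¹ • P : Sylow 11 G) : Subgroup G) := by
        rw [Sylow.coe_subgroup_smul]
        exact ⟨x, hx, by simp⟩
      have := Subgroup.mem_centralizer_iff.1 (hz (g⁻¹ • P)) _ hw
      calc x * (g * z * g⁻¹) = g * (g⁻¹ * x * g * z) * g⁻¹ := by group
        _ = g * (z * (g⁻¹ * x * g)) * g⁻¹ := by rw [this]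
        _ = _ := by group
    refine linked_of_normal hG hA Z (fun hb => hu1 ?_) fun hh => ?_
    · have : u ∈ Z := Subgroup.mem_iInf.2 hu
      rwa [hb, Subgroup.mem_bot] at this
    · obtain ⟨y, hy⟩ := exists_prime_orderOf_dvd_card' (G := Z) 11 hh.2.2.2
      rw [← Subgroup.orderOf_coe] at hy
      have hall : ∀ P P' : Sylow 11 G, P = P' := fun P P' => Sylow.ext
        ((zpowers_eq_sylow P (hP11 P) hy (Subgroup.mem_iInf.1 y.2 P)).symm.trans
          (zpowers_eq_sylow P' (hP11 P') hy (Subgroup.mem_iInf.1 y.2 P')))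
      have : Subsingleton (Sylow 11 G) := ⟨hall⟩
      have h1 : Nat.card (Sylow 11 G) ≤ 1 := Finite.card_le_one_iff_subsingleton.2 this
      omega
  obtain ⟨L, hLn, hLb, hL3⟩ := exists_small_normal hinv
  exact linked_of_normal hG hA L hLb fun hh => hL3 hh.2.1

/-- A proper nontrivial normal subgroup connects the prime graph. -/
theorem linked (N : Subgroup G) [N.Normal] (hbot : N ≠ ⊥) (htop : N ≠ ⊤) : Linked A := by
  have : Fact (Nat.Prime 11) := ⟨by norm_num⟩
  have : Fact (Nat.Prime 5) := ⟨Nat.prime_five⟩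
  have : Fact (Nat.Prime 3) := ⟨Nat.prime_three⟩
  have : Fact (Nat.Prime 2) := ⟨Nat.prime_two⟩
  by_cases hall : 2 ∣ Nat.card N ∧ 3 ∣ Nat.card N ∧ 5 ∣ Nat.card N ∧ 11 ∣ Nat.card N
  swap
  · exact linked_of_normal hG hA N hbot hall
  obtain ⟨h2, h3, h5, h11⟩ := hall
  obtain ⟨-, P, -, -, hidx⟩ := sylow_count_dvd hG N h11
  obtain ⟨hcases, hmul⟩ := sylow_eleven hG P
  have hi1 : N.index ≠ 1 := fun e => htop (Subgroup.index_eq_one.1 e)
  have hi24 : N.index ∣ 24 := by
    have h330 : 330 ∣ Nat.card N := by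
      have := (Nat.Coprime.mul_dvd_of_dvd_of_dvd (by norm_num) (Nat.Coprime.mul_dvd_of_dvd_of_dvd
        (by norm_num) (Nat.Coprime.mul_dvd_of_dvd_of_dvd (by norm_num) h2 h3) h5) h11 :
          2 * 3 * 5 * 11 ∣ Nat.card N)
      simpa using this
    obtain ⟨t, ht⟩ := h330
    have := N.card_mul_index
    rw [ht, hG, mul_assoc] at this
    exact ⟨t, by rw [mul_comm]; exact (Nat.eq_of_mul_eq_mul_left (by norm_num : 0 < 330) (this.trans (by norm_num : 7920 = 330 * 24))).symm⟩
  rcases hcases with e | e | e | e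
  · exact linked_of_few hG hA P (Or.inl e)
  · exact linked_of_few hG hA P (Or.inr e)
  swap
  · rw [e] at hmul
    rw [show Nat.card (Subgroup.normalizer ((P : Subgroup G) : Set G)) = 55 by omega] at hidx
    exact absurd (Nat.dvd_one.1 ((Nat.dvd_gcd hidx hi24).trans (by norm_num))) hi1
  rw [e] at hmul
  rw [show Nat.card (Subgroup.normalizer ((P : Subgroup G) : Set G)) = 176 by omega] at hidx
  have h8 : N.index ∣ 2 ^ 3 := (Nat.dvd_gcd hidx hi24).trans (by norm_num)
  obtain ⟨k, -, hk⟩ := (Nat.dvd_prime_pow Nat.prime_two).1 h8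
  obtain ⟨k, rfl⟩ : ∃ j, k = j + 1 := ⟨k - 1, by
    rcases k with _ | k
    · exact absurd (hk.trans (pow_zero 2)) hi1
    · omega⟩
  rw [Subgroup.index_eq_card] at hk
  obtain ⟨S, hS⟩ := Sylow.exists_subgroup_card_pow_prime (G := G ⧸ N) 2 (n := k)
    (hk ▸ pow_dvd_pow 2 k.le_succ)
  have hSi : S.index = 2 := by
    have := S.card_mul_index
    rw [hS, hk, pow_succ] at this
    exact Nat.eq_of_mul_eq_mul_left (pow_pos two_pos k) this
  have hMi : (S.comap (QuotientGroup.mk' N)).index = 2 := by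
    rw [Subgroup.index_comap_of_surjective S (QuotientGroup.mk'_surjective N), hSi]
  have := Subgroup.normal_of_index_eq_two hMi
  exact linked_of_index_two hG hA (S.comap (QuotientGroup.mk' N)) hMi e

end CfsgLib.Order7920Graph
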