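import Cfsg.Agent.Lib.Blocks.Order7920.GraphTools

/-!
# A proper normal subgroup missing a prime connects the prime graph
-/

set_option autoImplicit false

namespace CfsgLib.Order7920Graph

variable {G : Type*} [Group G] [Finite G] {A : Set ℕ}

/-- The four primes lie on the same side. -/
def Linked (A : Set ℕ) : Prop :=
  (2 ∈ A ↔ 3 ∈ A) ∧ (2 ∈ A ↔ 5 ∈ A) ∧ (2 ∈ A ↔ 11 ∈ A)

theorem Sep.subgroup (hA : Sep G A) (H : Subgroup G) : Sep H A := by
  intro a ha b hb hpa hpb hda hdb ⟨g, hg⟩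
  exact hA a ha b hb hpa hpb (hda.trans H.card_subgroup_dvd_card) (hdb.trans H.card_subgroup_dvd_card)
    ⟨(g : G), by rwa [Subgroup.orderOf_coe]⟩

/-- A normal subgroup and a prime not dividing its order. -/
theorem iff_of_normal (hA : Sep G A) {p r a : ℕ} (hp : p.Prime) (hr : r.Prime) (N : Subgroup G)
    [N.Normal] (hpN : p ∣ Nat.card N) (hrN : ¬ r ∣ Nat.card N) (hra : r ^ a ∣ Nat.card G)
    (hd : ∀ k, p ^ (k + 1) ∣ Nat.card N → ¬ r ^ a ∣ p ^ (k + 1) - 1) : p ∈ A ↔ r ∈ A := by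
  have : Fact p.Prime := ⟨hp⟩
  have : Fact r.Prime := ⟨hr⟩
  have hne : p ≠ r := fun e => hrN (e ▸ hpN)
  obtain ⟨P⟩ : Nonempty (Sylow p N) := inferInstance
  obtain ⟨h1, -⟩ := normalizer_index_dvd N P
  set H := Subgroup.normalizer (((P : Subgroup N).map N.subtype : Subgroup G) : Set G) with hH
  have hrH : r ^ a ∣ Nat.card H := by
    rw [← H.card_mul_index] at hra
    exact (Nat.Coprime.pow_left a ((Nat.Prime.coprime_iff_not_dvd hr).2
      fun h => hrN (h.trans h1))).dvd_of_dvd_mul_right hra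
  obtain ⟨R, hR⟩ := Sylow.exists_subgroup_card_pow_prime r hrH
  obtain ⟨k, hk⟩ : ∃ k, Nat.card (P : Subgroup N) = p ^ (k + 1) := by
    obtain ⟨k, hk⟩ := IsPGroup.iff_card.1 P.2
    rcases k with _ | k
    · exact absurd hpN (by
        have h := P.not_dvd_index
        rwa [← one_mul (P : Subgroup N).index, ← pow_zero p, ← hk,
          (P : Subgroup N).card_mul_index] at h)
    · exact ⟨k, hk⟩
  refine iff_of_action hA hp hr hne (R := R.map H.subtype) (P := (P : Subgroup N).map N.subtype)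
    ((IsPGroup.of_card hR).map _) (P.2.map _) (Subgroup.map_subtype_le R) ?_
  rw [Subgroup.card_map_of_injective H.subtype_injective, hR,
    Subgroup.card_map_of_injective N.subtype_injective, hk]
  exact hd k (hk ▸ (P : Subgroup N).card_subgroup_dvd_card)

omit [Group G] [Finite G] in
/-- The edges suffice. -/
theorem linked_of_edges {p2 p3 p5 p11 s : Prop}
    (e23 : p2 → ¬ p3 → (2 ∈ A ↔ 3 ∈ A)) (e211 : p2 → ¬ p11 → (2 ∈ A ↔ 11 ∈ A))
    (e25 : p2 → ¬ p5 → ¬ s → (2 ∈ A ↔ 5 ∈ A)) (e32 : p3 → ¬ p2 → (3 ∈ A ↔ 2 ∈ A))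
    (e35 : p3 → ¬ p5 → (3 ∈ A ↔ 5 ∈ A)) (e311 : p3 → ¬ p11 → (3 ∈ A ↔ 11 ∈ A))
    (e52 : p5 → ¬ p2 → (5 ∈ A ↔ 2 ∈ A)) (e53 : p5 → ¬ p3 → (5 ∈ A ↔ 3 ∈ A))
    (e511 : p5 → ¬ p11 → (5 ∈ A ↔ 11 ∈ A)) (e112 : p11 → ¬ p2 → (11 ∈ A ↔ 2 ∈ A))
    (e113 : p11 → ¬ p3 → (11 ∈ A ↔ 3 ∈ A))
    (h : (p5 ∧ ¬ (p2 ∧ p3 ∧ p11)) ∨ (¬ p5 ∧ p11 ∧ p3 ∧ ¬ p2) ∨ (¬ p5 ∧ ¬ p11 ∧ p3) ∨
      (¬ p5 ∧ ¬ p11 ∧ ¬ p3 ∧ p2 ∧ ¬ s)) : Linked A := by
  unfold Linked
  generalize (2 ∈ A) = a, (3 ∈ A) = b, (5 ∈ A) = c, (11 ∈ A) = d at *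
  grind

variable (hG : Nat.card G = 7920) (hA : Sep G A)
include hG

theorem card_eleven [Fact (Nat.Prime 11)] (P : Sylow 11 G) : Nat.card (P : Subgroup G) = 11 := by
  rw [P.card_eq_multiplicity, hG, show (7920 : ℕ) = 11 * 720 from rfl,
    Nat.factorization_mul (by norm_num) (by norm_num), Finsupp.add_apply,
    Nat.Prime.factorization_self (Fact.out : Nat.Prime 11),
    Nat.factorization_eq_zero_of_not_dvd (by norm_num), pow_one]

theorem sylow_eleven [Fact (Nat.Prime 11)] (P : Sylow 11 G) :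
    (Nat.card (Sylow 11 G) = 1 ∨ Nat.card (Sylow 11 G) = 12 ∨ Nat.card (Sylow 11 G) = 45 ∨
        Nat.card (Sylow 11 G) = 144) ∧
      Nat.card (Sylow 11 G) * Nat.card (Subgroup.normalizer ((P : Subgroup G) : Set G)) = 7920 := by
  have h1 : Nat.card (Sylow 11 G) * Nat.card (Subgroup.normalizer ((P : Subgroup G) : Set G)) = 7920 := by
    rw [Sylow.card_eq_index_normalizer P]; exact (Subgroup.index_mul_card _).trans hG
  refine ⟨?_, h1⟩
  have h2 : Nat.card (Sylow 11 G) % 11 = 1 := card_sylow_modEq_one 11 G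
  have h11 : 11 ∣ Nat.card (Subgroup.normalizer ((P : Subgroup G) : Set G)) := by
    have := Subgroup.card_dvd_of_le (Subgroup.le_normalizer (H := (P : Subgroup G)))
    rwa [card_eleven hG P] at this
  obtain ⟨m, hm⟩ := h11
  have hd : Nat.card (Sylow 11 G) ∣ 720 := ⟨m, by rw [hm] at h1; linarith⟩
  have hle := Nat.le_of_dvd (by norm_num) hd
  generalize Nat.card (Sylow 11 G) = n at h2 hd hle
  have hl : ∀ n ∈ Nat.divisors 720, n % 11 = 1 → n = 1 ∨ n = 12 ∨ n = 45 ∨ n = 144 := by decide +kernel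
  exact hl n (Nat.mem_divisors.2 ⟨hd, by norm_num⟩) h2

include hA

theorem edge {p r a b : ℕ} (hp : p.Prime) (hr : r.Prime) (N : Subgroup G) [N.Normal]
    (hpN : p ∣ Nat.card N) (hrN : ¬ r ∣ Nat.card N) (hra : r ^ a ∣ 7920)
    (hb : ¬ p ^ (b + 1) ∣ Nat.card N) (hd : ∀ k < b, ¬ r ^ a ∣ p ^ (k + 1) - 1) :
    p ∈ A ↔ r ∈ A := by
  refine iff_of_normal hA hp hr N hpN hrN (hG ▸ hra) fun k hk => hd k ?_
  by_contra hge
  exact hb ((pow_dvd_pow p (by omega)).trans hk)

omit hA in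
theorem not_pow_dvd (N : Subgroup G) {m : ℕ} (h : ¬ m ∣ 7920) : ¬ m ∣ Nat.card N := fun h' =>
  h (hG ▸ h'.trans N.card_subgroup_dvd_card)

theorem edge_two_three (N : Subgroup G) [N.Normal] (h : 2 ∣ Nat.card N) (h' : ¬ 3 ∣ Nat.card N) :
    2 ∈ A ↔ 3 ∈ A :=
  edge hG hA (a := 2) (b := 4) Nat.prime_two Nat.prime_three N h h' (by norm_num)
    (not_pow_dvd hG N (by norm_num)) (by decide)

theorem edge_two_eleven (N : Subgroup G) [N.Normal] (h : 2 ∣ Nat.card N) (h' : ¬ 11 ∣ Nat.card N) :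
    2 ∈ A ↔ 11 ∈ A :=
  edge hG hA (a := 1) (b := 4) Nat.prime_two (by norm_num) N h h' (by norm_num)
    (not_pow_dvd hG N (by norm_num)) (by decide)

theorem edge_two_five (N : Subgroup G) [N.Normal] (h : 2 ∣ Nat.card N) (h' : ¬ 5 ∣ Nat.card N)
    (h16 : ¬ 16 ∣ Nat.card N) : 2 ∈ A ↔ 5 ∈ A :=
  edge hG hA (a := 1) (b := 3) Nat.prime_two Nat.prime_five N h h' (by norm_num)
    (by norm_num; exact h16) (by decide)

theorem edge_three_two (N : Subgroup G) [N.Normal] (h : 3 ∣ Nat.card N) (h' : ¬ 2 ∣ Nat.card N) :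
    3 ∈ A ↔ 2 ∈ A :=
  edge hG hA (a := 4) (b := 2) Nat.prime_three Nat.prime_two N h h' (by norm_num)
    (not_pow_dvd hG N (by norm_num)) (by decide)

theorem edge_three_five (N : Subgroup G) [N.Normal] (h : 3 ∣ Nat.card N) (h' : ¬ 5 ∣ Nat.card N) :
    3 ∈ A ↔ 5 ∈ A :=
  edge hG hA (a := 1) (b := 2) Nat.prime_three Nat.prime_five N h h' (by norm_num)
    (not_pow_dvd hG N (by norm_num)) (by decide)

theorem edge_three_eleven (N : Subgroup G) [N.Normal] (h : 3 ∣ Nat.card N) (h' : ¬ 11 ∣ Nat.card N) :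
    3 ∈ A ↔ 11 ∈ A :=
  edge hG hA (a := 1) (b := 2) Nat.prime_three (by norm_num) N h h' (by norm_num)
    (not_pow_dvd hG N (by norm_num)) (by decide)

theorem edge_five_two (N : Subgroup G) [N.Normal] (h : 5 ∣ Nat.card N) (h' : ¬ 2 ∣ Nat.card N) :
    5 ∈ A ↔ 2 ∈ A :=
  edge hG hA (a := 4) (b := 1) Nat.prime_five Nat.prime_two N h h' (by norm_num)
    (not_pow_dvd hG N (by norm_num)) (by decide)

theorem edge_five_three (N : Subgroup G) [N.Normal] (h : 5 ∣ Nat.card N) (h' : ¬ 3 ∣ Nat.card N) :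
    5 ∈ A ↔ 3 ∈ A :=
  edge hG hA (a := 2) (b := 1) Nat.prime_five Nat.prime_three N h h' (by norm_num)
    (not_pow_dvd hG N (by norm_num)) (by decide)

theorem edge_five_eleven (N : Subgroup G) [N.Normal] (h : 5 ∣ Nat.card N) (h' : ¬ 11 ∣ Nat.card N) :
    5 ∈ A ↔ 11 ∈ A :=
  edge hG hA (a := 1) (b := 1) Nat.prime_five (by norm_num) N h h' (by norm_num)
    (not_pow_dvd hG N (by norm_num)) (by decide)

theorem edge_eleven_two (N : Subgroup G) [N.Normal] (h : 11 ∣ Nat.card N) (h' : ¬ 2 ∣ Nat.card N) :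
    11 ∈ A ↔ 2 ∈ A :=
  edge hG hA (a := 4) (b := 1) (by norm_num) Nat.prime_two N h h' (by norm_num)
    (not_pow_dvd hG N (by norm_num)) (by decide)

theorem edge_eleven_three (N : Subgroup G) [N.Normal] (h : 11 ∣ Nat.card N) (h' : ¬ 3 ∣ Nat.card N) :
    11 ∈ A ↔ 3 ∈ A :=
  edge hG hA (a := 2) (b := 1) (by norm_num) Nat.prime_three N h h' (by norm_num)
    (not_pow_dvd hG N (by norm_num)) (by decide)

/-- One or twelve Sylow subgroups at eleven. -/
theorem linked_of_few [Fact (Nat.Prime 11)] (P : Sylow 11 G)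
    (hn : Nat.card (Sylow 11 G) = 1 ∨ Nat.card (Sylow 11 G) = 12) : Linked A := by
  obtain ⟨-, hmul⟩ := sylow_eleven hG P
  set H := Subgroup.normalizer ((P : Subgroup G) : Set G) with hH
  set C := Subgroup.centralizer ((P : Subgroup G) : Set G)
  have hH' : 660 ∣ Nat.card H := by
    rcases hn with e | e <;> rw [e] at hmul <;> omega
  have hc := hH'.trans (card_dvd_mul_inf_centralizer (card_eleven hG P) (H := H) le_rfl)
  set c := Nat.card (H ⊓ C : Subgroup G) with hcdef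
  have h66 : 66 ∣ c := by
    obtain ⟨t, ht⟩ := hc
    exact ⟨t, by omega⟩
  have hP : 11 ∣ Nat.card (P : Subgroup G) := by rw [card_eleven hG P]
  have hcen : H ⊓ C ≤ Subgroup.centralizer ((P : Subgroup G) : Set G) := inf_le_right
  have h2 := iff_of_centralizer hA (by norm_num : Nat.Prime 11) Nat.prime_two (by norm_num) hcen hP
    ((by norm_num : 2 ∣ 66).trans h66)
  have h3 := iff_of_centralizer hA (by norm_num : Nat.Prime 11) Nat.prime_three (by norm_num) hcen hP
    ((by norm_num : 3 ∣ 66).trans h66)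
  have h5 : 3 ∈ A ↔ 5 ∈ A := by
    by_cases hd : 5 ∣ c
    · exact h3.symm.trans
        (iff_of_centralizer hA (by norm_num : Nat.Prime 11) Nat.prime_five (by norm_num) hcen hP hd)
    have hn' : (C.subgroupOf H).Normal := by
      rw [← Subgroup.normalizerMonoidHom_ker]
      exact MonoidHom.normal_ker _
    have hcard : Nat.card (C.subgroupOf H) = c := by
      rw [← Subgroup.inf_subgroupOf_left, hcdef]
      exact Nat.card_congr (Subgroup.subgroupOfEquivOfLe inf_le_left).toEquiv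
    refine iff_of_normal (hA.subgroup H) (a := 1) Nat.prime_three Nat.prime_five (C.subgroupOf H)
      (hcard ▸ (by norm_num : 3 ∣ 66).trans h66) (hcard ▸ hd) (by
        rw [pow_one]; exact (by norm_num : 5 ∣ 660).trans hH') fun k hk hd' => ?_
    have hk' : 3 ^ (k + 1) ∣ 7920 := hG ▸ hk.trans ((Subgroup.card_subgroup_dvd_card _).trans
      (Subgroup.card_subgroup_dvd_card _))
    have : k < 2 := by
      by_contra hge
      exact absurd ((pow_dvd_pow 3 (by omega : 3 ≤ k + 1)).trans hk') (by norm_num)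
    interval_cases k <;> norm_num at hd'
  exact ⟨h2.symm.trans h3, h2.symm.trans (h3.trans h5), h2.symm⟩

omit hA in
/-- The number of Sylow subgroups at eleven divides a normal subgroup containing one. -/
theorem sylow_count_dvd [Fact (Nat.Prime 11)] (N : Subgroup G) [N.Normal] (h11 : 11 ∣ Nat.card N) :
    Nat.card (Sylow 11 G) ∣ Nat.card N ∧ ∃ P : Sylow 11 G, ∃ P₀ : Sylow 11 N,
      (P₀ : Subgroup N).map N.subtype = (P : Subgroup G) ∧
      N.index ∣ Nat.card (Subgroup.normalizer ((P : Subgroup G) : Set G)) := by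
  obtain ⟨P₀⟩ : Nonempty (Sylow 11 N) := inferInstance
  obtain ⟨h1, h2⟩ := normalizer_index_dvd N P₀
  have hcard : Nat.card ((P₀ : Subgroup N).map N.subtype) = 11 := by
    rw [Subgroup.card_map_of_injective N.subtype_injective, P₀.card_eq_multiplicity]
    obtain ⟨m, hm⟩ := h11
    have hm0 : m ≠ 0 := fun e => by rw [e] at hm; exact Nat.card_pos.ne' (hm.trans (by norm_num))
    have hmd : ¬ 11 ∣ m := fun hd => not_pow_dvd hG N (m := 121) (by norm_num) (by
      obtain ⟨t, rfl⟩ := hd; exact ⟨t, by omega⟩)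
    rw [hm, Nat.factorization_mul (by norm_num) hm0, Finsupp.add_apply,
      Nat.Prime.factorization_self (Fact.out : Nat.Prime 11),
      Nat.factorization_eq_zero_of_not_dvd hmd, pow_one]
  let P : Sylow 11 G := Sylow.ofCard ((P₀ : Subgroup N).map N.subtype) (by
    rw [hcard, hG, show (7920 : ℕ) = 11 * 720 from rfl,
      Nat.factorization_mul (by norm_num) (by norm_num), Finsupp.add_apply,
      Nat.Prime.factorization_self (Fact.out : Nat.Prime 11),
      Nat.factorization_eq_zero_of_not_dvd (by norm_num), pow_one])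
  refine ⟨?_, P, P₀, rfl, h2⟩
  rw [Sylow.card_eq_index_normalizer P]
  exact h1

/-- Neither three nor five, but eleven. -/
theorem linked_no_three_five [Fact (Nat.Prime 11)] (N : Subgroup G) [N.Normal]
    (h11 : 11 ∣ Nat.card N) (h3 : ¬ 3 ∣ Nat.card N) : Linked A := by
  obtain ⟨hn, P, -⟩ := sylow_count_dvd hG N h11
  refine linked_of_few hG hA P (Or.inl ?_)
  rcases (sylow_eleven hG P).1 with e | e | e | e
  · exact e
  all_goals rw [e] at hn; exact absurd ((by norm_num : (3 : ℕ) ∣ _).trans hn) h3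

set_option maxHeartbeats 800000 in
/-- Sylow subgroups at eleven self-normalizing in `N`. -/
theorem linked_five_compl [Fact (Nat.Prime 11)] (N : Subgroup G) [N.Normal] (h11 : 11 ∣ Nat.card N)
    (h5 : ¬ 5 ∣ Nat.card N) (P : Sylow 11 G) (P₀ : Sylow 11 N)
    (hP₀ : (P₀ : Subgroup N).map N.subtype = (P : Subgroup G))
    (e : Nat.card (Sylow 11 G) = 144) (hn : Nat.card (Sylow 11 G) ∣ Nat.card N)
    (hmul : Nat.card (Sylow 11 G) * Nat.card (Subgroup.normalizer ((P : Subgroup G) : Set G)) = 7920) :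
    Linked A := by
  rw [e] at hmul
  have h55 : Nat.card (Subgroup.normalizer ((P : Subgroup G) : Set G)) = 55 := by omega
  have hPc : Nat.card (P₀ : Subgroup N) = 11 := by
    rw [← Subgroup.card_map_of_injective (f := N.subtype) (K := (P₀ : Subgroup N)) N.subtype_injective, hP₀,
      card_eleven hG P]
  obtain ⟨K, hK, hKc⟩ := exists_normal_complement P₀ (by
    intro g hg
    have hd : orderOf (g : G) ∣ 55 := h55 ▸ Subgroup.orderOf_dvd_natCard _ (by
      rw [← hP₀]
      rw [Subgroup.mem_normalizer_iff]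
      intro x
      constructor
      · rintro ⟨y, hy, rfl⟩
        exact ⟨g * y * g⁻¹, (Subgroup.mem_normalizer_iff.1 hg y).1 hy, rfl⟩
      · rintro ⟨y, hy, e'⟩
        refine ⟨g⁻¹ * y * g, (Subgroup.mem_normalizer_iff.1 hg _).2 ?_, ?_⟩
        · simp [mul_assoc]; exact hy
        · simp only [map_mul, map_inv]; rw [e']; simp [mul_assoc])
    have hd' : orderOf g ∣ 11 := by
      rw [Subgroup.orderOf_coe] at hd
      refine (Nat.Coprime.dvd_of_dvd_mul_left (k := orderOf g) (m := 5) ?_ hd)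
      exact ((Nat.Prime.coprime_iff_not_dvd Nat.prime_five).2
        fun hh => h5 (hh.trans (orderOf_dvd_natCard g))).symm
    have hgP : g ∈ (P₀ : Subgroup N) := by
      have hz : IsPGroup 11 (Subgroup.zpowers g) := by
        rcases (Nat.dvd_prime (by norm_num)).1 hd' with h | h
        · exact IsPGroup.of_card (n := 0) (by rw [Nat.card_zpowers, h, pow_zero])
        · exact IsPGroup.of_card (n := 1) (by rw [Nat.card_zpowers, h, pow_one])
      have hsup := hz.to_sup_of_normal_right' P₀.2 ((Subgroup.zpowers_le).2 hg)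
      have := P₀.3 hsup le_sup_right
      rw [← this]
      exact (le_sup_left : Subgroup.zpowers g ≤ _) (Subgroup.mem_zpowers g)
    have : IsCyclic (P₀ : Subgroup N) := isCyclic_of_prime_card hPc
    exact Subgroup.mem_centralizer_iff.2 fun x hx =>
      congrArg Subtype.val (IsMulCommutative.is_comm.comm (⟨x, hx⟩ : (P₀ : Subgroup N)) ⟨g, hgP⟩))
  rw [hPc] at hKc
  rw [e] at hn
  have h2K : 2 ∣ Nat.card K := by omega
  have h3K : 3 ∣ Nat.card K := by
    have : 144 ∣ Nat.card K * 11 := by rw [hKc]; exact hn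
    omega
  have h5K : ¬ 5 ∣ Nat.card K := fun h => h5 (hKc ▸ h.mul_right 11)
  have h11K : ¬ 11 ∣ Nat.card K := fun h => not_pow_dvd hG N (m := 121) (by norm_num)
    (hKc ▸ mul_dvd_mul_right h 11)
  have a1 := edge_three_five hG hA K h3K h5K
  have a2 := edge_two_eleven hG hA K h2K h11K
  have a3 := edge_three_eleven hG hA K h3K h11K
  exact ⟨a2.trans a3.symm, a2.trans (a3.symm.trans a1), a2⟩

set_option maxHeartbeats 800000 in
/-- A normal subgroup of order sixteen. -/
theorem linked_sixteen [Fact (Nat.Prime 11)] (N : Subgroup G) [N.Normal] (h16 : 16 ∣ Nat.card N)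
    (h3 : ¬ 3 ∣ Nat.card N) (h5 : ¬ 5 ∣ Nat.card N) (h11 : ¬ 11 ∣ Nat.card N) : Linked A := by
  -- the quotient by a normal Sylow 2-subgroup
  have hN16 : Nat.card N = 16 := by
    have hd : Nat.card N ∣ 7920 := hG ▸ N.card_subgroup_dvd_card
    have hl : ∀ n ∈ Nat.divisors 7920, 16 ∣ n → ¬ 3 ∣ n → ¬ 5 ∣ n → ¬ 11 ∣ n → n = 16 := by decide +kernel
    exact hl _ (Nat.mem_divisors.2 ⟨hd, by norm_num⟩) h16 h3 h5 h11
  have hq : Nat.card (G ⧸ N) = 495 := by
    have := N.card_mul_index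
    rw [hN16, hG, Subgroup.index_eq_card] at this
    omega
  obtain ⟨Q⟩ : Nonempty (Sylow 11 (G ⧸ N)) := inferInstance
  have hQc : Nat.card (Q : Subgroup (G ⧸ N)) = 11 := by
    rw [Q.card_eq_multiplicity, hq, show (495 : ℕ) = 11 * 45 from rfl,
      Nat.factorization_mul (by norm_num) (by norm_num), Finsupp.add_apply,
      Nat.Prime.factorization_self (Fact.out : Nat.Prime 11),
      Nat.factorization_eq_zero_of_not_dvd (by norm_num), pow_one]
  have hlift : ∀ S : Subgroup (G ⧸ N), S.Normal →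
      Nat.card (S.comap (QuotientGroup.mk' N)) = 16 * Nat.card S ∧
        (S.comap (QuotientGroup.mk' N)).Normal := by
    intro S hS
    refine ⟨?_, hS.comap _⟩
    have hi : (S.comap (QuotientGroup.mk' N)).index = S.index :=
      Subgroup.index_comap_of_surjective S (QuotientGroup.mk'_surjective N)
    have a1 := (S.comap (QuotientGroup.mk' N)).card_mul_index
    have a2 := S.card_mul_index
    rw [hi, hG] at a1
    rw [hq] at a2
    have h0 : 0 < S.index := Nat.pos_of_ne_zero Subgroup.index_ne_zero_of_finite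
    exact Nat.eq_of_mul_eq_mul_right h0 (by rw [a1, mul_assoc, a2]; norm_num)
  have hcases : Nat.card (Sylow 11 (G ⧸ N)) = 1 ∨ Nat.card (Sylow 11 (G ⧸ N)) = 45 := by
    have h2 : Nat.card (Sylow 11 (G ⧸ N)) % 11 = 1 := card_sylow_modEq_one 11 (G ⧸ N)
    have hd : Nat.card (Sylow 11 (G ⧸ N)) ∣ 45 := by
      have := Q.card_dvd_index
      have e := (Q : Subgroup (G ⧸ N)).card_mul_index
      rw [hQc, hq] at e
      rwa [show (Q : Subgroup (G ⧸ N)).index = 45 by omega] at this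
    generalize Nat.card (Sylow 11 (G ⧸ N)) = n at h2 hd
    have hl : ∀ n ∈ Nat.divisors 45, n % 11 = 1 → n = 1 ∨ n = 45 := by decide +kernel
    exact hl n (Nat.mem_divisors.2 ⟨hd, by norm_num⟩) h2
  rcases hcases with e | e
  · have : Subsingleton (Sylow 11 (G ⧸ N)) := (Nat.card_eq_one_iff_unique.1 e).1
    obtain ⟨hc, hn⟩ := hlift Q Q.normal_of_subsingleton
    have := hn
    exact linked_no_three_five hG hA ((Q : Subgroup (G ⧸ N)).comap (QuotientGroup.mk' N))
      (by rw [hc, hQc]; norm_num) (by rw [hc, hQc]; norm_num)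
  · have hnorm : Subgroup.normalizer ((Q : Subgroup (G ⧸ N)) : Set (G ⧸ N)) = (Q : Subgroup (G ⧸ N)) := by
      symm
      refine Subgroup.eq_of_le_of_card_ge Subgroup.le_normalizer ?_
      have h1 := Q.card_eq_index_normalizer
      have h2 := (Subgroup.normalizer ((Q : Subgroup (G ⧸ N)) : Set (G ⧸ N))).card_mul_index
      have h3' : (Subgroup.normalizer ((Q : Subgroup (G ⧸ N)) : Set (G ⧸ N))).index = 45 :=
        h1.symm.trans e
      rw [h3', hq] at h2
      omega
    have : IsCyclic (Q : Subgroup (G ⧸ N)) := isCyclic_of_prime_card hQc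
    have hc : Subgroup.normalizer ((Q : Subgroup (G ⧸ N)) : Set (G ⧸ N)) ≤
        Subgroup.centralizer ((Q : Subgroup (G ⧸ N)) : Set (G ⧸ N)) := by
      rw [hnorm]
      exact fun g hg => Subgroup.mem_centralizer_iff.2 fun x hx =>
        congrArg Subtype.val (IsMulCommutative.is_comm.comm (⟨x, hx⟩ : (Q : Subgroup (G ⧸ N))) ⟨g, hg⟩)
    have hK := (MonoidHom.ker_transferSylow_isComplement' Q hc).card_mul_card
    set S := (MonoidHom.transferSylow Q hc).ker
    obtain ⟨hcs, hn⟩ := hlift S (MonoidHom.normal_ker _)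
    rw [hQc, hq] at hK
    have h720 : Nat.card (S.comap (QuotientGroup.mk' N)) = 720 := by rw [hcs]; omega
    have := hn
    have a1 := edge_two_eleven hG hA _ (h720 ▸ (by norm_num : 2 ∣ 720)) (h720 ▸ (by norm_num : ¬ 11 ∣ 720))
    have a2 := edge_three_eleven hG hA _ (h720 ▸ (by norm_num : 3 ∣ 720)) (h720 ▸ (by norm_num : ¬ 11 ∣ 720))
    have a3 := edge_five_eleven hG hA _ (h720 ▸ (by norm_num : 5 ∣ 720)) (h720 ▸ (by norm_num : ¬ 11 ∣ 720))
    exact ⟨a1.trans a2.symm, a1.trans a3.symm, a1⟩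

set_option maxHeartbeats 800000 in
/-- A nontrivial normal subgroup of order not divisible by all four primes. -/
theorem linked_of_normal (N : Subgroup G) [hN : N.Normal] (hbot : N ≠ ⊥)
    (hmiss : ¬ (2 ∣ Nat.card N ∧ 3 ∣ Nat.card N ∧ 5 ∣ Nat.card N ∧ 11 ∣ Nat.card N)) : Linked A := by
  have : Fact (Nat.Prime 11) := ⟨by norm_num⟩
  have hN1 : Nat.card N ≠ 1 := fun e => hbot (Subgroup.card_eq_one.1 e)
  have hsome : 2 ∣ Nat.card N ∨ 3 ∣ Nat.card N ∨ 5 ∣ Nat.card N ∨ 11 ∣ Nat.card N := by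
    obtain ⟨p, hp, hpd⟩ := Nat.exists_prime_and_dvd hN1
    have h : p ∈ (7920 : ℕ).primeFactors :=
      Nat.mem_primeFactors.2 ⟨hp, hG ▸ hpd.trans N.card_subgroup_dvd_card, by norm_num⟩
    have hle := Nat.le_of_dvd (by norm_num) (Nat.dvd_of_mem_primeFactors h)
    have : p = 2 ∨ p = 3 ∨ p = 5 ∨ p = 11 := by
      have h' : p ∣ 2 ^ 4 * (3 ^ 2 * (5 * 11)) := by
        have := Nat.dvd_of_mem_primeFactors h
        norm_num
        exact this
      rcases hp.dvd_mul.1 h' with h | h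
      · exact Or.inl ((Nat.prime_dvd_prime_iff_eq hp Nat.prime_two).1 (hp.dvd_of_dvd_pow h))
      rcases hp.dvd_mul.1 h with h | h
      · exact Or.inr (Or.inl ((Nat.prime_dvd_prime_iff_eq hp Nat.prime_three).1 (hp.dvd_of_dvd_pow h)))
      rcases hp.dvd_mul.1 h with h | h
      · exact Or.inr (Or.inr (Or.inl ((Nat.prime_dvd_prime_iff_eq hp Nat.prime_five).1 h)))
      · exact Or.inr (Or.inr (Or.inr ((Nat.prime_dvd_prime_iff_eq hp (by norm_num)).1 h)))
    rcases this with rfl | rfl | rfl | rfl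
    exacts [Or.inl hpd, Or.inr (Or.inl hpd), Or.inr (Or.inr (Or.inl hpd)), Or.inr (Or.inr (Or.inr hpd))]
  have e23 := edge_two_three hG hA N
  have e211 := edge_two_eleven hG hA N
  have e25 := edge_two_five hG hA N
  have e32 := edge_three_two hG hA N
  have e35 := edge_three_five hG hA N
  have e311 := edge_three_eleven hG hA N
  have e52 := edge_five_two hG hA N
  have e53 := edge_five_three hG hA N
  have e511 := edge_five_eleven hG hA N
  have e112 := edge_eleven_two hG hA N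
  have e113 := edge_eleven_three hG hA N
  by_cases h5 : 5 ∣ Nat.card N
  · exact linked_of_edges e23 e211 e25 e32 e35 e311 e52 e53 e511 e112 e113 (Or.inl ⟨h5, fun hh =>
      hmiss ⟨hh.1, hh.2.1, h5, hh.2.2⟩⟩)
  by_cases h11 : 11 ∣ Nat.card N
  · by_cases h3 : 3 ∣ Nat.card N
    swap
    · exact linked_no_three_five hG hA N h11 h3
    by_cases h2 : 2 ∣ Nat.card N
    swap
    · exact linked_of_edges e23 e211 e25 e32 e35 e311 e52 e53 e511 e112 e113
        (Or.inr (Or.inl ⟨h5, h11, h3, h2⟩))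
    obtain ⟨hn, P, P₀, hP₀, hidx⟩ := sylow_count_dvd hG N h11
    obtain ⟨hcases, hmul⟩ := sylow_eleven hG P
    rcases hcases with e | e | e | e
    · exact linked_of_few hG hA P (Or.inl e)
    · exact linked_of_few hG hA P (Or.inr e)
    · rw [e] at hn; exact absurd ((by norm_num : 5 ∣ 45).trans hn) h5
    exact linked_five_compl hG hA N h11 h5 P P₀ hP₀ e hn hmul
  by_cases h3 : 3 ∣ Nat.card N
  · exact linked_of_edges e23 e211 e25 e32 e35 e311 e52 e53 e511 e112 e113
      (Or.inr (Or.inr (Or.inl ⟨h5, h11, h3⟩)))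
  have h2 : 2 ∣ Nat.card N :=
    hsome.resolve_right fun h => h.elim h3 fun h => h.elim h5 h11
  by_cases h16 : 16 ∣ Nat.card N
  swap
  · exact linked_of_edges e23 e211 e25 e32 e35 e311 e52 e53 e511 e112 e113
      (Or.inr (Or.inr (Or.inr ⟨h5, h11, h3, h2, h16⟩)))
  exact linked_sixteen hG hA N h16 h3 h5 h11

end CfsgLib.Order7920Graph
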