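import Mathlib

/-!
# Tools for the prime graph of a group of order 7920

`Sep G A` says that no element has order a product of a prime in `A` and one outside it.
-/

set_option autoImplicit false

namespace CfsgLib.Order7920Graph

open scoped Classical

variable {G : Type*} [Group G] [Finite G]

/-- No element order joins `A` to its complement. -/
def Sep (G : Type*) [Group G] (A : Set ℕ) : Prop :=
  ∀ a ∈ A, ∀ b ∉ A, a.Prime → b.Prime → a ∣ Nat.card G → b ∣ Nat.card G →
    ¬ ∃ g : G, orderOf g = a * b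

variable {A : Set ℕ} (hA : Sep G A)

section

include hA

theorem iff_of_commute {p q : ℕ} (hp : p.Prime) (hq : q.Prime) (hne : p ≠ q) {x y : G}
    (hx : orderOf x = p) (hy : orderOf y = q) (hc : Commute x y) : p ∈ A ↔ q ∈ A := by
  have ho : orderOf (x * y) = p * q := by
    rw [hc.orderOf_mul_eq_mul_orderOf_of_coprime (by rw [hx, hy]; exact (Nat.coprime_primes hp hq).2 hne),
      hx, hy]
  have hpG : p ∣ Nat.card G := hx ▸ orderOf_dvd_natCard x
  have hqG : q ∣ Nat.card G := hy ▸ orderOf_dvd_natCard y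
  exact ⟨fun h => by_contra fun h' => hA p h q h' hp hq hpG hqG ⟨x * y, ho⟩,
    fun h => by_contra fun h' => hA q h p h' hq hp hqG hpG ⟨x * y, by rw [ho, mul_comm]⟩⟩

theorem iff_of_centralizer {p q : ℕ} (hp : p.Prime) (hq : q.Prime) (hne : p ≠ q) {C P : Subgroup G}
    (hC : C ≤ Subgroup.centralizer (P : Set G)) (hP : p ∣ Nat.card P) (hqC : q ∣ Nat.card C) :
    p ∈ A ↔ q ∈ A := by
  have : Fact p.Prime := ⟨hp⟩
  have : Fact q.Prime := ⟨hq⟩
  obtain ⟨x, hx⟩ := exists_prime_orderOf_dvd_card' p hP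
  obtain ⟨y, hy⟩ := exists_prime_orderOf_dvd_card' q hqC
  refine iff_of_commute hA hp hq hne (x := (x : G)) (y := (y : G)) (by rwa [Subgroup.orderOf_coe])
    (by rwa [Subgroup.orderOf_coe]) ?_
  exact Subgroup.mem_centralizer_iff.1 (hC y.2) x x.2

/-- An action without fixed points makes the orbits regular. -/
theorem iff_of_action {p r : ℕ} (hp : p.Prime) (hr : r.Prime) (hne : p ≠ r) {R P : Subgroup G}
    (hR : IsPGroup r R) (hP : IsPGroup p P) (hRP : R ≤ Subgroup.normalizer (P : Set G))
    (hnd : ¬ Nat.card R ∣ Nat.card P - 1) : p ∈ A ↔ r ∈ A := by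
  have := Fintype.ofFinite G
  by_cases hfix : ∃ g ∈ R, g ≠ 1 ∧ ∃ v ∈ P, v ≠ 1 ∧ Commute g v
  · obtain ⟨g, hg, hg1, v, hv, hv1, hc⟩ := hfix
    have hord : ∀ {s : ℕ} (_ : s.Prime) (S : Subgroup G) (_ : IsPGroup s S) (w : G), w ∈ S → w ≠ 1 →
        ∃ k, orderOf (w ^ k) = s := by
      intro s hs S hS w hw hw1
      have : Fact s.Prime := ⟨hs⟩
      obtain ⟨a, ha⟩ := IsPGroup.iff_orderOf.1 hS ⟨w, hw⟩
      rw [Subgroup.orderOf_mk] at ha
      rcases a with _ | a
      · exact absurd (orderOf_eq_one_iff.1 (ha.trans (pow_zero s))) hw1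
      refine ⟨s ^ a, ?_⟩
      rw [orderOf_pow_of_dvd (pow_ne_zero _ hs.ne_zero) (ha ▸ pow_dvd_pow s (Nat.le_succ a)), ha,
        pow_succ, Nat.mul_div_cancel_left _ (pow_pos hs.pos a)]
    obtain ⟨i, hi⟩ := hord hr R hR g hg hg1
    obtain ⟨j, hj⟩ := hord hp P hP v hv hv1
    exact iff_of_commute hA hp hr hne hj hi (hc.symm.pow_pow j i)
  push Not at hfix
  exfalso
  refine hnd ?_
  set X : Finset G := Finset.univ.filter fun v => v ∈ P ∧ v ≠ 1
  have hXcard : X.card = Nat.card P - 1 := by
    have e : X = (Finset.univ.filter (· ∈ P)).erase 1 := by ext v; simp [X, and_comm]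
    rw [e, Finset.card_erase_of_mem (by simp), Nat.card_eq_fintype_card, Fintype.card_subtype]
  rw [← hXcard]
  set orb : G → Finset G := fun v => (Finset.univ.filter (· ∈ R)).image fun g => g * v * g⁻¹
  have horb : ∀ v w, w ∈ orb v ↔ ∃ g ∈ R, g * v * g⁻¹ = w := fun v w => by simp [orb]
  have hcard : ∀ v ∈ X, (orb v).card = Nat.card R := by
    intro v hv
    simp only [X, Finset.mem_filter, Finset.mem_univ, true_and] at hv
    rw [Finset.card_image_of_injOn, Nat.card_eq_fintype_card, Fintype.card_subtype]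
    intro a ha b hb e
    simp only [Finset.coe_filter, Finset.mem_univ, true_and, Set.mem_setOf_eq] at ha hb
    by_contra hab
    refine hfix (b⁻¹ * a) (mul_mem (inv_mem hb) ha) (fun h1 => hab ?_) v hv.1 hv.2 ?_
    · rw [inv_mul_eq_one] at h1; exact h1.symm
    · show b⁻¹ * a * v = v * (b⁻¹ * a)
      have e' : a * v * a⁻¹ = b * v * b⁻¹ := e
      calc b⁻¹ * a * v = b⁻¹ * (a * v * a⁻¹) * a := by group
        _ = v * (b⁻¹ * a) := by rw [e']; group
  rw [Finset.card_eq_sum_card_image orb X]
  refine Finset.dvd_sum fun o ho => ?_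
  obtain ⟨v, hv, rfl⟩ := Finset.mem_image.1 ho
  rw [← hcard v hv]
  refine dvd_of_eq (congrArg Finset.card ?_)
  ext w
  simp only [Finset.mem_filter, X, Finset.mem_univ, true_and] at hv ⊢
  constructor
  · intro hw
    obtain ⟨g, hg, rfl⟩ := (horb v w).1 hw
    refine ⟨⟨(Subgroup.mem_normalizer_iff.1 (hRP hg) v).1 hv.1, fun e => hv.2 (by simpa using e)⟩, ?_⟩
    ext u
    simp only [horb]
    exact ⟨fun ⟨k, hk, e⟩ => ⟨k * g, mul_mem hk hg, by rw [← e]; group⟩,
      fun ⟨k, hk, e⟩ => ⟨k * g⁻¹, mul_mem hk (inv_mem hg), by rw [← e]; group⟩⟩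
  · rintro ⟨-, e⟩
    rw [← e]
    exact (horb w w).2 ⟨1, one_mem R, by group⟩

end

/-- The index of the normalizer of a Sylow subgroup of a normal subgroup. -/
theorem normalizer_index_dvd {p : ℕ} [Fact p.Prime] (N : Subgroup G) [N.Normal] (P : Sylow p N) :
    (Subgroup.normalizer (((P : Subgroup N).map N.subtype : Subgroup G) : Set G)).index ∣ Nat.card N ∧
      N.index ∣ Nat.card (Subgroup.normalizer (((P : Subgroup N).map N.subtype : Subgroup G) : Set G)) := by
  have hsup := Sylow.normalizer_sup_eq_top (N := N) P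
  set H := Subgroup.normalizer (((P : Subgroup N).map N.subtype : Subgroup G) : Set G)
  have h1 : N.relIndex H = N.index := by
    rw [← Subgroup.relIndex_top_right, ← hsup, Subgroup.relIndex_sup_right]
  refine ⟨?_, h1 ▸ Subgroup.relIndex_dvd_card (H := N) (K := H)⟩
  have h2 := Subgroup.relIndex_dvd_card (H := H) (K := N)
  have e : H.relIndex N = H.index := by
    have a1 := Subgroup.relIndex_mul_index (inf_le_left : N ⊓ H ≤ N)
    have a2 := Subgroup.relIndex_mul_index (inf_le_right : N ⊓ H ≤ H)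
    rw [Subgroup.inf_relIndex_left] at a1
    rw [Subgroup.inf_relIndex_right, h1] at a2
    rw [← a2, mul_comm] at a1
    exact Nat.eq_of_mul_eq_mul_left (Nat.pos_of_ne_zero Subgroup.index_ne_zero_of_finite) a1
  rwa [e] at h2

/-- A subgroup normalizing a subgroup of prime order. -/
theorem card_dvd_mul_inf_centralizer {p : ℕ} [Fact p.Prime] {P H : Subgroup G} (hP : Nat.card P = p)
    (hH : H ≤ Subgroup.normalizer (P : Set G)) :
    Nat.card H ∣ (p - 1) * Nat.card (H ⊓ Subgroup.centralizer (P : Set G) : Subgroup G) := by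
  have : IsCyclic P := isCyclic_of_prime_card hP
  let φ : H →* MulAut P := (P.normalizerMonoidHom).comp (Subgroup.inclusion hH)
  have h1 : φ.ker.index ∣ p - 1 := by
    rw [Subgroup.index_ker]
    refine (Subgroup.card_subgroup_dvd_card _).trans (dvd_of_eq ?_)
    rw [IsCyclic.card_mulAut, hP, Nat.totient_prime (Fact.out : p.Prime)]
  have h2 : Nat.card φ.ker = Nat.card (H ⊓ Subgroup.centralizer (P : Set G) : Subgroup G) := by
    have : φ.ker = (Subgroup.centralizer (P : Set G)).subgroupOf H := by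
      rw [show φ.ker = (P.normalizerMonoidHom).ker.comap (Subgroup.inclusion hH) from rfl,
        Subgroup.normalizerMonoidHom_ker]
      rfl
    rw [this, ← Subgroup.inf_subgroupOf_left]
    exact Nat.card_congr (Subgroup.subgroupOfEquivOfLe inf_le_left).toEquiv
  rw [← h2, ← φ.ker.card_mul_index, mul_comm (p - 1)]
  exact Nat.mul_dvd_mul_left _ h1

/-- Burnside's complement inside a normal subgroup is normal in the whole group. -/
theorem exists_normal_complement {p : ℕ} [Fact p.Prime] {N : Subgroup G} [N.Normal] (P : Sylow p N)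
    (hc : Subgroup.normalizer ((P : Subgroup N) : Set N) ≤ Subgroup.centralizer ((P : Subgroup N) : Set N)) :
    ∃ K : Subgroup G, K.Normal ∧ Nat.card K * Nat.card (P : Subgroup N) = Nat.card N := by
  have hK := MonoidHom.ker_transferSylow_isComplement' P hc
  set K := (MonoidHom.transferSylow P hc).ker with hKdef
  have hcard := hK.card_mul_card
  refine ⟨K.map N.subtype, ⟨?_⟩, by rwa [Subgroup.card_map_of_injective N.subtype_injective]⟩
  have hmem : ∀ x : N, x ∈ K ↔ ¬ p ∣ orderOf x := by
    intro x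
    have hKn : K.Normal := MonoidHom.normal_ker _
    have hndvd : ¬ p ∣ Nat.card K := by
      intro hd
      have hidx : (P : Subgroup N).index = Nat.card K := by
        have h1 := (P : Subgroup N).card_mul_index
        rw [← hcard, mul_comm] at h1
        exact Nat.eq_of_mul_eq_mul_right Nat.card_pos h1
      exact P.not_dvd_index (hidx ▸ hd)
    refine ⟨fun hx hd => hndvd (hd.trans (Subgroup.orderOf_dvd_natCard _ hx)), fun hx => ?_⟩
    obtain ⟨a, ha⟩ := IsPGroup.iff_card.1 P.2
    have hidx : K.index = p ^ a := by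
      have h1 := K.card_mul_index
      rw [← hcard, ha] at h1
      exact Nat.eq_of_mul_eq_mul_left Nat.card_pos h1
    have h1 : orderOf (QuotientGroup.mk' K x) ∣ p ^ a := by
      have := orderOf_dvd_natCard (QuotientGroup.mk' K x)
      rwa [← Subgroup.index_eq_card, hidx] at this
    exact (QuotientGroup.eq_one_iff x).1 (orderOf_eq_one_iff.1 (Nat.eq_one_of_dvd_coprimes
      (((Nat.Prime.coprime_iff_not_dvd Fact.out).2 hx).pow_left a) h1
      (orderOf_map_dvd (QuotientGroup.mk' K) x)))
  rintro _ ⟨x, hx, rfl⟩ g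
  refine ⟨⟨g * x * g⁻¹, (inferInstance : N.Normal).conj_mem _ x.2 g⟩, ?_, rfl⟩
  rw [SetLike.mem_coe, hmem, Subgroup.orderOf_mk]
  rw [show g * (x : G) * g⁻¹ = MulAut.conj g (x : G) by simp, MulEquiv.orderOf_eq,
    Subgroup.orderOf_coe]
  exact (hmem x).1 hx

end CfsgLib.Order7920Graph
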