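import Mathlib.Tactic

/-!
# The eigenvalues of a valency eleven orbital of the degree 144 action

The first three moments determine the eigenvalues on the constituents of degrees 11, 45, 16, 55.
-/

set_option autoImplicit false

namespace CfsgLib.Blocks.Order7920.HeckeArith

/-- Candidate test on shifted naturals. -/
def ok (q r s : ℕ) : Bool :=
  let Q : ℤ := (q : ℤ) - 5
  let R : ℤ := (r : ℤ) - 7
  let S : ℤ := (s : ℤ) - 5
  let N : ℤ := -(11 + 45 * Q + 32 * R + 55 * S)
  if N % 11 = 0 then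
    let P : ℤ := N / 11
    if 121 + 11 * (P * P) + 45 * (Q * Q) + 32 * (R * R) + 55 * (S * S) = 1584 then
      if (1331 + 11 * (P * P * P) + 45 * (Q * Q * Q) + 32 * (R * R * R) + 55 * (S * S * S)) % 1584 = 0
        then (q == 4 && r == 6 && s == 4) else true
    else true
  else true

theorem ok_all : ((List.range 11).all fun q => (List.range 15).all fun r =>
    (List.range 11).all fun s => ok q r s) = true := by decide +kernel

theorem solve {p q r s : ℤ} (h1 : 11 + 11 * p + 45 * q + 32 * r + 55 * s = 0)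
    (h2 : 121 + 11 * p ^ 2 + 45 * q ^ 2 + 32 * r ^ 2 + 55 * s ^ 2 = 1584)
    (h3 : (1584 : ℤ) ∣ 1331 + 11 * p ^ 3 + 45 * q ^ 3 + 32 * r ^ 3 + 55 * s ^ 3) :
    p = 11 ∧ q = -1 ∧ r = -1 ∧ s = -1 := by
  have hq : -5 ≤ q ∧ q ≤ 5 := by
    have : q ^ 2 ≤ 32 := by linarith [sq_nonneg p, sq_nonneg r, sq_nonneg s]
    constructor <;> nlinarith only [this]
  have hr : -7 ≤ r ∧ r ≤ 7 := by
    have : r ^ 2 ≤ 45 := by linarith [sq_nonneg p, sq_nonneg q, sq_nonneg s]
    constructor <;> nlinarith only [this]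
  have hs : -5 ≤ s ∧ s ≤ 5 := by
    have : s ^ 2 ≤ 26 := by linarith [sq_nonneg p, sq_nonneg q, sq_nonneg r]
    constructor <;> nlinarith only [this]
  obtain ⟨a, ha⟩ : ∃ a : ℕ, (a : ℤ) = q + 5 := ⟨(q + 5).toNat, by omega⟩
  obtain ⟨b, hb⟩ : ∃ a : ℕ, (a : ℤ) = r + 7 := ⟨(r + 7).toNat, by omega⟩
  obtain ⟨c, hc⟩ : ∃ a : ℕ, (a : ℤ) = s + 5 := ⟨(s + 5).toNat, by omega⟩
  have h := ok_all
  rw [List.all_eq_true] at h
  have h' := h a (List.mem_range.2 (by omega))
  rw [List.all_eq_true] at h'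
  have h'' := h' b (List.mem_range.2 (by omega))
  rw [List.all_eq_true] at h''
  have h4 := h'' c (List.mem_range.2 (by omega))
  have eQ : (a : ℤ) - 5 = q := by omega
  have eR : (b : ℤ) - 7 = r := by omega
  have eS : (c : ℤ) - 5 = s := by omega
  simp only [ok, eQ, eR, eS] at h4
  rw [show -(11 + 45 * q + 32 * r + 55 * s) = 11 * p by linarith] at h4
  rw [if_pos (Int.mul_emod_right 11 p), Int.mul_ediv_cancel_left p (by norm_num : (11 : ℤ) ≠ 0),
    if_pos (by linarith), if_pos ?_] at h4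
  · simp only [Bool.and_eq_true, beq_iff_eq] at h4
    omega
  · have := Int.emod_eq_zero_of_dvd h3
    ring_nf at this ⊢
    exact this

end CfsgLib.Blocks.Order7920.HeckeArith
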