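import Cfsg.Agent.Lib.Char.Central
import Cfsg.Agent.Lib.Char.Complete
import Mathlib.LinearAlgebra.Trace

/-!
# Multiplicity-free spherical values of a bi-invariant set

For an irreducible character with at most one fixed vector of a subgroup `B`, the sums over a
`B`-bi-invariant set are a multiple of the sums over `B`, the factor being an algebraic integer.
-/

set_option autoImplicit false

namespace CfsgLib.Blocks.Order7920

open Cfsg CfsgLib Module

variable {G : Type*} [Group G] [Finite G]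

/-- The elements of a subgroup, as a finite set. -/
noncomputable def subFinset (B : Subgroup G) : Finset G := (Set.toFinite (B : Set G)).toFinset

theorem mem_subFinset {B : Subgroup G} {g : G} : g ∈ subFinset B ↔ g ∈ B := by simp [subFinset]

theorem card_subFinset (B : Subgroup G) : (subFinset B).card = Nat.card B := by
  rw [subFinset, ← Set.ncard_eq_toFinset_card, ← Nat.card_coe_set_eq]
  rfl

/-- The spherical value of a bi-invariant set. -/
theorem spherical (χ : IrrCharacter G) (B : Subgroup G) (D : Finset G)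
    (hl : ∀ b ∈ B, ∀ x ∈ D, b * x ∈ D) (hr : ∀ b ∈ B, ∀ x ∈ D, x * b ∈ D)
    (m : ℕ) (hm : ∑ b ∈ subFinset B, (χ : G → ℂ) b = (Nat.card B : ℂ) * m) (hm1 : m ≤ 1) :
    ∃ l : ℂ, IsIntegral ℤ l ∧
      (∀ g : G, ∑ x ∈ D, (χ : G → ℂ) (x * g) = l * ∑ b ∈ subFinset B, (χ : G → ℂ) (b * g)) := by
  classical
  obtain ⟨n, ρ, hρ, hρc'⟩ := χ.2
  have hρc := hρc'.symm
  set V := Fin n → ℂ
  set c : ℂ := (Nat.card B : ℂ) with hc
  have hc0 : c ≠ 0 := Nat.cast_ne_zero.2 Nat.card_pos.ne'
  set TB : Module.End ℂ V := ∑ b ∈ subFinset B, ρ b with hTB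
  set TD : Module.End ℂ V := ∑ x ∈ D, ρ x with hTD
  have hbl : ∀ b ∈ B, ∀ (S : Finset G), (∀ b ∈ B, ∀ x ∈ S, b * x ∈ S) →
      ρ b * ∑ x ∈ S, ρ x = ∑ x ∈ S, ρ x := by
    intro b hb S hS
    rw [Finset.mul_sum]
    refine Finset.sum_nbij' (fun x => b * x) (fun x => b⁻¹ * x) (fun x hx => hS b hb x hx)
      (fun x hx => hS _ (B.inv_mem hb) x hx) (fun x _ => inv_mul_cancel_left b x)
      (fun x _ => mul_inv_cancel_left b x) fun x _ => (map_mul ρ b x).symm
  have hbr : ∀ b ∈ B, ∀ (S : Finset G), (∀ b ∈ B, ∀ x ∈ S, x * b ∈ S) →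
      (∑ x ∈ S, ρ x) * ρ b = ∑ x ∈ S, ρ x := by
    intro b hb S hS
    rw [Finset.sum_mul]
    refine Finset.sum_nbij' (fun x => x * b) (fun x => x * b⁻¹) (fun x hx => hS b hb x hx)
      (fun x hx => hS _ (B.inv_mem hb) x hx) (fun x _ => mul_inv_cancel_right x b)
      (fun x _ => inv_mul_cancel_right x b) fun x _ => (map_mul ρ x b).symm
  have hB1 : ∀ b ∈ B, ∀ x ∈ subFinset B, b * x ∈ subFinset B := fun b hb x hx =>
    mem_subFinset.2 (B.mul_mem hb (mem_subFinset.1 hx))
  have hTT : ∀ (S : Finset G), (∀ b ∈ B, ∀ x ∈ S, b * x ∈ S) →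
      TB * (∑ x ∈ S, ρ x) = c • (∑ x ∈ S, ρ x) := by
    intro S hS
    rw [hTB, Finset.sum_mul, Finset.sum_congr rfl fun b hb => hbl b (mem_subFinset.1 hb) S hS,
      Finset.sum_const, card_subFinset, hc, Nat.cast_smul_eq_nsmul]
  have hTT' : ∀ (S : Finset G), (∀ b ∈ B, ∀ x ∈ S, x * b ∈ S) →
      (∑ x ∈ S, ρ x) * TB = c • (∑ x ∈ S, ρ x) := by
    intro S hS
    rw [hTB, Finset.mul_sum, Finset.sum_congr rfl fun b hb => hbr b (mem_subFinset.1 hb) S hS,
      Finset.sum_const, card_subFinset, hc, Nat.cast_smul_eq_nsmul]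
  set E : Module.End ℂ V := c⁻¹ • TB with hE
  have hEE : IsIdempotentElem E := by
    show E * E = E
    rw [hE, smul_mul_assoc, mul_smul_comm, hTT _ hB1, smul_smul c⁻¹ c, inv_mul_cancel₀ hc0, one_smul]
  have hproj := (LinearMap.isProj_range_iff_isIdempotentElem E).2 hEE
  have htr : LinearMap.trace ℂ V E = (m : ℂ) := by
    rw [hE, hTB, map_smul, map_sum, smul_eq_mul, hρc] at *
    rw [show ∑ b ∈ subFinset B, (LinearMap.trace ℂ V) (ρ b) = c * m from hm, ← mul_assoc,
      inv_mul_cancel₀ hc0, one_mul]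
  have hrank : finrank ℂ (LinearMap.range E) = m := by
    have h := LinearMap.IsProj.trace hproj
    rw [htr] at h
    exact_mod_cast h.symm
  clear_value E
  -- every sandwich is a multiple of the idempotent
  have hsand : ∀ X : Module.End ℂ V, ∃ k : ℂ, E * X * E = k • E := by
    intro X
    rcases (by omega : m = 0 ∨ m = 1) with h0 | h1
    · have hE0 : E = 0 := LinearMap.range_eq_bot.1 (Submodule.finrank_eq_zero.1 (hrank.trans h0))
      exact ⟨0, by rw [hE0, mul_zero, smul_zero]⟩
    · obtain ⟨v, hv0, hspan⟩ := finrank_eq_one_iff'.1 (hrank.trans h1)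
      obtain ⟨k, hk⟩ := hspan ⟨E (X (v : V)), LinearMap.mem_range_self E _⟩
      refine ⟨k, LinearMap.ext fun u => ?_⟩
      obtain ⟨a, ha⟩ := hspan ⟨E u, LinearMap.mem_range_self E u⟩
      have ha' : a • (v : V) = E u := congrArg Subtype.val ha
      have hk' : k • (v : V) = E (X (v : V)) := congrArg Subtype.val hk
      rw [Module.End.mul_apply, Module.End.mul_apply, LinearMap.smul_apply, ← ha', map_smul, map_smul,
        ← hk', smul_comm]
  obtain ⟨k, hk⟩ := hsand TD
  have hEDE : E * TD * E = TD := by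
    rw [hE, smul_mul_assoc, hTD, hTT D hl, smul_smul, inv_mul_cancel₀ hc0, one_smul, mul_smul_comm,
      hTT' D hr, smul_smul, inv_mul_cancel₀ hc0, one_smul]
  rw [hEDE, hE, smul_smul] at hk
  by_cases hTB0 : TB = 0
  · refine ⟨0, isIntegral_zero, fun g => ?_⟩
    rw [zero_mul, hρc]
    have : TD * ρ g = 0 := by rw [hk, hTB0, smul_zero, zero_mul]
    rw [hTD, Finset.sum_mul] at this
    have h2 := congrArg (LinearMap.trace ℂ V) this
    rw [map_sum, map_zero] at h2
    simp only [← map_mul] at h2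
    exact h2
  refine ⟨k * c⁻¹, ?_, fun g => ?_⟩
  · -- integrality
    let R : Finset (G ⧸ B) := D.image QuotientGroup.mk
    let u : MonoidAlgebra ℤ G := ∑ q ∈ R, MonoidAlgebra.of ℤ G q.out
    have hU : MonoidAlgebra.lift ℤ (Module.End ℂ V) G ρ u = ∑ q ∈ R, ρ q.out := by
      rw [map_sum]
      exact Finset.sum_congr rfl fun q _ => MonoidAlgebra.lift_of (A := Module.End ℂ V) ρ q.out
    have hsplit : TD = (∑ q ∈ R, ρ q.out) * TB := by
      rw [hTD, hTB, Finset.sum_mul_sum, ← Finset.sum_product']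
      refine Finset.sum_bij' (fun x _ => ((x : G ⧸ B), (x : G ⧸ B).out⁻¹ * x))
        (fun y _ => y.1.out * y.2) ?_ ?_ ?_ ?_ ?_
      · intro x hx
        refine Finset.mem_product.2 ⟨Finset.mem_image_of_mem _ hx, mem_subFinset.2 ?_⟩
        exact QuotientGroup.eq.1 (QuotientGroup.out_eq' _)
      · intro y hy
        obtain ⟨hq, hb⟩ := Finset.mem_product.1 hy
        obtain ⟨x, hx, hxq⟩ := Finset.mem_image.1 hq
        have hx' : x⁻¹ * y.1.out ∈ B := QuotientGroup.eq.1 (hxq.trans (QuotientGroup.out_eq' _).symm)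
        rw [show y.1.out * y.2 = x * (x⁻¹ * y.1.out * y.2) by group]
        exact hr _ (B.mul_mem hx' (mem_subFinset.1 hb)) x hx
      · intro x _
        exact mul_inv_cancel_left _ x
      · intro y hy
        have hb := mem_subFinset.1 (Finset.mem_product.1 hy).2
        have e : ((y.1.out * y.2 : G) : G ⧸ B) = y.1 := by
          conv_rhs => rw [← QuotientGroup.out_eq' y.1]
          exact QuotientGroup.eq.2 (by simpa using B.inv_mem hb)
        refine Prod.ext e ?_
        simp only [e, inv_mul_cancel_left]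
      · intro x _
        rw [← map_mul, mul_inv_cancel_left]
    have hlam : (∑ q ∈ R, ρ q.out) * TB = (k * c⁻¹) • TB := by rw [← hsplit, hk]
    set U : Module.End ℂ V := ∑ q ∈ R, ρ q.out with hUdef
    have hfg : (MonoidAlgebra.lift ℤ (Module.End ℂ V) G ρ).range.toSubmodule.FG := by
      have h1 : (LinearMap.range (MonoidAlgebra.lift ℤ (Module.End ℂ V) G ρ).toLinearMap).FG :=
        Module.Finite.iff_fg.mp inferInstance
      convert h1 using 1
      ext x
      simp
    obtain ⟨p, hpm, hp⟩ := IsIntegral.of_mem_of_fg _ hfg U ⟨u, hU⟩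
    refine ⟨p, hpm, ?_⟩
    have hpow : ∀ i : ℕ, U ^ i * TB = (k * c⁻¹) ^ i • TB := by
      intro i
      induction i with
      | zero => rw [pow_zero, pow_zero, one_mul, one_smul]
      | succ i ih => rw [pow_succ, mul_assoc, hlam, mul_smul_comm, ih, smul_smul, pow_succ']
    have key : (Polynomial.aeval U p) * TB = (Polynomial.aeval (k * c⁻¹) p) • TB := by
      rw [Polynomial.aeval_eq_sum_range, Polynomial.aeval_eq_sum_range, Finset.sum_mul, Finset.sum_smul]
      refine Finset.sum_congr rfl fun i _ => ?_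
      rw [smul_mul_assoc, hpow, smul_assoc]
    rw [Polynomial.aeval_def, hp, zero_mul] at key
    exact (smul_eq_zero.1 key.symm).resolve_right hTB0
  · rw [hρc]
    have h := congrArg (fun f : Module.End ℂ V => LinearMap.trace ℂ V (f * ρ g)) hk
    simp only [hTD, hTB, smul_mul_assoc, Finset.sum_mul, map_smul, map_sum, ← map_mul, smul_eq_mul] at h
    exact h

/-- A character without fixed vectors of `B` has vanishing sums over the cosets of `B`. -/
theorem sum_eq_zero_of_sum (χ : IrrCharacter G) (B : Subgroup G)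
    (h : ∑ b ∈ subFinset B, (χ : G → ℂ) b = 0) (g : G) :
    ∑ b ∈ subFinset B, (χ : G → ℂ) (b * g) = 0 := by
  classical
  obtain ⟨n, ρ, hρ, hρc'⟩ := χ.2
  have hρc := hρc'.symm
  rw [hρc] at h ⊢
  set TB : Module.End ℂ (Fin n → ℂ) := ∑ b ∈ subFinset B, ρ b with hTB
  have hc0 : (Nat.card B : ℂ) ≠ 0 := Nat.cast_ne_zero.2 Nat.card_pos.ne'
  have hsq : TB * TB = (Nat.card B : ℂ) • TB := by
    have hl : ∀ b ∈ subFinset B, ρ b * TB = TB := fun b hb => by
      rw [hTB, Finset.mul_sum]
      refine Finset.sum_nbij' (fun x => b * x) (fun x => b⁻¹ * x)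
        (fun x hx => mem_subFinset.2 (B.mul_mem (mem_subFinset.1 hb) (mem_subFinset.1 hx)))
        (fun x hx => mem_subFinset.2 (B.mul_mem (B.inv_mem (mem_subFinset.1 hb)) (mem_subFinset.1 hx)))
        (fun x _ => inv_mul_cancel_left b x) (fun x _ => mul_inv_cancel_left b x)
        fun x _ => (map_mul ρ b x).symm
    nth_rewrite 1 [hTB]
    rw [Finset.sum_mul, Finset.sum_congr rfl hl, Finset.sum_const, card_subFinset,
      Nat.cast_smul_eq_nsmul]
  set E : Module.End ℂ (Fin n → ℂ) := (Nat.card B : ℂ)⁻¹ • TB with hE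
  have hEE : IsIdempotentElem E := by
    show E * E = E
    rw [hE, smul_mul_assoc, mul_smul_comm, hsq, smul_smul (Nat.card B : ℂ)⁻¹ (Nat.card B : ℂ),
      inv_mul_cancel₀ hc0, one_smul]
  have htr : LinearMap.trace ℂ (Fin n → ℂ) E = 0 := by
    rw [hE, hTB, map_smul, map_sum, smul_eq_mul]
    exact mul_eq_zero_of_right _ h
  have h0 := LinearMap.IsProj.trace ((LinearMap.isProj_range_iff_isIdempotentElem E).2 hEE)
  rw [htr] at h0
  have hE0 : E = 0 := LinearMap.range_eq_bot.1 (Submodule.finrank_eq_zero.1 (by exact_mod_cast h0.symm))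
  have hT0 : TB = 0 := (smul_eq_zero.1 (hE ▸ hE0)).resolve_left (inv_ne_zero hc0)
  have hz : TB * ρ g = 0 := by rw [hT0, zero_mul]
  rw [hTB, Finset.sum_mul] at hz
  have h2 := congrArg (LinearMap.trace ℂ (Fin n → ℂ)) hz
  rw [map_sum, map_zero] at h2
  simp only [← map_mul] at h2
  exact h2

end CfsgLib.Blocks.Order7920
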