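import Cfsg.Agent.Lib.Blocks.Order7920.Local
import Cfsg.Agent.Lib.Blocks.Order7920.Spherical
import Cfsg.Agent.Lib.Blocks.Order7920.HeckeArith
import Cfsg.Agent.Lib.Char.PowerTwist

/-!
# A subgroup of index twelve in a simple group of order 7920

For `B` the normaliser of a Sylow `11`-subgroup and an involution `w` inverting an element of order
five of `B`, the spherical values of `D = B w B` are forced, and `B ∪ D` is closed.
-/

set_option autoImplicit false

namespace CfsgLib.Blocks.Order7920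

open Cfsg CfsgLib CfsgLib.Char
open scoped Classical ComplexConjugate

variable {G : Type*} [Group G] [Fintype G] [IsSimpleGroup G]

omit [IsSimpleGroup G] in
/-- The sum over a subgroup is a multiple of its order. -/
theorem exists_mult (χ : IrrCharacter G) (B : Subgroup G) :
    ∃ m : ℕ, ∑ b ∈ subFinset B, (χ : G → ℂ) b = (Nat.card B : ℂ) * m := by
  obtain ⟨m, hm⟩ := IsChar.classInner_eq_natCast
    (IsChar.restrict B (IsIrr.isCharacter χ.2)) (isCharacter_one (G := B))
  refine ⟨m, ?_⟩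
  simp only [Cfsg.classInner, map_one, mul_one] at hm
  have hne : (Nat.card B : ℂ) ≠ 0 := Nat.cast_ne_zero.2 Nat.card_pos.ne'
  rw [← hm, mul_inv_cancel_left₀ hne]
  exact Finset.sum_subtype (subFinset B) (fun x => mem_subFinset) _

variable (hG : Nat.card G = 7920)
include hG

/-- A character alone in its degree is integer valued. -/
theorem int_valued {χ : IrrCharacter G} (huniq : ∀ ψ : IrrCharacter G, deg ψ = deg χ → ψ = χ) (x : G) :
    ∃ i : ℤ, (χ : G → ℂ) x = i := by
  refine CfsgLib.Perm.RationalValue.exists_eq_int (IsIrr.isCharacter χ.2) x fun m hm => ?_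
  let ψ : IrrCharacter G := ⟨fun g => (χ : G → ℂ) (g ^ m), isIrrCharacter_pow χ.2 hm⟩
  have hd : deg ψ = deg χ := Nat.cast_injective (R := ℂ) (by
    rw [← deg_cast ψ, ← deg_cast χ]
    show (χ : G → ℂ) (1 ^ m) = _
    rw [one_pow])
  exact congrFun (congrArg Subtype.val (huniq ψ hd)) x

theorem deg_unique {n : ℕ} (hn : n = 11 ∨ n = 44 ∨ n = 45 ∨ n = 55) {χ ψ : IrrCharacter G}
    (hχ : deg χ = n) (hψ : deg ψ = n) : ψ = χ := by
  have h := (Cfsg.Agent.S4429.result (G := G) hG).2 n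
  rw [if_pos (by omega), Nat.card_eq_one_iff_unique] at h
  exact congrArg Subtype.val (h.1.elim ⟨ψ, hψ⟩ ⟨χ, hχ⟩)

/-- The two characters of degree sixteen are complex conjugate. -/
theorem conj_sixteen (T : Tbl G) : conjIrr T.s1 = T.s2 := by
  have hd : ∀ χ : IrrCharacter G, deg (conjIrr χ) = deg χ := fun χ => Nat.cast_injective (R := ℂ) (by
    rw [← deg_cast (conjIrr χ), ← deg_cast χ, conjIrr_apply, deg_cast, map_natCast])
  rcases T.only16 (conjIrr T.s1) ((hd _).trans T.d_s1) with h1 | h1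
  swap
  · exact h1
  exfalso
  have h2 : conjIrr T.s2 = T.s2 := by
    rcases T.only16 (conjIrr T.s2) ((hd _).trans T.d_s2) with h | h
    · refine absurd ?_ T.ne_s
      rw [← h1, ← h, conjIrr_conjIrr]
    · exact h
  obtain ⟨z, hz⟩ : ∃ z : G, orderOf z = 11 := by
    have : Fact (Nat.Prime 11) := ⟨by norm_num⟩
    exact exists_prime_orderOf_dvd_card' 11 (by rw [hG]; norm_num)
  obtain ⟨a, ha⟩ : ∃ a : ℝ, (T.s1 : G → ℂ) z = a :=
    ⟨_, (Complex.conj_eq_iff_re.1 (congrFun (congrArg Subtype.val h1) z)).symm⟩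
  obtain ⟨b, hb⟩ : ∃ a : ℝ, (T.s2 : G → ℂ) z = a :=
    ⟨_, (Complex.conj_eq_iff_re.1 (congrFun (congrArg Subtype.val h2) z)).symm⟩
  have h := T.ortho z z⁻¹
  rw [if_neg (not_isConj_inv_eleven hG hz)] at h
  simp only [IsIrr.map_inv (trivChar G).2, IsIrr.map_inv T.t1.2, IsIrr.map_inv T.t2.2, IsIrr.map_inv T.t3.2,
    IsIrr.map_inv T.e11.2, IsIrr.map_inv T.s1.2, IsIrr.map_inv T.s2.2, IsIrr.map_inv T.f44.2,
    IsIrr.map_inv T.m45.2, IsIrr.map_inv T.n55.2, Complex.conj_conj, trivChar_apply, ha, hb,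
    value_eleven hG T.t1 (by rw [T.d_t1]; norm_num) hz,
    value_eleven hG T.t2 (by rw [T.d_t2]; norm_num) hz,
    value_eleven hG T.t3 (by rw [T.d_t3]; norm_num) hz,
    value_eleven hG T.e11 (by rw [T.d_e11]; norm_num) hz,
    value_eleven hG T.f44 (by rw [T.d_f44]; norm_num) hz,
    value_eleven hG T.m45 (by rw [T.d_m45]; norm_num) hz,
    value_eleven hG T.n55 (by rw [T.d_n55]; norm_num) hz, T.d_t1, T.d_t2, T.d_t3, T.d_e11, T.d_f44,
    T.d_m45, T.d_n55] at h
  norm_num at h
  have h' : 1 + 3 + (a * a + b * b) + 1 = 0 := Complex.ofReal_injective (by push_cast; linear_combination h)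
  nlinarith only [h', mul_self_nonneg a, mul_self_nonneg b]

omit [IsSimpleGroup G] in
theorem orderOf_of_mem_normalizer (hC : ∀ z : G, orderOf z = 11 →
      Nat.card (Subgroup.centralizer ({z} : Set G)) = 11)
    (P : Sylow 11 G) (hP : Nat.card (P : Subgroup G) = 11)
    (hN : Nat.card (Subgroup.normalizer ((P : Subgroup G) : Set G)) = 55) {b : G}
    (hb : b ∈ Subgroup.normalizer ((P : Subgroup G) : Set G)) (hb1 : b ∉ (P : Subgroup G)) :
    orderOf b = 5 := by
  have : Fact (Nat.Prime 11) := ⟨by norm_num⟩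
  have hd : orderOf b ∣ 5 * 11 := by
    rw [show 5 * 11 = 55 from rfl, ← hN]
    exact Subgroup.orderOf_dvd_natCard _ hb
  have hne11 : ¬ 11 ∣ orderOf b := by
    rintro ⟨k, hk⟩
    have hk' : k ∣ 5 := Nat.dvd_of_mul_dvd_mul_left (by norm_num : 0 < 11) (by rw [← hk]; simpa [mul_comm] using hd)
    rcases (Nat.dvd_prime Nat.prime_five).1 hk' with rfl | rfl
    · refine hb1 ?_
      have hP' : IsPGroup 11 (Subgroup.zpowers b) :=
        IsPGroup.of_card (n := 1) (by rw [Nat.card_zpowers, hk, mul_one, pow_one])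
      have := hP'.inf_normalizer_sylow P
      exact (this.le ⟨Subgroup.mem_zpowers b, hb⟩).2
    · have hy : orderOf (b ^ 5) = 11 := by
        rw [orderOf_pow_of_dvd (by norm_num) ⟨11, by omega⟩, hk]
      have hmem : b ∈ Subgroup.centralizer ({b ^ 5} : Set G) :=
        Subgroup.mem_centralizer_singleton_iff.2 (Commute.pow_right (Commute.refl b) 5).eq
      have := Subgroup.orderOf_dvd_natCard _ hmem
      rw [hC _ hy, hk] at this
      norm_num at this
  have h5 : orderOf b ∣ 5 :=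
    ((by norm_num : Nat.Prime 11).coprime_iff_not_dvd.2 hne11).symm.dvd_of_dvd_mul_right hd
  refine ((Nat.dvd_prime Nat.prime_five).1 h5).resolve_left fun h => hb1 ?_
  rw [orderOf_eq_one_iff.1 h]
  exact one_mem _

/-- The sums of the irreducible characters over the normaliser of a Sylow `11`-subgroup. -/
theorem sum_normalizer (T : Tbl G) (P : Sylow 11 G) :
    ∀ χ : IrrCharacter G, ∑ b ∈ subFinset (Subgroup.normalizer ((P : Subgroup G) : Set G)),
      (χ : G → ℂ) b = if deg χ = 10 ∨ deg χ = 44 then 0 else 55 := by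
  have : Fact (Nat.Prime 11) := ⟨by norm_num⟩
  set B := Subgroup.normalizer ((P : Subgroup G) : Set G) with hB
  have hP : Nat.card (P : Subgroup G) = 11 := card_sylow hG (Or.inl rfl) P
  have hN : Nat.card B = 55 := (eleven_values hG P).2.1
  set S := (subFinset (P : Subgroup G)).erase 1 with hS
  set R := (subFinset B) \ subFinset (P : Subgroup G) with hR
  have hsub : subFinset (P : Subgroup G) ⊆ subFinset B := fun x hx =>
    mem_subFinset.2 (Subgroup.le_normalizer (mem_subFinset.1 hx))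
  have hScard : S.card = 10 := by
    rw [hS, Finset.card_erase_of_mem (mem_subFinset.2 (one_mem _)), card_subFinset, hP]
  have hRcard : R.card = 44 := by
    rw [hR, Finset.card_sdiff_of_subset hsub, card_subFinset, card_subFinset, hP, hN]
  have hSo : ∀ x ∈ S, orderOf x = 11 := fun x hx => by
    obtain ⟨hx1, hx⟩ := Finset.mem_erase.1 hx
    have hd := Subgroup.orderOf_dvd_natCard _ (mem_subFinset.1 hx)
    rw [hP] at hd
    exact ((Nat.dvd_prime (by norm_num)).1 hd).resolve_left fun h => hx1 (orderOf_eq_one_iff.1 h)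
  have hRo : ∀ x ∈ R, orderOf x = 5 := fun x hx => by
    obtain ⟨h1, h2⟩ := Finset.mem_sdiff.1 hx
    exact orderOf_of_mem_normalizer hG (fun z hz => card_centralizer_eleven hG hz) P hP hN
      (mem_subFinset.1 h1) fun h => h2 (mem_subFinset.2 h)
  intro χ
  have hsplit : ∑ b ∈ subFinset B, (χ : G → ℂ) b =
      (deg χ : ℂ) + ∑ x ∈ S, (χ : G → ℂ) x + ∑ x ∈ R, (χ : G → ℂ) x := by
    rw [← Finset.sum_sdiff hsub, ← Finset.add_sum_erase _ _ (mem_subFinset.2 (one_mem (P : Subgroup G))),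
      deg_cast, ← hS, ← hR]
    ring
  have hRsum : ∑ x ∈ R, (χ : G → ℂ) x = 44 * (if 5 ∣ deg χ then 0 else if deg χ % 5 = 1 then 1 else -1) := by
    rw [Finset.sum_congr rfl fun x hx => value_five hG T χ (hRo x hx), Finset.sum_const, hRcard,
      nsmul_eq_mul]
    norm_num
  obtain ⟨hten, hdeg⟩ := Cfsg.Agent.S4429.result (G := G) hG
  have hd7 : deg χ = 1 ∨ deg χ = 10 ∨ deg χ = 11 ∨ deg χ = 16 ∨ deg χ = 44 ∨ deg χ = 45 ∨ deg χ = 55 := by
    by_contra hno
    have h0 := hdeg (deg χ)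
    rw [if_neg (by omega), if_neg (by omega), if_neg (by omega)] at h0
    have : Nonempty {ψ : IrrCharacter G // charDegree (ψ : G → ℂ) = deg χ} := ⟨⟨χ, rfl⟩⟩
    exact Nat.card_pos.ne' h0
  by_cases h16 : deg χ = 16
  · rw [if_neg (by omega)]
    obtain ⟨m, hm⟩ := exists_mult χ B
    have hbound : ∀ x ∈ S, |((χ : G → ℂ) x).re| ≤ 49 / 20 := by
      intro x hx
      have h := T.ortho x x
      rw [if_pos (IsConj.refl x), card_centralizer_eleven hG (hSo x hx)] at h
      simp only [trivChar_apply, value_eleven hG T.t1 (by rw [T.d_t1]; norm_num) (hSo x hx),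
        value_eleven hG T.t2 (by rw [T.d_t2]; norm_num) (hSo x hx),
        value_eleven hG T.t3 (by rw [T.d_t3]; norm_num) (hSo x hx),
        value_eleven hG T.e11 (by rw [T.d_e11]; norm_num) (hSo x hx),
        value_eleven hG T.f44 (by rw [T.d_f44]; norm_num) (hSo x hx),
        value_eleven hG T.m45 (by rw [T.d_m45]; norm_num) (hSo x hx),
        value_eleven hG T.n55 (by rw [T.d_n55]; norm_num) (hSo x hx), T.d_t1, T.d_t2, T.d_t3, T.d_e11,
        T.d_f44, T.d_m45, T.d_n55, Complex.mul_conj] at h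
      norm_num at h
      have h' : Complex.normSq ((T.s1 : G → ℂ) x) + Complex.normSq ((T.s2 : G → ℂ) x) = 6 :=
        Complex.ofReal_injective (by push_cast; linear_combination h)
      have hle : Complex.normSq ((χ : G → ℂ) x) ≤ 6 := by
        rcases T.only16 χ h16 with rfl | rfl <;>
          linarith [Complex.normSq_nonneg ((T.s1 : G → ℂ) x), Complex.normSq_nonneg ((T.s2 : G → ℂ) x)]
      have hre : ((χ : G → ℂ) x).re * ((χ : G → ℂ) x).re ≤ 6 :=
        (Complex.re_sq_le_normSq _).trans hle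
      rw [abs_le]
      constructor <;> nlinarith only [hre]
    have hre := congrArg Complex.re hsplit
    rw [hm, hN, hRsum, h16] at hre
    norm_num at hre
    have hSb : |∑ x ∈ S, ((χ : G → ℂ) x).re| ≤ 49 / 2 := by
      refine (Finset.abs_sum_le_sum_abs _ _).trans ((Finset.sum_le_sum hbound).trans ?_)
      rw [Finset.sum_const, hScard]
      norm_num
    rw [abs_le] at hSb
    have hm1 : m = 1 := by
      have h1 : (0 : ℝ) < m := by linarith [hSb.1, hSb.2]
      have h2 : (m : ℝ) < 2 := by linarith [hSb.1, hSb.2]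
      have h1' : 0 < m := by exact_mod_cast h1
      have h2' : m < 2 := by exact_mod_cast h2
      omega
    rw [hm, hm1, hN]
    norm_num
  · rw [hsplit, hRsum, Finset.sum_congr rfl fun x hx => value_eleven hG χ h16 (hSo x hx),
      Finset.sum_const, hScard, nsmul_eq_mul]
    rcases hd7 with e | e | e | e | e | e | e <;> rw [e] <;> norm_num
    exact h16 e

/-- The eigenvalues of the bi-invariant set, and the resulting product rule. -/
theorem product_mem (T : Tbl G) (P : Sylow 11 G) (D : Finset G)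
    (hl : ∀ b ∈ Subgroup.normalizer ((P : Subgroup G) : Set G), ∀ x ∈ D, b * x ∈ D)
    (hr : ∀ b ∈ Subgroup.normalizer ((P : Subgroup G) : Set G), ∀ x ∈ D, x * b ∈ D)
    (hout : ∀ x ∈ D, x ∉ Subgroup.normalizer ((P : Subgroup G) : Set G))
    (hinv : ∀ x ∈ D, x⁻¹ ∈ D) (hcard : D.card = 605) {x₀ : G} (hx₀ : x₀ ∈ D)
    (hgen : ∀ x ∈ D, ∃ b ∈ Subgroup.normalizer ((P : Subgroup G) : Set G),
      ∃ c ∈ Subgroup.normalizer ((P : Subgroup G) : Set G), x = b * x₀ * c) :
    ∀ x ∈ D, ∀ y ∈ D, x * y ∈ Subgroup.normalizer ((P : Subgroup G) : Set G) ∨ x * y ∈ D := by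
  have := Fintype.ofFinite (IrrCharacter G)
  have : Fact (Nat.Prime 11) := ⟨by norm_num⟩
  set B := Subgroup.normalizer ((P : Subgroup G) : Set G) with hB
  have hN : Nat.card B = 55 := (eleven_values hG P).2.1
  have hsB : ∀ χ : IrrCharacter G, ∑ b ∈ subFinset B, (χ : G → ℂ) b =
      if deg χ = 10 ∨ deg χ = 44 then 0 else 55 := sum_normalizer hG T P
  have hmult : ∀ χ : IrrCharacter G, ∃ m : ℕ, m ≤ 1 ∧
      ∑ b ∈ subFinset B, (χ : G → ℂ) b = (Nat.card B : ℂ) * m := fun χ => by
    by_cases h : deg χ = 10 ∨ deg χ = 44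
    · exact ⟨0, by norm_num, by rw [hsB χ, if_pos h]; simp⟩
    · exact ⟨1, le_rfl, by rw [hsB χ, if_neg h, hN]; norm_num⟩
  choose m hm1 hm using hmult
  choose l hlint hlval using fun χ : IrrCharacter G => spherical χ B D hl hr (m χ) (hm χ) (hm1 χ)
  have hcl := fun χ : IrrCharacter G => IsChar.map_mul_comm (IsIrr.isCharacter χ.2)
  -- the sum over pairs
  have hpair : ∀ (χ : IrrCharacter G) (g : G), ∑ x ∈ D, ∑ y ∈ D, (χ : G → ℂ) (x * y * g) =
      55 * l χ ^ 2 * ∑ b ∈ subFinset B, (χ : G → ℂ) (b * g) := by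
    intro χ g
    have h1 : ∀ x, ∑ y ∈ D, (χ : G → ℂ) (x * y * g) =
        l χ * ∑ b ∈ subFinset B, (χ : G → ℂ) (b * (g * x)) := fun x => by
      rw [← hlval χ]
      exact Finset.sum_congr rfl fun y _ => by rw [mul_assoc x, hcl χ, mul_assoc]
    rw [Finset.sum_congr rfl fun x _ => h1 x, ← Finset.mul_sum, Finset.sum_comm]
    have h2 : ∀ b, ∑ x ∈ D, (χ : G → ℂ) (b * (g * x)) =
        l χ * ∑ c ∈ subFinset B, (χ : G → ℂ) (c * (b * g)) := fun b => by
      rw [← hlval χ]
      exact Finset.sum_congr rfl fun x _ => by rw [← mul_assoc, hcl χ]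
    rw [Finset.sum_congr rfl fun b _ => h2 b, ← Finset.mul_sum]
    have h3 : ∀ b ∈ subFinset B, ∑ c ∈ subFinset B, (χ : G → ℂ) (c * (b * g)) =
        ∑ c ∈ subFinset B, (χ : G → ℂ) (c * g) := fun b hb => by
      refine Finset.sum_nbij' (fun c => c * b) (fun c => c * b⁻¹)
        (fun c hc => mem_subFinset.2 (B.mul_mem (mem_subFinset.1 hc) (mem_subFinset.1 hb)))
        (fun c hc => mem_subFinset.2 (B.mul_mem (mem_subFinset.1 hc) (B.inv_mem (mem_subFinset.1 hb))))
        (fun c _ => mul_inv_cancel_right c b) (fun c _ => inv_mul_cancel_right c b)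
        fun c _ => by rw [mul_assoc]
    rw [Finset.sum_congr rfl h3, Finset.sum_const, card_subFinset, hN, nsmul_eq_mul]
    push_cast
    ring
  have hsD : ∀ χ : IrrCharacter G, ∑ x ∈ D, (χ : G → ℂ) x =
      l χ * ∑ b ∈ subFinset B, (χ : G → ℂ) b := fun χ => by simpa using hlval χ 1
  -- integrality
  have hint : ∀ χ : IrrCharacter G, ¬ (deg χ = 10 ∨ deg χ = 44) →
      (∀ x : G, ∃ i : ℤ, (χ : G → ℂ) x = i) → ∃ L : ℤ, l χ = L := by
    intro χ hχ hv
    choose i hi using hv
    have h := hsD χ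
    rw [hsB χ, if_neg hχ, Finset.sum_congr rfl fun x _ => hi x, ← Int.cast_sum] at h
    have hq : l χ = (((∑ x ∈ D, i x : ℤ) : ℚ) / 55 : ℚ) := by
      push_cast at h ⊢
      linear_combination (-1 / 55 : ℂ) * h
    have hi' := hlint χ
    rw [hq, ← eq_ratCast (algebraMap ℚ ℂ)] at hi'
    obtain ⟨L, hL⟩ := IsIntegrallyClosed.isIntegral_iff.mp
      ((isIntegral_algebraMap_iff (algebraMap ℚ ℂ).injective).1 hi')
    exact ⟨L, by rw [hq, ← hL]; simp⟩
  obtain ⟨p, hp⟩ := hint T.e11 (by rw [T.d_e11]; norm_num)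
    (int_valued hG fun ψ h => deg_unique hG (Or.inl rfl) T.d_e11 (h.trans T.d_e11))
  obtain ⟨q, hq⟩ := hint T.m45 (by rw [T.d_m45]; norm_num)
    (int_valued hG fun ψ h => deg_unique hG (Or.inr (Or.inr (Or.inl rfl))) T.d_m45 (h.trans T.d_m45))
  obtain ⟨s, hs⟩ := hint T.n55 (by rw [T.d_n55]; norm_num)
    (int_valued hG fun ψ h => deg_unique hG (Or.inr (Or.inr (Or.inr rfl))) T.d_n55 (h.trans T.d_n55))
  have hl1 : l (trivChar G) = 11 := by
    have h := hsD (trivChar G)
    rw [hsB, deg_trivChar, if_neg (by norm_num)] at h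
    simp only [trivChar_apply, Finset.sum_const, hcard, nsmul_eq_mul] at h
    push_cast at h
    linear_combination (-1 / 55 : ℂ) * h
  obtain ⟨r, hr1, hr2⟩ : ∃ r : ℤ, l T.s1 = r ∧ l T.s2 = r := by
    have heq : l T.s1 = l T.s2 := by
      have h1 := hsD T.s1
      have h2 := hsD T.s2
      rw [hsB, T.d_s1, if_neg (by norm_num)] at h1
      rw [hsB, T.d_s2, if_neg (by norm_num)] at h2
      have h12 : ∑ x ∈ D, (T.s2 : G → ℂ) x = ∑ x ∈ D, (T.s1 : G → ℂ) x := by
        refine Finset.sum_nbij' (fun x => x⁻¹) (fun x => x⁻¹) hinv hinv (fun x _ => inv_inv x)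
          (fun x _ => inv_inv x) fun x _ => ?_
        rw [IsIrr.map_inv T.s1.2, ← conjIrr_apply, conj_sixteen hG T]
      linear_combination (1 / 55 : ℂ) * h2 - (1 / 55 : ℂ) * h1 - (1 / 55 : ℂ) * h12
    have hsum : ∀ x : G, ∃ i : ℤ, (T.s1 : G → ℂ) x + (T.s2 : G → ℂ) x = i := fun x => by
      refine CfsgLib.Perm.RationalValue.exists_eq_int
        (IsChar.add (IsIrr.isCharacter T.s1.2) (IsIrr.isCharacter T.s2.2)) x fun k hk => ?_
      let ψ₁ : IrrCharacter G := ⟨fun g => (T.s1 : G → ℂ) (g ^ k), isIrrCharacter_pow T.s1.2 hk⟩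
      let ψ₂ : IrrCharacter G := ⟨fun g => (T.s2 : G → ℂ) (g ^ k), isIrrCharacter_pow T.s2.2 hk⟩
      have hd : ∀ (χ ψ : IrrCharacter G), ((ψ : G → ℂ) = fun g => (χ : G → ℂ) (g ^ k)) → deg χ = 16 →
          deg ψ = 16 := fun χ ψ hψ hχ => Nat.cast_injective (R := ℂ) (by
        rw [← deg_cast ψ, hψ]
        simp only [one_pow, deg_cast, hχ])
      have hne : ψ₁ ≠ ψ₂ := fun e => T.ne_s (irr_ext fun g => by
        obtain ⟨j, hj⟩ := exists_pow_eq_self_of_coprime (x := g) (n := k)
          (Nat.Coprime.coprime_dvd_right (orderOf_dvd_natCard g) hk)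
        rw [← hj, ← pow_mul, mul_comm, pow_mul]
        exact congrFun (congrArg Subtype.val e) (g ^ j))
      rcases T.only16 ψ₁ (hd T.s1 ψ₁ rfl T.d_s1) with e1 | e1 <;>
        rcases T.only16 ψ₂ (hd T.s2 ψ₂ rfl T.d_s2) with e2 | e2
      · exact absurd (e1.trans e2.symm) hne
      · show (ψ₁ : G → ℂ) x + (ψ₂ : G → ℂ) x = _
        rw [e1, e2]; rfl
      · show (ψ₁ : G → ℂ) x + (ψ₂ : G → ℂ) x = _
        rw [e1, e2, add_comm]; rfl
      · exact absurd (e1.trans e2.symm) hne
    choose i hi using hsum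
    have h1 := hsD T.s1
    have h2 := hsD T.s2
    rw [hsB, T.d_s1, if_neg (by norm_num)] at h1
    rw [hsB, T.d_s2, if_neg (by norm_num), ← heq] at h2
    have h3 : ∑ x ∈ D, ((T.s1 : G → ℂ) x + (T.s2 : G → ℂ) x) = ((∑ x ∈ D, i x : ℤ) : ℂ) := by
      rw [Int.cast_sum]; exact Finset.sum_congr rfl fun x _ => hi x
    rw [Finset.sum_add_distrib, h1, h2] at h3
    have hq : l T.s1 = (((∑ x ∈ D, i x : ℤ) : ℚ) / 110 : ℚ) := by
      push_cast at h3 ⊢
      linear_combination (1 / 110 : ℂ) * h3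
    have hi' := hlint T.s1
    rw [hq, ← eq_ratCast (algebraMap ℚ ℂ)] at hi'
    obtain ⟨L, hL⟩ := IsIntegrallyClosed.isIntegral_iff.mp
      ((isIntegral_algebraMap_iff (algebraMap ℚ ℂ).injective).1 hi')
    exact ⟨L, by rw [hq, ← hL]; simp, by rw [← heq, hq, ← hL]; simp⟩
  have hreg : ∀ y : G, ∑ χ : IrrCharacter G, (deg χ : ℂ) * (χ : G → ℂ) y = if y = 1 then 7920 else 0 := by
    intro y
    split_ifs with h
    · subst h
      have h2 := sum_sq_degree (G := G)
      rw [hG] at h2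
      simp only [deg_cast, sq] at h2 ⊢
      norm_num at h2
      linear_combination h2
    · have h2 := sum_degree_mul_apply_of_ne_one h
      simp only [deg_cast] at h2
      exact h2
  -- first moment
  have hM1 : (11 : ℂ) + 11 * p + 45 * q + 32 * r + 55 * s = 0 := by
    have h : ∑ χ : IrrCharacter G, ∑ x ∈ D, (deg χ : ℂ) * (χ : G → ℂ) x = 0 := by
      rw [Finset.sum_comm]
      exact Finset.sum_eq_zero fun x hx => by
        rw [hreg, if_neg]
        intro h1
        exact hout x hx (h1 ▸ one_mem B)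
    simp only [← Finset.mul_sum, hsD, hsB] at h
    rw [T.sum_eq] at h
    simp only [deg_trivChar, T.d_t1, T.d_t2, T.d_t3, T.d_e11, T.d_s1, T.d_s2, T.d_f44, T.d_m45,
      T.d_n55, hl1, hp, hq, hs, hr1, hr2] at h
    norm_num at h
    linear_combination (1 / 55 : ℂ) * h
  -- second moment
  have hM2 : (121 : ℂ) + 11 * p ^ 2 + 45 * q ^ 2 + 32 * r ^ 2 + 55 * s ^ 2 = 1584 := by
    have h : ∑ χ : IrrCharacter G, ∑ x ∈ D, ∑ y ∈ D, (deg χ : ℂ) * (χ : G → ℂ) (x * y * 1) =
        7920 * 605 := by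
      rw [Finset.sum_comm]
      have h1 : ∀ x ∈ D, ∑ χ : IrrCharacter G, ∑ y ∈ D, (deg χ : ℂ) * (χ : G → ℂ) (x * y * 1) = 7920 := by
        intro x hx
        rw [Finset.sum_comm]
        simp only [hreg, mul_one, mul_eq_one_iff_inv_eq]
        rw [Finset.sum_ite_eq, if_pos (hinv x hx)]
      rw [Finset.sum_congr rfl h1, Finset.sum_const, hcard, nsmul_eq_mul]
      norm_num
    simp only [← Finset.mul_sum, hpair] at h
    simp only [mul_one, hsB] at h
    rw [T.sum_eq] at h
    simp only [deg_trivChar, T.d_t1, T.d_t2, T.d_t3, T.d_e11, T.d_s1, T.d_s2, T.d_f44, T.d_m45,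
      T.d_n55, hl1, hp, hq, hs, hr1, hr2] at h
    norm_num at h
    linear_combination (1 / 3025 : ℂ) * h
  -- third moment
  have hM3 : ∃ k : ℕ, (1331 : ℂ) + 11 * p ^ 3 + 45 * q ^ 3 + 32 * r ^ 3 + 55 * s ^ 3 = 1584 * k := by
    set f : G → ℕ := fun x => (D.filter fun y => x * y ∈ D).card with hf
    have hconst : ∀ x ∈ D, f x = f x₀ := by
      intro x hx
      obtain ⟨b, hb, c, hc, rfl⟩ := hgen x hx
      refine Finset.card_bij (fun y _ => c * y) (fun y hy => ?_) (fun y _ y' _ h => mul_left_cancel h)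
        fun y hy => ⟨c⁻¹ * y, ?_, mul_inv_cancel_left c y⟩
      · obtain ⟨h1, h2⟩ := Finset.mem_filter.1 hy
        refine Finset.mem_filter.2 ⟨hl c hc y h1, ?_⟩
        have := hl b⁻¹ (B.inv_mem hb) _ h2
        rwa [show b⁻¹ * (b * x₀ * c * y) = x₀ * (c * y) by group] at this
      · obtain ⟨h1, h2⟩ := Finset.mem_filter.1 hy
        refine Finset.mem_filter.2 ⟨hl _ (B.inv_mem hc) y h1, ?_⟩
        have := hl b hb _ h2
        rwa [show b * (x₀ * y) = b * x₀ * c * (c⁻¹ * y) by group] at this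
    obtain ⟨k, hk⟩ : 55 ∣ f x₀ := by
      set S := D.filter fun y => x₀ * y ∈ D
      have hS : ∀ y ∈ S, ∀ b ∈ B, y * b ∈ S := fun y hy b hb => by
        obtain ⟨h1, h2⟩ := Finset.mem_filter.1 hy
        exact Finset.mem_filter.2 ⟨hr b hb y h1, by rw [← mul_assoc]; exact hr b hb _ h2⟩
      have he : QuotientGroup.mk ⁻¹' ((QuotientGroup.mk '' (S : Set G)) : Set (G ⧸ B)) = (S : Set G) := by
        ext y
        constructor
        · rintro ⟨y', hy', e⟩
          have := hS y' hy' _ (QuotientGroup.eq.1 e)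
          rwa [mul_inv_cancel_left] at this
        · intro hy
          exact ⟨y, hy, rfl⟩
      have h := Nat.card_congr (QuotientGroup.preimageMkEquivSubgroupProdSet B
        ((QuotientGroup.mk '' (S : Set G)) : Set (G ⧸ B)))
      rw [he, Nat.card_prod, hN, Nat.card_coe_set_eq, Set.ncard_coe_finset] at h
      exact ⟨_, h⟩
    refine ⟨k, ?_⟩
    have h : ∑ χ : IrrCharacter G, ∑ u ∈ D, ∑ x ∈ D, ∑ y ∈ D, (deg χ : ℂ) * (χ : G → ℂ) (x * y * u) =
        7920 * (605 * (55 * k)) := by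
      rw [Finset.sum_comm]
      simp only [Finset.sum_comm (s := (Finset.univ : Finset (IrrCharacter G))) (t := D), hreg,
        mul_eq_one_iff_eq_inv]
      rw [Finset.sum_comm]
      have h1 : ∀ x ∈ D, ∑ u ∈ D, ∑ y ∈ D, (if x * y = u⁻¹ then (7920 : ℂ) else 0) = 7920 * (55 * k) := by
        intro x hx
        rw [Finset.sum_comm]
        have h2 : ∀ y ∈ D, ∑ u ∈ D, (if x * y = u⁻¹ then (7920 : ℂ) else 0) =
            if x * y ∈ D then 7920 else 0 := by
          intro y _
          simp only [show ∀ u : G, x * y = u⁻¹ ↔ (x * y)⁻¹ = u from fun u => inv_eq_iff_eq_inv.symm]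
          rw [Finset.sum_ite_eq]
          refine if_congr ⟨fun h => ?_, fun h => hinv _ h⟩ rfl rfl
          simpa using hinv _ h
        rw [Finset.sum_congr rfl h2, ← Finset.sum_filter, Finset.sum_const, nsmul_eq_mul]
        rw [show (D.filter fun y => x * y ∈ D).card = f x₀ from hconst x hx, hk]
        push_cast
        ring
      rw [Finset.sum_congr rfl h1, Finset.sum_const, hcard, nsmul_eq_mul]
      push_cast
      ring
    simp only [← Finset.mul_sum, hpair] at h
    have h3 : ∀ χ : IrrCharacter G, ∑ u ∈ D, ∑ b ∈ subFinset B, (χ : G → ℂ) (b * u) =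
        55 * l χ * ∑ b ∈ subFinset B, (χ : G → ℂ) b := by
      intro χ
      rw [Finset.sum_comm]
      have h4 : ∀ b ∈ subFinset B, ∑ u ∈ D, (χ : G → ℂ) (b * u) =
          l χ * ∑ c ∈ subFinset B, (χ : G → ℂ) c := fun b hb => by
        rw [← hsD χ]
        refine Finset.sum_nbij' (fun u => b * u) (fun u => b⁻¹ * u)
          (fun u hu => hl b (mem_subFinset.1 hb) u hu)
          (fun u hu => hl _ (B.inv_mem (mem_subFinset.1 hb)) u hu)
          (fun u _ => inv_mul_cancel_left b u) (fun u _ => mul_inv_cancel_left b u) fun u _ => rfl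
      rw [Finset.sum_congr rfl h4, Finset.sum_const, card_subFinset, hN, nsmul_eq_mul]
      push_cast
      ring
    simp only [h3, hsB] at h
    rw [T.sum_eq] at h
    simp only [deg_trivChar, T.d_t1, T.d_t2, T.d_t3, T.d_e11, T.d_s1, T.d_s2, T.d_f44, T.d_m45,
      T.d_n55, hl1, hp, hq, hs, hr1, hr2] at h
    norm_num at h
    linear_combination (1 / 166375 : ℂ) * h
  obtain ⟨k, hM3⟩ := hM3
  obtain ⟨rfl, rfl, rfl, rfl⟩ := HeckeArith.solve (p := p) (q := q) (r := r) (s := s)
    (Int.cast_injective (α := ℂ) (by push_cast; linear_combination hM1))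
    (Int.cast_injective (α := ℂ) (by push_cast; linear_combination hM2))
    ⟨k, Int.cast_injective (α := ℂ) (by push_cast; linear_combination hM3)⟩
  -- the product rule
  have hrule : ∀ (χ : IrrCharacter G) (g : G), ∑ x ∈ D, ∑ y ∈ D, (χ : G → ℂ) (x * y * g) =
      550 * ∑ x ∈ D, (χ : G → ℂ) (x * g) + 605 * ∑ b ∈ subFinset B, (χ : G → ℂ) (b * g) := by
    intro χ g
    rw [hpair, hlval]
    by_cases hz : deg χ = 10 ∨ deg χ = 44
    · have hzero : ∑ b ∈ subFinset B, (χ : G → ℂ) (b * g) = 0 := by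
        have h0 := hsB χ
        rw [if_pos hz] at h0
        exact sum_eq_zero_of_sum χ B h0 g
      rw [hzero]; ring
    · have hd : l χ = 11 ∨ l χ = -1 := by
        obtain ⟨-, hdeg⟩ := Cfsg.Agent.S4429.result (G := G) hG
        have hcase : deg χ = 1 ∨ deg χ = 11 ∨ deg χ = 16 ∨ deg χ = 45 ∨ deg χ = 55 := by
          by_contra hno
          have h0 := hdeg (deg χ)
          rw [if_neg (by omega), if_neg (by omega), if_neg (by omega)] at h0
          have : Nonempty {ψ : IrrCharacter G // charDegree (ψ : G → ℂ) = deg χ} := ⟨⟨χ, rfl⟩⟩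
          exact Nat.card_pos.ne' h0
        rcases hcase with e | e | e | e | e
        · rw [deg_one hG e]; exact Or.inl hl1
        · rw [deg_unique hG (Or.inl rfl) T.d_e11 e, hp]; exact Or.inl (by norm_num)
        · rcases T.only16 χ e with rfl | rfl
          · rw [hr1]; exact Or.inr (by norm_num)
          · rw [hr2]; exact Or.inr (by norm_num)
        · rw [deg_unique hG (Or.inr (Or.inr (Or.inl rfl))) T.d_m45 e, hq]; exact Or.inr (by norm_num)
        · rw [deg_unique hG (Or.inr (Or.inr (Or.inr rfl))) T.d_n55 e, hs]; exact Or.inr (by norm_num)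
      rcases hd with e | e <;> rw [e] <;> ring
  intro x hx y hy
  by_contra hno
  push Not at hno
  obtain ⟨hno1, hno2⟩ := hno
  set g := (x * y)⁻¹ with hg
  have h : ∑ χ : IrrCharacter G, (deg χ : ℂ) * ∑ a ∈ D, ∑ c ∈ D, (χ : G → ℂ) (a * c * g) = 0 := by
    simp only [hrule, mul_add, Finset.sum_add_distrib, mul_left_comm (deg _ : ℂ), ← Finset.mul_sum]
    simp only [Finset.mul_sum (s := D), Finset.mul_sum (s := subFinset B)]
    rw [Finset.sum_comm, Finset.sum_eq_zero, mul_zero, zero_add, Finset.sum_comm, Finset.sum_eq_zero,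
      mul_zero]
    · intro b hb
      rw [hreg, if_neg]
      intro e
      rw [hg, mul_inv_eq_one] at e
      exact hno1 (e ▸ mem_subFinset.1 hb)
    · intro a ha
      rw [hreg, if_neg]
      intro e
      rw [hg, mul_inv_eq_one] at e
      exact hno2 (e ▸ ha)
  simp only [Finset.mul_sum] at h
  rw [Finset.sum_comm] at h
  simp only [Finset.sum_comm (s := (Finset.univ : Finset (IrrCharacter G))) (t := D), hreg] at h
  have hpos : ((Finset.filter (fun a : G × G => a.1 * a.2 * g = 1) (D ×ˢ D)).card : ℂ) * 7920 = 0 := by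
    rw [← nsmul_eq_mul, ← Finset.sum_const, Finset.sum_filter, Finset.sum_product]
    exact h
  have hne : (Finset.filter (fun a : G × G => a.1 * a.2 * g = 1) (D ×ˢ D)).card ≠ 0 :=
    Finset.card_ne_zero_of_mem (a := (x, y))
      (Finset.mem_filter.2 ⟨Finset.mem_product.2 ⟨hx, hy⟩, by rw [hg, mul_inv_cancel]⟩)
  rcases mul_eq_zero.1 hpos with h0 | h0
  · exact hne (by exact_mod_cast h0)
  · norm_num at h0

end CfsgLib.Blocks.Order7920
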