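import Cfsg.Agent.Lib.Blocks.Order7920.Hecke

/-!
# Generators of the subgroup of index twelve
-/

set_option autoImplicit false

namespace CfsgLib.Blocks.Order7920

open Cfsg CfsgLib CfsgLib.Char
open scoped Classical

variable {G : Type*} [Group G] [Fintype G] [IsSimpleGroup G]
variable (hG : Nat.card G = 7920)
include hG

omit [IsSimpleGroup G] hG in
theorem conj_pow_eq' (c x : G) (n : ℕ) : c * x ^ n * c⁻¹ = (c * x * c⁻¹) ^ n := by
  rw [conj_pow]

omit [IsSimpleGroup G] hG in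
theorem conj_iterate {c x : G} {a : ℕ} (h : c * x * c⁻¹ = x ^ a) (n : ℕ) :
    c ^ n * x * (c ^ n)⁻¹ = x ^ a ^ n := by
  induction n with
  | zero => simp
  | succ n ih =>
    rw [pow_succ', mul_inv_rev, show c * c ^ n * x * ((c ^ n)⁻¹ * c⁻¹) = c * (c ^ n * x * (c ^ n)⁻¹) * c⁻¹
      by group, ih, conj_pow_eq', h, ← pow_mul, pow_succ']

omit [IsSimpleGroup G] hG in
theorem conj_mem_zpowers {c x : G} {a : ℕ} (h : c * x * c⁻¹ = x ^ a) :
    ∀ n : ℕ, c * x ^ n * c⁻¹ ∈ Subgroup.zpowers x := fun n => by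
  rw [conj_pow_eq', h, ← pow_mul]
  exact Subgroup.pow_mem _ (Subgroup.mem_zpowers x) _

/-- An involution inverting a given element of order five. -/
theorem exists_inverting {h : G} (ho : orderOf h = 5) :
    ∃ w : G, orderOf w = 2 ∧ w * h * w⁻¹ = h⁻¹ := by
  obtain ⟨T⟩ := exists_tbl hG
  have : Fact (Nat.Prime 5) := ⟨Nat.prime_five⟩
  have : Fact (Nat.Prime 2) := ⟨Nat.prime_two⟩
  obtain ⟨P, hP⟩ := exists_sylow_mem ho
  have hN := (five_values hG T.d_t1 P).2.1
  have hPh : Subgroup.zpowers h = (P : Subgroup G) :=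
    Subgroup.eq_of_le_of_card_ge (Subgroup.zpowers_le.2 hP)
      (by rw [Nat.card_zpowers, ho, card_sylow hG (Or.inr rfl) P])
  obtain ⟨w, hw, hwo⟩ := exists_mem_orderOf hG _
    (show 2 ∣ Nat.card (Subgroup.normalizer ((P : Subgroup G) : Set G)) by rw [hN]; norm_num)
  refine ⟨w, hwo, ?_⟩
  have hm := (Subgroup.mem_normalizer_iff.1 hw h).1 hP
  rw [← hPh] at hm
  obtain ⟨a, ha, hpa⟩ := Finset.mem_image.1 (mem_zpowers_iff_mem_range_orderOf.1 hm)
  rw [ho, Finset.mem_range] at ha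
  have hw2 : w ^ 2 = 1 := by rw [← hwo]; exact pow_orderOf_eq_one w
  have h2 := conj_iterate hpa.symm 2
  rw [hw2, one_mul, inv_one, mul_one] at h2
  have hh5 : h ^ 5 = 1 := by rw [← ho]; exact pow_orderOf_eq_one h
  have hmod : a ^ 2 % 5 = 1 := by
    have : h ^ (a ^ 2) = h ^ 1 := by rw [pow_one]; exact h2.symm
    have := pow_inj_mod.1 this
    rwa [ho] at this
  interval_cases a <;> norm_num at hmod
  · exfalso
    have hc : w ∈ Subgroup.centralizer ({h} : Set G) := by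
      rw [Subgroup.mem_centralizer_singleton_iff]
      rw [pow_one] at hpa
      exact mul_inv_eq_iff_eq_mul.1 hpa.symm
    have := Subgroup.orderOf_dvd_natCard _ hc
    rw [card_centralizer_five hG T ho, hwo] at this
    norm_num at this
  · rw [← hpa]
    exact eq_inv_of_mul_eq_one_left (by rw [← pow_succ, hh5])

/-- Generators and normal forms of a subgroup of index twelve. -/
theorem exists_index_twelve : ∃ (z h w : G) (H : Subgroup G), orderOf z = 11 ∧ orderOf h = 5 ∧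
    orderOf w = 2 ∧ h * z * h⁻¹ = z ^ 3 ∧ w * h * w⁻¹ = h⁻¹ ∧ Nat.card H = 660 ∧ z ∈ H ∧ h ∈ H ∧
    w ∈ H ∧ ∀ g ∈ H, ∃ i j : ℕ, g = z ^ i * h ^ j ∨ ∃ k : ℕ, g = z ^ i * h ^ j * w * z ^ k := by
  obtain ⟨T⟩ := exists_tbl hG
  have : Fact (Nat.Prime 11) := ⟨by norm_num⟩
  have : Fact (Nat.Prime 5) := ⟨Nat.prime_five⟩
  obtain ⟨P⟩ : Nonempty (Sylow 11 G) := inferInstance
  have hP := card_sylow hG (Or.inl rfl) P
  set B := Subgroup.normalizer ((P : Subgroup G) : Set G) with hBdef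
  have hB : Nat.card B = 55 := (eleven_values hG P).2.1
  obtain ⟨z, hzP, hz⟩ := exists_mem_orderOf hG (P : Subgroup G) (by rw [hP] : 11 ∣ Nat.card (P : Subgroup G))
  have hzB : z ∈ B := Subgroup.le_normalizer hzP
  have hPz : Subgroup.zpowers z = (P : Subgroup G) :=
    Subgroup.eq_of_le_of_card_ge (Subgroup.zpowers_le.2 hzP) (by rw [Nat.card_zpowers, hz, hP])
  obtain ⟨g₀, hg₀B, hg₀⟩ := exists_mem_orderOf hG B (by rw [hB]; norm_num : 5 ∣ Nat.card B)
  obtain ⟨a, ha, hpa⟩ := Finset.mem_image.1 (mem_zpowers_iff_mem_range_orderOf.1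
    (by rw [hPz]; exact (Subgroup.mem_normalizer_iff.1 hg₀B z).1 hzP :
      g₀ * z * g₀⁻¹ ∈ Subgroup.zpowers z))
  rw [hz, Finset.mem_range] at ha
  have hg5 : g₀ ^ 5 = 1 := by rw [← hg₀]; exact pow_orderOf_eq_one g₀
  have hz11 : z ^ 11 = 1 := by rw [← hz]; exact pow_orderOf_eq_one z
  have hmod : a ^ 5 % 11 = 1 := by
    have h5 := conj_iterate hpa.symm 5
    rw [hg5, one_mul, inv_one, mul_one] at h5
    have : z ^ (a ^ 5) = z ^ 1 := by rw [pow_one]; exact h5.symm
    have := pow_inj_mod.1 this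
    rwa [hz] at this
  -- normalise the conjugation exponent to three
  obtain ⟨h, hh, hhB, hhz⟩ : ∃ h, orderOf h = 5 ∧ h ∈ B ∧ h * z * h⁻¹ = z ^ 3 := by
    obtain ⟨n, hn, hn3⟩ : ∃ n, ¬ 5 ∣ n ∧ a ^ n % 11 = 3 := by
      interval_cases a <;> norm_num at hmod
      · exfalso
        have hc : g₀ ∈ Subgroup.centralizer ({z} : Set G) := by
          rw [Subgroup.mem_centralizer_singleton_iff]
          rw [pow_one] at hpa
          exact mul_inv_eq_iff_eq_mul.1 hpa.symm
        have := Subgroup.orderOf_dvd_natCard _ hc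
        rw [card_centralizer_eleven hG hz, hg₀] at this
        norm_num at this
      · exact ⟨1, by norm_num, by norm_num⟩
      · exact ⟨4, by norm_num, by norm_num⟩
      · exact ⟨2, by norm_num, by norm_num⟩
      · exact ⟨3, by norm_num, by norm_num⟩
    refine ⟨g₀ ^ n, ?_, B.pow_mem hg₀B n, ?_⟩
    · rw [orderOf_pow, hg₀, Nat.Coprime.gcd_eq_one (Nat.prime_five.coprime_iff_not_dvd.2 hn), Nat.div_one]
    · rw [conj_iterate hpa.symm n, ← pow_mod_orderOf, hz, hn3]
  obtain ⟨w, hw, hwh⟩ := exists_inverting hG hh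
  have hw2 : w * w = 1 := by rw [← pow_two, ← hw]; exact pow_orderOf_eq_one w
  have hwi : w⁻¹ = w := inv_eq_of_mul_eq_one_left hw2
  have hwB : w ∉ B := fun hm => by
    have := Subgroup.orderOf_dvd_natCard _ hm
    rw [hw, hB] at this
    norm_num at this
  -- normal form in B
  have hBform : ∀ b ∈ B, ∃ i j : ℕ, b = z ^ i * h ^ j := by
    let f : Fin 11 × Fin 5 → B := fun p => ⟨z ^ (p.1 : ℕ) * h ^ (p.2 : ℕ),
      B.mul_mem (B.pow_mem hzB _) (B.pow_mem hhB _)⟩
    have hinj : Function.Injective f := by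
      rintro ⟨i, j⟩ ⟨i', j'⟩ e
      have e' : z ^ (i : ℕ) * h ^ (j : ℕ) = z ^ (i' : ℕ) * h ^ (j' : ℕ) := congrArg Subtype.val e
      have e2 : (z ^ (i' : ℕ))⁻¹ * z ^ (i : ℕ) = h ^ (j' : ℕ) * (h ^ (j : ℕ))⁻¹ := by
        rw [inv_mul_eq_iff_eq_mul, eq_comm, ← mul_assoc, mul_inv_eq_iff_eq_mul, e']
      have h1 : (z ^ (i' : ℕ))⁻¹ * z ^ (i : ℕ) = 1 := by
        have d1 := Subgroup.orderOf_dvd_natCard (Subgroup.zpowers z)
          ((Subgroup.zpowers z).mul_mem ((Subgroup.zpowers z).inv_mem (Subgroup.pow_mem _ (Subgroup.mem_zpowers z) _))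
            (Subgroup.pow_mem _ (Subgroup.mem_zpowers z) _) : (z ^ (i' : ℕ))⁻¹ * z ^ (i : ℕ) ∈ _)
        have d2 := Subgroup.orderOf_dvd_natCard (Subgroup.zpowers h)
          ((Subgroup.zpowers h).mul_mem (Subgroup.pow_mem _ (Subgroup.mem_zpowers h) _)
            ((Subgroup.zpowers h).inv_mem (Subgroup.pow_mem _ (Subgroup.mem_zpowers h) _)) :
              h ^ (j' : ℕ) * (h ^ (j : ℕ))⁻¹ ∈ _)
        rw [Nat.card_zpowers, hz] at d1
        rw [Nat.card_zpowers, hh, ← e2] at d2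
        exact orderOf_eq_one_iff.1 (Nat.eq_one_of_dvd_coprimes (by norm_num : Nat.Coprime 11 5) d1 d2)
      rw [h1] at e2
      have hi := pow_injOn_Iio_orderOf (x := z) (show (i : ℕ) < orderOf z by rw [hz]; exact i.2)
        (show (i' : ℕ) < orderOf z by rw [hz]; exact i'.2) (inv_mul_eq_one.1 h1).symm
      have hj := pow_injOn_Iio_orderOf (x := h) (show (j : ℕ) < orderOf h by rw [hh]; exact j.2)
        (show (j' : ℕ) < orderOf h by rw [hh]; exact j'.2) (mul_inv_eq_one.1 e2.symm).symm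
      exact Prod.ext (Fin.ext hi) (Fin.ext hj)
    have hbij := (Fintype.bijective_iff_injective_and_card f).2 ⟨hinj, by
      rw [Fintype.card_prod, Fintype.card_fin, Fintype.card_fin, ← Nat.card_eq_fintype_card, hB]⟩
    intro b hb
    obtain ⟨⟨i, j⟩, e⟩ := hbij.2 ⟨b, hb⟩
    exact ⟨i, j, (congrArg Subtype.val e).symm⟩
  -- the double coset
  set D : Finset G := Finset.univ.filter fun x => ∃ b ∈ B, ∃ c ∈ B, x = b * w * c with hD
  have hmemD : ∀ x, x ∈ D ↔ ∃ b ∈ B, ∃ c ∈ B, x = b * w * c := fun x => by simp [hD]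
  have hl : ∀ b ∈ B, ∀ x ∈ D, b * x ∈ D := fun b hb x hx => by
    obtain ⟨b', hb', c, hc, rfl⟩ := (hmemD x).1 hx
    exact (hmemD _).2 ⟨b * b', B.mul_mem hb hb', c, hc, by group⟩
  have hr : ∀ b ∈ B, ∀ x ∈ D, x * b ∈ D := fun b hb x hx => by
    obtain ⟨b', hb', c, hc, rfl⟩ := (hmemD x).1 hx
    exact (hmemD _).2 ⟨b', hb', c * b, B.mul_mem hc hb, by group⟩
  have hout : ∀ x ∈ D, x ∉ B := fun x hx hxB => by
    obtain ⟨b, hb, c, hc, rfl⟩ := (hmemD x).1 hx
    refine hwB ?_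
    have := B.mul_mem (B.mul_mem (B.inv_mem hb) hxB) (B.inv_mem hc)
    rwa [show b⁻¹ * (b * w * c) * c⁻¹ = w by group] at this
  have hinv : ∀ x ∈ D, x⁻¹ ∈ D := fun x hx => by
    obtain ⟨b, hb, c, hc, rfl⟩ := (hmemD x).1 hx
    exact (hmemD _).2 ⟨c⁻¹, B.inv_mem hc, b⁻¹, B.inv_mem hb, by simp [mul_inv_rev, hwi, mul_assoc]⟩
  have hwD : w ∈ D := (hmemD w).2 ⟨1, one_mem _, 1, one_mem _, by simp⟩
  have hwh2 : ∀ j : ℕ, w * h ^ j = (h ^ j)⁻¹ * w := fun j => by
    have : w * h ^ j * w⁻¹ = (h ^ j)⁻¹ := by rw [conj_pow_eq', hwh, inv_pow]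
    exact mul_inv_eq_iff_eq_mul.1 this
  -- every element of D in normal form
  have hDform : ∀ x ∈ D, ∃ i j k : ℕ, x = z ^ i * h ^ j * w * z ^ k := by
    intro x hx
    obtain ⟨b, hb, c, hc, rfl⟩ := (hmemD x).1 hx
    obtain ⟨i₂, j₂, e⟩ := hBform _ (B.inv_mem hc)
    obtain ⟨i, j, e'⟩ := hBform (b * h ^ j₂) (B.mul_mem hb (B.pow_mem hhB j₂))
    refine ⟨i, j, 10 * i₂, ?_⟩
    have hzi : (z ^ i₂)⁻¹ = z ^ (10 * i₂) := by
      refine inv_eq_of_mul_eq_one_right ?_
      rw [← pow_add, show i₂ + 10 * i₂ = 11 * i₂ by ring, pow_mul, hz11, one_pow]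
    rw [← e', ← hzi, show c = (h ^ j₂)⁻¹ * (z ^ i₂)⁻¹ by rw [← mul_inv_rev, ← e, inv_inv]]
    simp only [← mul_assoc]
    refine congrArg (· * (z ^ i₂)⁻¹) ?_
    rw [mul_assoc b, mul_assoc b]
    refine congrArg (b * ·) ?_
    rw [mul_inv_eq_iff_eq_mul, mul_assoc, hwh2, mul_inv_cancel_left]
  -- the size of D
  have hcard : D.card = 605 := by
    let q : G ⧸ B := ((w : G) : G ⧸ B)
    have hpre : (D : Set G) = QuotientGroup.mk ⁻¹' (MulAction.orbit B q) := by
      ext x
      simp only [Finset.mem_coe, hmemD, Set.mem_preimage, MulAction.mem_orbit_iff]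
      constructor
      · rintro ⟨b, hb, c, hc, rfl⟩
        refine ⟨⟨b, hb⟩, (QuotientGroup.eq.2 ?_ : ((b * w : G) : G ⧸ B) = ((b * w * c : G) : G ⧸ B))⟩
        rwa [inv_mul_cancel_left]
      · rintro ⟨⟨b, hb⟩, e⟩
        have e' : ((b * w : G) : G ⧸ B) = (x : G ⧸ B) := e
        exact ⟨b, hb, _, QuotientGroup.eq.1 e', by group⟩
    have hstab : Nat.card (MulAction.stabilizer B q) = 5 := by
      have hmem : (⟨h, hhB⟩ : B) ∈ MulAction.stabilizer B q := by
        refine MulAction.mem_stabilizer_iff.2 (QuotientGroup.eq.2 ?_)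
        show (h * w)⁻¹ * w ∈ B
        rw [show (h * w)⁻¹ * w = w⁻¹ * h⁻¹ * w by group]
        have : w⁻¹ * h⁻¹ * w = h := by rw [← hwh]; group
        rw [this]; exact hhB
      have hd5 : 5 ∣ Nat.card (MulAction.stabilizer B q) := by
        have := Subgroup.orderOf_dvd_natCard _ hmem
        rwa [Subgroup.orderOf_mk, hh] at this
      have hd := Subgroup.card_subgroup_dvd_card (MulAction.stabilizer B q)
      rw [hB] at hd
      obtain ⟨k, hk⟩ := hd5
      rw [hk] at hd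
      have hk' : k ∣ 11 := Nat.dvd_of_mul_dvd_mul_left (by norm_num : 0 < 5) (by simpa using hd)
      rcases (Nat.dvd_prime (by norm_num : Nat.Prime 11)).1 hk' with rfl | rfl
      · rw [hk]
      exfalso
      have htop : MulAction.stabilizer B q = ⊤ := Subgroup.eq_top_of_card_eq _ (by rw [hk, hB])
      have hwz : w⁻¹ * z * w ∈ B := by
        have h1 : (⟨z⁻¹, B.inv_mem hzB⟩ : B) ∈ MulAction.stabilizer B q := by rw [htop]; trivial
        have h2 : ((z⁻¹ * w : G) : G ⧸ B) = ((w : G) : G ⧸ B) := MulAction.mem_stabilizer_iff.1 h1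
        have := QuotientGroup.eq.1 h2
        rwa [mul_inv_rev, inv_inv] at this
      have hwzP : w⁻¹ * z * w ∈ (P : Subgroup G) := by
        by_contra hnot
        have := orderOf_of_mem_normalizer hG (fun y hy => card_centralizer_eleven hG hy) P hP hB hwz hnot
        have e := orderOf_conj_eq' w⁻¹ z
        rw [inv_inv, hz, this] at e
        norm_num at e
      refine hwB ?_
      rw [hBdef, ← hPz, Subgroup.mem_normalizer_iff]
      rw [← hPz] at hwzP
      obtain ⟨a', ha', hpa'⟩ := Finset.mem_image.1 (mem_zpowers_iff_mem_range_orderOf.1 hwzP)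
      have e : w * z * w⁻¹ = z ^ a' := by
        rw [hpa', hwi]
      intro y
      refine ⟨fun hy => ?_, fun hy => ?_⟩
      · obtain ⟨n, -, rfl⟩ := Finset.mem_image.1 (mem_zpowers_iff_mem_range_orderOf.1 hy)
        exact conj_mem_zpowers e n
      · obtain ⟨n, -, hn⟩ := Finset.mem_image.1 (mem_zpowers_iff_mem_range_orderOf.1 hy)
        have : y = w * z ^ n * w⁻¹ := by
          rw [hn, hwi]; simp only [← mul_assoc, hw2, one_mul]
          rw [mul_assoc, hw2, mul_one]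
        rw [this]
        exact conj_mem_zpowers e n
    have h1 := (MulAction.stabilizer B q).card_mul_index
    rw [hstab, hB, MulAction.index_stabilizer] at h1
    have h2 := Nat.card_congr (QuotientGroup.preimageMkEquivSubgroupProdSet B (MulAction.orbit B q))
    rw [← hpre, Nat.card_prod, hB, Nat.card_coe_set_eq, Nat.card_coe_set_eq, Set.ncard_coe_finset] at h2
    omega
  have hprod := product_mem hG T P D hl hr hout hinv hcard hwD
    fun x hx => (hmemD x).1 hx
  let H : Subgroup G :=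
    { carrier := {x | x ∈ B ∨ x ∈ D}
      one_mem' := Or.inl (one_mem B)
      mul_mem' := by
        rintro x y (hx | hx) (hy | hy)
        · exact Or.inl (B.mul_mem hx hy)
        · exact Or.inr (hl x hx y hy)
        · exact Or.inr (hr y hy x hx)
        · exact hprod x hx y hy
      inv_mem' := by
        rintro x (hx | hx)
        · exact Or.inl (B.inv_mem hx)
        · exact Or.inr (hinv x hx) }
  refine ⟨z, h, w, H, hz, hh, hw, hhz, hwh, ?_, Or.inl hzB, Or.inl hhB, Or.inr hwD, ?_⟩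
  · have hset : (H : Set G) = (subFinset B ∪ D : Finset G) := by
      ext x
      simp only [Finset.coe_union, Set.mem_union, Finset.mem_coe, mem_subFinset]
      rfl
    have hc : Nat.card H = (H : Set G).ncard := (Nat.card_coe_set_eq _).symm.symm
    rw [hc, hset, Set.ncard_coe_finset, Finset.card_union_of_disjoint, card_subFinset, hB, hcard]
    rw [Finset.disjoint_left]
    exact fun x hx hxD => hout x hxD (mem_subFinset.1 hx)
  · rintro g (hg | hg)
    · obtain ⟨i, j, e⟩ := hBform g hg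
      exact ⟨i, j, Or.inl e⟩
    · obtain ⟨i, j, k, e⟩ := hDform g hg
      exact ⟨i, j, Or.inr ⟨k, e⟩⟩

end CfsgLib.Blocks.Order7920
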