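import Cfsg.Agent.Lib.Blocks.Order7920.Mult
import Cfsg.Agent.Lib.Blocks.PrimeSylow.Principal
import Cfsg.Agent.Lib.Char.DefectZero
import Cfsg.Agent.Lib.Char.Brauer
import Cfsg.Agent.Lib.Char.Complete
import Cfsg.Agent.Lib.ZStar.PrincipalBlock

/-!
# The character degrees of a simple group of order 7920

The principal blocks at `11` and `5` determine the degrees.
-/

set_option autoImplicit false

namespace CfsgLib.Blocks.Order7920

open Cfsg CfsgLib CfsgLib.Char CfsgLib.Blocks.PrimeSylow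
open scoped Classical commutatorElement

variable {G : Type*} [Group G] [Fintype G] [IsSimpleGroup G]

/-- The degree of a character. -/
noncomputable abbrev deg (χ : IrrCharacter G) : ℕ := charDegree (χ : G → ℂ)

variable (hG : Nat.card G = 7920)
include hG

theorem commutator_eq_top : commutator G = ⊤ := by
  refine (Subgroup.Normal.eq_bot_or_eq_top (inferInstance : (commutator G).Normal)).resolve_left
    fun h => ?_
  have hc : ∀ a b : G, a * b = b * a := fun a b =>
    commutatorElement_eq_one_iff_mul_comm.1 (Subgroup.mem_bot.1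
      (h ▸ Subgroup.commutator_mem_commutator (Subgroup.mem_top a) (Subgroup.mem_top b) :
        ⁅a, b⁆ ∈ (⊥ : Subgroup G)))
  let _ : CommGroup G := { ‹Group G› with mul_comm := hc }
  have := IsSimpleGroup.prime_card (α := G)
  rw [hG] at this
  exact absurd this (by norm_num)

theorem hom_eq_one (l : G →* ℂˣ) : l = 1 := by
  refine MonoidHom.ext fun g => ?_
  exact (Abelianization.commutator_subset_ker l) (by rw [commutator_eq_top hG]; trivial)

theorem deg_one {χ : IrrCharacter G} (h : deg χ = 1) : χ = trivChar G := by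
  obtain ⟨l, hl⟩ := exists_linear_of_degree_one (IsIrr.isCharacter χ.2)
    (by rw [apply_one_eq_charDegree, show charDegree (χ : G → ℂ) = 1 from h, Nat.cast_one])
  exact irr_ext fun g => by rw [hl, hom_eq_one hG l, trivChar_apply]; rfl

omit hG [IsSimpleGroup G] in
theorem deg_trivChar : deg (trivChar G) = 1 := charDegree_eq (by rw [trivChar_apply, Nat.cast_one])

omit [IsSimpleGroup G] in
theorem deg_facts (χ : IrrCharacter G) :
    deg χ ∣ 7920 ∧ deg χ < 89 ∧ 0 < deg χ := by
  have hd : deg χ ∣ 7920 := hG ▸ charDegree_dvd_card χ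
  refine ⟨hd, ?_, charDegree_pos χ⟩
  have := Fintype.ofFinite (IrrCharacter G)
  have h := sum_sq_degree (G := G)
  rw [hG] at h
  simp only [apply_one_eq_charDegree] at h
  have h' : ∑ ψ : IrrCharacter G, deg ψ ^ 2 = 7920 := by exact_mod_cast h
  have := Finset.single_le_sum (fun ψ _ => Nat.zero_le (deg ψ ^ 2)) (Finset.mem_univ χ)
  by_contra hlt
  nlinarith

/-- Principal block data at a Sylow subgroup of prime order. -/
theorem principal_data {p : ℕ} [Fact p.Prime] {P V : Subgroup G} (h : Setup p P V) :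
    ∃ (e : ℕ) (X Y : Finset (IrrCharacter G)) (εX : IrrCharacter G → ℤ) (ε : ℤ),
      e ∣ p - 1 ∧ Nat.card (Subgroup.normalizer (P : Set G)) = e * (p * Nat.card V) ∧
      Disjoint X Y ∧ X.card = e ∧ Y.card * e = p - 1 ∧ trivChar G ∈ X ∪ Y ∧
      (∀ χ ∈ X, (εX χ = 1 ∨ εX χ = -1) ∧ (deg χ : ℤ) ≡ εX χ [ZMOD p] ∧
        ∀ i j : ℕ, ∀ x ∈ P, ∀ v ∈ V, x ^ i ≠ 1 → (χ : G → ℂ) (x ^ i * v ^ j) = (εX χ : ℂ)) ∧
      (ε = 1 ∨ ε = -1) ∧ (∀ θ ∈ Y, (deg θ : ℤ) ≡ ε * e [ZMOD p]) ∧
      (∀ θ ∈ Y, ε * (deg θ : ℤ) = ∑ χ ∈ X, εX χ * deg χ) ∧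
      (V = ⊥ → ∀ χ : IrrCharacter G, ¬ p ∣ deg χ ↔ χ ∈ X ∪ Y) := by
  have := Fintype.ofFinite (IrrCharacter G)
  have := Fintype.ofFinite P
  have := Fintype.ofFinite V
  have : Fintype (NBar P) := Fintype.ofFinite _
  obtain ⟨M, hM⟩ := CfsgLib.ZStar.exists_isPModular (p := p) Fact.out
  have : M.IsPrime := hM.2.1.isPrime
  set e := (Subgroup.centralizer (P : Set G)).relIndex (Subgroup.normalizer (P : Set G)) with he
  obtain ⟨-, X, Y, hB, hdisj, hX, hY, εX, ε, hXp, hε, hYmod, -, hrel⟩ := h.exists_principal hM he.symm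
  have hedvd : e ∣ p - 1 := h.inertialIndex_trivChar.trans he.symm ▸ (h.exists_over (trivChar V)).1
  refine ⟨e, X.toFinset, Y.toFinset, εX, ε, hedvd, ?_, Set.disjoint_toFinset.2 hdisj, ?_, ?_, ?_,
    fun χ hχ => ?_, hε, fun θ hθ => hYmod θ (Set.mem_toFinset.1 hθ), fun θ hθ => ?_, fun hV χ => ?_⟩
  · have h1 := Subgroup.relIndex_mul_relIndex ⊥ (Subgroup.centralizer (P : Set G))
      (Subgroup.normalizer (P : Set G)) bot_le (Blocks.centralizer_le_normalizer' P)
    rw [Subgroup.relIndex_bot_left, Subgroup.relIndex_bot_left, ← he, h.card_centralizer] at h1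
    rw [← h1, mul_comm]
  · rw [← hX, Nat.card_coe_set_eq, Set.ncard_eq_toFinset_card']
  · rw [← Set.ncard_eq_toFinset_card', ← Nat.card_coe_set_eq, hY, Nat.div_mul_cancel hedvd]
  · have : trivChar G ∈ principalBlock M G := trivChar_mem_principalBlock
    rw [hB] at this
    simpa using this
  · obtain ⟨h1, h2, h3⟩ := hXp χ (Set.mem_toFinset.1 hχ)
    refine ⟨h1, h2, fun i j x hx v hv hne => h3 _ (Subgroup.pow_mem _ hx i) hne _ ?_ ?_⟩
    · exact h.V_le (Subgroup.pow_mem _ hv j)
    · exact h.not_dvd_orderOf (Subgroup.pow_mem _ hv j)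
  · have h1 := hrel θ (Set.mem_toFinset.1 hθ) 1
      (by rw [orderOf_one]; exact (Fact.out : p.Prime).not_dvd_one)
    rw [finsum_mem_eq_toFinset_sum, apply_one_eq_charDegree] at h1
    simp only [apply_one_eq_charDegree] at h1
    exact_mod_cast h1
  · rw [Finset.mem_union, Set.mem_toFinset, Set.mem_toFinset, ← Set.mem_union, ← hB]
    have hB' : principalBlock M G = blockSet M P ((trivChar V : IrrCharacter V) : V → ℂ) :=
      blockSet_eq isPBlock_principalBlock trivChar_mem_principalBlock (h.trivChar_mem_blockSet hM)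
    rw [hB']
    refine ⟨fun hd => ?_, fun hd => h.not_dvd_of_mem hM hd⟩
    obtain ⟨η, hη⟩ := h.exists_mem_blockSet hM hd
    have : η = trivChar V := by
      subst hV
      refine irr_ext fun v => ?_
      obtain rfl : v = 1 := Subtype.ext (Subgroup.mem_bot.1 v.2)
      rw [trivChar_apply, apply_one_eq_charDegree]
      have h1 := charDegree_dvd_card η
      rw [Subgroup.card_bot, Nat.dvd_one] at h1
      rw [h1, Nat.cast_one]
    rwa [this] at hη

omit hG [IsSimpleGroup G] in
theorem sylow_count {p : ℕ} [Fact p.Prime] (P : Sylow p G) :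
    Nat.card (Sylow p G) % p = 1 ∧
      Nat.card (Sylow p G) * Nat.card (Subgroup.normalizer ((P : Subgroup G) : Set G)) = Nat.card G := by
  refine ⟨?_, ?_⟩
  · have h := card_sylow_modEq_one p G
    rwa [Nat.ModEq, Nat.one_mod_eq_one.2 (Fact.out : p.Prime).ne_one] at h
  · rw [Sylow.card_eq_index_normalizer P]
    exact Subgroup.index_mul_card _

theorem card_sylow {p : ℕ} [Fact p.Prime] (hp : p = 11 ∨ p = 5) (P : Sylow p G) :
    Nat.card (P : Subgroup G) = p := by
  have h : ∀ m, 7920 = p * m → ¬ p ∣ m → (7920 : ℕ).factorization p = 1 := fun m e hm => by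
    rw [e, Nat.factorization_mul (Fact.out : p.Prime).ne_zero (fun m0 => by simp [m0] at e), Finsupp.add_apply,
      (Fact.out : p.Prime).factorization_self, Nat.factorization_eq_zero_of_not_dvd hm]
  rw [P.card_eq_multiplicity, hG]
  rcases hp with rfl | rfl
  · rw [h 720 (by norm_num) (by norm_num), pow_one]
  · rw [h 1584 (by norm_num) (by norm_num), pow_one]

omit hG in
theorem eq_one_or_all {χ : IrrCharacter G} {g : G} (h : (χ : G → ℂ) g = (χ : G → ℂ) 1) :
    g = 1 ∨ ∀ z : G, (χ : G → ℂ) z = (χ : G → ℂ) 1 := by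
  rcases Subgroup.Normal.eq_bot_or_eq_top (normal_charKer χ) with h1 | h1
  · have : g ∈ charKer χ := h
    rw [h1, Subgroup.mem_bot] at this
    exact Or.inl this
  · exact Or.inr fun z => (show z ∈ charKer χ by rw [h1]; trivial)

omit [IsSimpleGroup G] hG in
theorem deg_eq_finrank {χ : IrrCharacter G} {n : ℕ} {ρ : Representation ℂ G (Fin n → ℂ)}
    (e : (χ : G → ℂ) = ρ.character) : deg χ = n := by
  refine charDegree_eq ?_
  rw [e, Representation.char_one, Module.finrank_fin_fun]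

/-- A Sylow `11`-subgroup is self-centralizing; the degrees prime to `11` and their values. -/
theorem eleven_values (P : Sylow 11 G) :
    Nat.card (Subgroup.centralizer ((P : Subgroup G) : Set G)) = 11 ∧
    Nat.card (Subgroup.normalizer ((P : Subgroup G) : Set G)) = 55 ∧
    ∃ X Y : Finset (IrrCharacter G), Disjoint X Y ∧
      (∀ χ : IrrCharacter G, ¬ 11 ∣ deg χ ↔ χ ∈ X ∪ Y) ∧
      (∀ χ ∈ X, deg χ = 1 ∨ deg χ = 10 ∨ deg χ = 12 ∨ deg χ = 45) ∧
      (X.filter fun χ => deg χ = 1).card = 1 ∧ (∃ χ ∈ X, deg χ = 10) ∧ X.card = 5 ∧ Y.card = 2 ∧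
      (∀ χ ∈ X, ∀ x ∈ (P : Subgroup G), x ≠ 1 →
        (χ : G → ℂ) x = if deg χ = 10 then -1 else 1) ∧
      ∃ y : ℕ, (∀ θ ∈ Y, deg θ = y) ∧
        (((X.filter fun χ => deg χ = 12).card = 0) →
          y = 16 ∧ (X.filter fun χ => deg χ = 10).card = 3 ∧ (X.filter fun χ => deg χ = 45).card = 1) := by
  have : Fact (Nat.Prime 11) := ⟨by norm_num⟩
  have hP := card_sylow hG (Or.inl rfl) P
  obtain ⟨V, hV⟩ := exists_setup hP P.not_dvd_index
  obtain ⟨e, X, Y, εX, ε, hedvd, hN, hdisj, hXc, hYc, htriv, hX, hε, hYm, hrel, hall⟩ :=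
    principal_data hG hV
  have hecase : e = 1 ∨ e = 2 ∨ e = 5 ∨ e = 10 := by
    have h1 := Nat.le_of_dvd (by norm_num) hedvd
    have h2 : e ≠ 0 := fun e0 => by simp [e0] at hedvd
    interval_cases e <;> simp_all
  have hcand : ∀ χ ∈ X, (deg χ = 1 ∨ deg χ = 10 ∨ deg χ = 12 ∨ deg χ = 45) ∧
      εX χ * deg χ = (if deg χ = 10 then -10 else (deg χ : ℤ)) := by
    intro χ hχ
    obtain ⟨h1, h2, -⟩ := hX χ hχ
    obtain ⟨hd, hlt, hpos⟩ := deg_facts hG χ
    have hm : deg χ % 11 = 1 ∧ εX χ = 1 ∨ deg χ % 11 = 10 ∧ εX χ = -1 := by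
      unfold Int.ModEq at h2
      rcases h1 with h1 | h1 <;> rw [h1] at h2 ⊢ <;> omega
    have hl : ∀ d < 89, d ∣ 7920 → (d % 11 = 1 → d = 1 ∨ d = 12 ∨ d = 45) ∧
        (d % 11 = 10 → d = 10) := by decide
    rcases hm with ⟨hm, hs⟩ | ⟨hm, hs⟩
    · rcases (hl _ hlt hd).1 hm with e1 | e1 | e1 <;> simp [e1, hs]
    · simp [(hl _ hlt hd).2 hm, hs]
  obtain ⟨θ, hθ⟩ : Y.Nonempty := by
    rw [← Finset.card_pos]
    rcases hecase with rfl | rfl | rfl | rfl <;> omega
  have hsum : ∀ S : Finset (IrrCharacter G), S ⊆ X →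
      ∑ χ ∈ S, εX χ * (deg χ : ℤ) = (S.filter fun χ => deg χ = 1).card
        - 10 * (S.filter fun χ => deg χ = 10).card + 12 * (S.filter fun χ => deg χ = 12).card
        + 45 * (S.filter fun χ => deg χ = 45).card ∧
      S.card = (S.filter fun χ => deg χ = 1).card + (S.filter fun χ => deg χ = 10).card +
        (S.filter fun χ => deg χ = 12).card + (S.filter fun χ => deg χ = 45).card := by
    intro S
    induction S using Finset.induction_on with
    | empty => intro _; simp
    | insert a S ha ih =>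
      intro hS
      obtain ⟨h1, h2⟩ := ih ((Finset.subset_insert a S).trans hS)
      obtain ⟨hd, hv⟩ := hcand a (hS (Finset.mem_insert_self a S))
      rw [Finset.sum_insert ha, Finset.card_insert_of_notMem ha, h1, hv, Finset.filter_insert,
        Finset.filter_insert, Finset.filter_insert, Finset.filter_insert]
      rcases hd with hd | hd | hd | hd <;>
        simp [hd, Finset.card_insert_of_notMem, ha] <;> omega
  obtain ⟨hsumX, hcardX⟩ := hsum X subset_rfl
  rw [hXc] at hcardX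
  have hrθ := hrel θ hθ
  rw [hsumX] at hrθ
  obtain ⟨hdθ, hltθ, hposθ⟩ := deg_facts hG θ
  have hf1 : (trivChar G ∈ X ∧ (X.filter fun χ => deg χ = 1).card = 1 ∧ deg θ ≠ 1) ∨
      (trivChar G ∈ Y ∧ (X.filter fun χ => deg χ = 1).card = 0) := by
    rcases Finset.mem_union.1 htriv with ht | ht
    · refine Or.inl ⟨ht, Finset.card_eq_one.2 ⟨trivChar G, ?_⟩, fun e1 => ?_⟩
      · refine Finset.eq_singleton_iff_unique_mem.2
          ⟨Finset.mem_filter.2 ⟨ht, deg_trivChar⟩, fun χ hχ => deg_one hG (Finset.mem_filter.1 hχ).2⟩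
      · exact Finset.disjoint_left.1 hdisj ht (deg_one hG e1 ▸ hθ)
    · refine Or.inr ⟨ht, Finset.card_eq_zero.2 (Finset.filter_eq_empty_iff.2 fun χ hχ e1 => ?_)⟩
      exact Finset.disjoint_left.1 hdisj hχ (deg_one hG e1 ▸ ht)
  have hemod : ((deg θ : ℤ) - ε * e) % 11 = 0 := by
    have := hYm θ hθ
    unfold Int.ModEq at this
    omega
  have hlistθ : ∀ d < 89, d ∣ 7920 → d ∉ [13, 39, 46, 49, 71, 79, 82] := by decide
  have hlθ := hlistθ _ hltθ hdθ
  simp only [List.mem_cons, List.not_mem_nil, or_false, not_or] at hlθ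
  -- a character of degree `10`
  obtain ⟨χ₀, hχ₀, hd₀⟩ : ∃ χ ∈ X, deg χ = 10 := by
    by_contra hno
    push Not at hno
    have h10 : (X.filter fun χ => deg χ = 10).card = 0 :=
      Finset.card_eq_zero.2 (Finset.filter_eq_empty_iff.2 hno)
    rcases hf1 with ⟨-, hf, hθ1⟩ | ⟨ht, hf⟩
    · rw [hf, h10] at hrθ hcardX
      rcases hecase with rfl | rfl | rfl | rfl <;> rcases hε with rfl | rfl <;> omega
    · have e1 := hrel _ ht
      rw [hsumX, deg_trivChar, hf, h10] at e1
      rw [hf, h10] at hcardX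
      rcases hecase with rfl | rfl | rfl | rfl <;> rcases hε with rfl | rfl <;> omega
  -- the centralizer
  have hVbot : V = ⊥ := by
    by_contra hne
    have hone : 1 < Nat.card V := by
      have := (Subgroup.nontrivial_iff_ne_bot V).2 hne
      exact Finite.one_lt_card
    obtain ⟨r, hr, hrd⟩ := Nat.exists_prime_and_dvd hone.ne'
    have := Fact.mk hr
    obtain ⟨v, hv⟩ := exists_prime_orderOf_dvd_card' r hrd
    have hvo : orderOf (v : G) = r := by rw [Subgroup.orderOf_coe, hv]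
    obtain ⟨x, hx⟩ : ∃ x : (P : Subgroup G), x ≠ 1 := by
      have : Nontrivial (P : Subgroup G) := Finite.one_lt_card_iff_nontrivial.1 (by rw [hP]; norm_num)
      exact exists_ne 1
    have hx1 : (x : G) ≠ 1 := fun h => hx (Subtype.ext h)
    obtain ⟨n, ρ, hρ, hρc'⟩ := χ₀.2
    have hρc := hρc'.symm
    have hn : n = 10 := (deg_eq_finrank hρc).symm.trans hd₀
    have hne' : (11 : ℕ) ≠ r := fun h => hV.not_dvd_orderOf v.2 (by rw [hvo, h])
    have hρv : ρ (v : G) = 1 := eq_one_of_finrank_lt ρ (p := 11) (by norm_num) hr hne'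
      (hV.pow_eq_one x.2) hx1 (by rw [← hvo]; exact pow_orderOf_eq_one _) (hV.commute x.2 v.2)
      (fun i j hi => by
        have := (hX χ₀ hχ₀).2.2 i j x x.2 v v.2 hi
        rwa [hρc] at this)
      (by rw [Module.finrank_fin_fun, hn]; norm_num)
    have hker : (χ₀ : G → ℂ) v = (χ₀ : G → ℂ) 1 := by
      rw [hρc]
      show ρ.character _ = ρ.character _
      rw [Representation.character, Representation.character, hρv, map_one ρ]
    rcases eq_one_or_all hker with h | h
    · rw [h, orderOf_one] at hvo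
      exact hr.ne_one hvo.symm
    · have h1 := (hX χ₀ hχ₀).2.2 1 0 x x.2 v v.2 (by rwa [pow_one])
      rw [h, apply_one_eq_charDegree, show charDegree (χ₀ : G → ℂ) = 10 from hd₀] at h1
      rcases (hX χ₀ hχ₀).1 with e1 | e1 <;> rw [e1] at h1 <;> norm_num at h1
  have hV1 : Nat.card V = 1 := by rw [hVbot]; exact Subgroup.card_bot
  have he5 : e = 5 := by
    obtain ⟨h1, h2⟩ := sylow_count P
    rw [hN, hV1, hG] at h2
    rcases hecase with rfl | rfl | rfl | rfl <;> omega
  subst he5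
  refine ⟨by rw [hV.card_centralizer, hV1], by rw [hN, hV1], X, Y, hdisj, hall hVbot, fun χ hχ => (hcand χ hχ).1,
    ?_, ⟨χ₀, hχ₀, hd₀⟩, hXc, by omega, fun χ hχ x hx hx1 => ?_, deg θ, fun θ' hθ' => ?_,
    fun h12 => ?_⟩
  · rcases hf1 with ⟨-, hf, -⟩ | ⟨ht, -⟩
    · exact hf
    · exfalso
      have h1 := hYm _ ht
      rw [deg_trivChar] at h1
      unfold Int.ModEq at h1
      rcases hε with rfl | rfl <;> omega
  · obtain ⟨hd, hs⟩ := hcand χ hχ
    have h1 := (hX χ hχ).2.2 1 0 x hx 1 (one_mem V) (by rwa [pow_one])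
    rw [pow_one, pow_zero, mul_one] at h1
    rw [h1]
    rcases hd with hd | hd | hd | hd <;> rcases (hX χ hχ).1 with e1 | e1 <;>
      simp [e1, hd] at hs ⊢
  · have h1 := hrel θ' hθ'
    rw [hsumX, ← hrθ] at h1
    rcases hε with rfl | rfl <;> omega
  · rcases hf1 with ⟨-, hf, -⟩ | ⟨ht, -⟩
    · rw [hf, h12] at hrθ hcardX
      rcases hε with rfl | rfl <;> omega
    · exfalso
      have h1 := hYm _ ht
      rw [deg_trivChar] at h1
      unfold Int.ModEq at h1
      rcases hε with rfl | rfl <;> omega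

/-- A Sylow `11`-subgroup is self-centralizing; the degrees prime to `11`. -/
theorem eleven (P : Sylow 11 G) :
    Nat.card (Subgroup.centralizer ((P : Subgroup G) : Set G)) = 11 ∧
    ∃ X Y : Finset (IrrCharacter G), Disjoint X Y ∧
      (∀ χ : IrrCharacter G, ¬ 11 ∣ deg χ ↔ χ ∈ X ∪ Y) ∧
      (∀ χ ∈ X, deg χ = 1 ∨ deg χ = 10 ∨ deg χ = 12 ∨ deg χ = 45) ∧
      (X.filter fun χ => deg χ = 1).card = 1 ∧ (∃ χ ∈ X, deg χ = 10) ∧ X.card = 5 ∧ Y.card = 2 ∧
      ∃ y : ℕ, (∀ θ ∈ Y, deg θ = y) ∧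
        (((X.filter fun χ => deg χ = 12).card = 0) →
          y = 16 ∧ (X.filter fun χ => deg χ = 10).card = 3 ∧ (X.filter fun χ => deg χ = 45).card = 1) := by
  obtain ⟨h1, -, X, Y, h2, h3, h4, h5, h6, h7, h8, -, h9⟩ := eleven_values hG P
  exact ⟨h1, X, Y, h2, h3, h4, h5, h6, h7, h8, h9⟩

/-- An element of order `11` generates its own centralizer. -/
theorem card_centralizer_eleven {z : G} (hz : orderOf z = 11) :
    Nat.card (Subgroup.centralizer ({z} : Set G)) = 11 := by
  have : Fact (Nat.Prime 11) := ⟨by norm_num⟩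
  have hc : Nat.card (Subgroup.zpowers z) = 11 := by rw [Nat.card_zpowers, hz]
  obtain ⟨P, hP⟩ := (IsPGroup.of_card (n := 1) (by rw [hc, pow_one]) :
    IsPGroup 11 (Subgroup.zpowers z)).exists_le_sylow
  have hPc := card_sylow hG (Or.inl rfl) P
  have heq : Subgroup.zpowers z = (P : Subgroup G) :=
    Subgroup.eq_of_le_of_card_ge hP (by rw [hc, hPc])
  obtain ⟨V, hV⟩ := exists_setup hPc P.not_dvd_index
  rw [hV.centralizer_singleton (heq ▸ Subgroup.mem_zpowers z)
    (fun h => by rw [h, orderOf_one] at hz; norm_num at hz)]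
  exact (eleven hG P).1

/-- The Sylow `5`-subgroups, and the values there of the characters of degree prime to `5`. -/
theorem five_values {χ₁ : IrrCharacter G} (hd₁ : deg χ₁ = 10) (P : Sylow 5 G) :
    Nat.card (Subgroup.centralizer ((P : Subgroup G) : Set G)) = 5 ∧
    Nat.card (Subgroup.normalizer ((P : Subgroup G) : Set G)) = 20 ∧
    (∀ χ : IrrCharacter G, ¬ 5 ∣ deg χ → deg χ % 5 = 1 ∨ deg χ % 5 = 4) ∧
    (∀ χ : IrrCharacter G, ∀ x ∈ (P : Subgroup G), x ≠ 1 →
      (χ : G → ℂ) x = if 5 ∣ deg χ then 0 else if deg χ % 5 = 1 then 1 else -1) ∧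
    ∃ S : Finset (IrrCharacter G), S.card = 5 ∧ ∀ χ : IrrCharacter G, ¬ 5 ∣ deg χ ↔ χ ∈ S := by
  have : Fact (Nat.Prime 5) := ⟨by norm_num⟩
  have hP := card_sylow hG (Or.inr rfl) P
  obtain ⟨V, hV⟩ := exists_setup hP P.not_dvd_index
  obtain ⟨x, hx⟩ : ∃ x : (P : Subgroup G), x ≠ 1 := by
    have : Nontrivial (P : Subgroup G) := Finite.one_lt_card_iff_nontrivial.1 (by rw [hP]; norm_num)
    exact exists_ne 1
  have hx1 : (x : G) ≠ 1 := fun h => hx (Subtype.ext h)
  have hxo := hV.orderOf_eq x.2 hx1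
  have h11 : ¬ 11 ∣ Nat.card V := fun hd => by
    have : Fact (Nat.Prime 11) := ⟨by norm_num⟩
    obtain ⟨z, hz⟩ := exists_prime_orderOf_dvd_card' 11 hd
    have hzo : orderOf (z : G) = 11 := by rw [Subgroup.orderOf_coe, hz]
    have hxC : (x : G) ∈ Subgroup.centralizer ({(z : G)} : Set G) :=
      Subgroup.mem_centralizer_singleton_iff.2 (hV.commute x.2 z.2).eq
    have := Subgroup.orderOf_dvd_natCard _ hxC
    rw [hxo, card_centralizer_eleven hG hzo] at this
    norm_num at this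
  have h2 : ¬ 2 ∣ Nat.card V := fun hd => by
    obtain ⟨v, hv⟩ := exists_prime_orderOf_dvd_card' 2 hd
    have hvo : orderOf (v : G) = 2 := by rw [Subgroup.orderOf_coe, hv]
    obtain ⟨n, ρ, hρ, hρc'⟩ := χ₁.2
    have hρc := hρc'.symm
    have hn : n = 10 := (deg_eq_finrank hρc).symm.trans hd₁
    have := hρ
    have hvan : ∀ g : G, 5 ∣ orderOf g → ρ.character g = 0 := fun g hg =>
      CfsgLib.Char.character_eq_zero_of_defect_zero
        (fun θ hθ hE => CfsgLib.Brauer.isGeneralizedCharacter_of_elementary hθ hE) ρ (p := 5) (n := 1)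
        (by norm_num) (by rw [hG]; norm_num) (by rw [hG]; norm_num)
        (by rw [Module.finrank_fin_fun, hn]; norm_num) hg
    have hdet : LinearMap.det (ρ (v : G)) = 1 := by
      rw [← CharExt.detHom_apply, hom_eq_one hG (CharExt.detHom ρ)]
      rfl
    have hval : ∀ i j : ℕ, (x : G) ^ i ≠ 1 → ρ.character ((x : G) ^ i * (v : G) ^ j) = 0 := by
      intro i j hi
      refine hvan _ ?_
      have h5 : orderOf ((x : G) ^ i) = 5 := hV.orderOf_eq (Subgroup.pow_mem _ x.2 i) hi
      have hco : (orderOf ((x : G) ^ i)).Coprime (orderOf ((v : G) ^ j)) := by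
        rw [h5]
        exact Nat.Coprime.coprime_dvd_right (orderOf_pow_dvd j) (by rw [hvo]; norm_num)
      rw [((hV.commute x.2 v.2).pow_pow i j).orderOf_mul_eq_mul_orderOf_of_coprime hco, h5]
      exact dvd_mul_right _ _
    have hker : ∀ g : G, ρ g = 1 → g = 1 := fun g hg => by
      refine (eq_one_or_all (χ := χ₁) (g := g) ?_).resolve_right fun h => ?_
      · rw [hρc]
        show ρ.character _ = ρ.character _
        rw [Representation.character, Representation.character, hg, map_one ρ]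
      · have h0 := hval 1 0 (by rwa [pow_one])
        rw [← hρc, h, apply_one_eq_charDegree, show charDegree (χ₁ : G → ℂ) = 10 from hd₁] at h0
        norm_num at h0
    rcases scalar_of_finrank_eq_two_mul ρ (p := 5) (by norm_num) (by norm_num)
      (hV.pow_eq_one x.2) hx1 (by rw [← hvo]; exact pow_orderOf_eq_one _) (hV.commute x.2 v.2) hval
      (by rw [Module.finrank_fin_fun, hn]) hdet with h | h
    · rw [hker _ h, orderOf_one] at hvo
      exact absurd hvo (by norm_num)
    · have hz : (v : G) ∈ Subgroup.center G := Subgroup.mem_center_iff.2 fun g => by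
        refine mul_inv_eq_one.1 (hker (g * (v : G) * ((v : G) * g)⁻¹) ?_)
        rw [map_mul, show ρ (g * (v : G)) = ρ ((v : G) * g) by
            rw [map_mul, map_mul, h]; exact ((Commute.one_right (ρ g)).neg_right).eq,
          ← map_mul, mul_inv_cancel, map_one]
      rcases Subgroup.Normal.eq_bot_or_eq_top (inferInstance : (Subgroup.center G).Normal) with hb | hb
      · rw [hb, Subgroup.mem_bot] at hz
        rw [hz, orderOf_one] at hvo
        exact absurd hvo (by norm_num)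
      · let _ : CommGroup G := { ‹Group G› with mul_comm := fun a b =>
          (Subgroup.mem_center_iff.1 (hb ▸ Subgroup.mem_top b : b ∈ Subgroup.center G) a) }
        have := IsSimpleGroup.prime_card (α := G)
        rw [hG] at this
        exact absurd this (by norm_num)
  obtain ⟨e, X, Y, εX, ε, hedvd, hN, hdisj, hXc, hYc, htriv, hX, hε, hYm, hrel, hall⟩ :=
    principal_data hG hV
  have hecase : e = 1 ∨ e = 2 ∨ e = 4 := by
    have h1 := Nat.le_of_dvd (by norm_num) hedvd
    have h2 : e ≠ 0 := fun e0 => by simp [e0] at hedvd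
    interval_cases e <;> simp_all
  -- no inertial index one
  have he1 : e ≠ 1 := by
    rintro rfl
    obtain ⟨χ, rfl⟩ := Finset.card_eq_one.1 hXc
    have hY4 : Y.card = 4 := by omega
    obtain ⟨θ, hθ⟩ : Y.Nonempty := by rw [← Finset.card_pos, hY4]; norm_num
    have hdd : ∀ θ' ∈ Y, deg θ' = deg χ := fun θ' hθ' => by
      have h1 := hrel θ' hθ'
      rw [Finset.sum_singleton] at h1
      have := charDegree_pos χ
      rcases hε with rfl | rfl <;> rcases (hX χ (Finset.mem_singleton_self χ)).1 with e1 | e1 <;>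
        rw [e1] at h1 <;> omega
    have hone : deg χ = 1 := by
      rcases Finset.mem_union.1 htriv with ht | ht
      · rw [← Finset.mem_singleton.1 ht, deg_trivChar]
      · rw [← hdd _ ht, deg_trivChar]
    have : Y ⊆ {trivChar G} := fun θ' hθ' =>
      Finset.mem_singleton.2 (deg_one hG ((hdd θ' hθ').trans hone))
    have := Finset.card_le_card this
    rw [Finset.card_singleton] at this
    omega
  obtain ⟨hm, hn⟩ := sylow_count P
  rw [hN, hG] at hn
  have hcdvd : Nat.card V ∣ 1584 := by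
    refine (Nat.dvd_of_mul_dvd_mul_left (by norm_num : 0 < 5) ?_ : Nat.card V ∣ 1584)
    exact ⟨Nat.card (Sylow 5 G) * e, by rw [show (5 : ℕ) * 1584 = 7920 from rfl, ← hn]; ring⟩
  have hc : Nat.card V = 1 ∨ Nat.card V = 3 ∨ Nat.card V = 9 := by
    have hco : (Nat.card V).Coprime (2 ^ 4 * 11) :=
      Nat.Coprime.mul_right ((Nat.prime_two.coprime_iff_not_dvd.2 h2).symm.pow_right 4)
        ((Nat.Prime.coprime_iff_not_dvd (by norm_num)).2 h11).symm
    have h9 : Nat.card V ∣ 9 := hco.dvd_of_dvd_mul_left (dvd_trans hcdvd (by norm_num))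
    have := Nat.le_of_dvd (by norm_num) h9
    interval_cases h : Nat.card V <;> simp_all
  have he4 : e = 4 ∧ Nat.card V = 1 := by
    rcases hecase with rfl | rfl | rfl
    · exact absurd rfl he1
    all_goals rcases hc with h | h | h <;> rw [h] at hn ⊢ <;> omega
  obtain ⟨rfl, hV1⟩ := he4
  have hiff := hall (Subgroup.card_eq_one.1 hV1)
  have hmod : ∀ χ : IrrCharacter G, ¬ 5 ∣ deg χ → deg χ % 5 = 1 ∨ deg χ % 5 = 4 := by
    intro χ hχ
    rcases Finset.mem_union.1 ((hiff χ).1 hχ) with h | h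
    · obtain ⟨h1, h2', -⟩ := hX χ h
      unfold Int.ModEq at h2'
      rcases h1 with h1 | h1 <;> rw [h1] at h2' <;> omega
    · have h2' := hYm χ h
      unfold Int.ModEq at h2'
      rcases hε with rfl | rfl <;> omega
  refine ⟨by rw [hV.card_centralizer, hV1], by rw [hN, hV1], hmod, fun χ y hy hy1 => ?_, X ∪ Y, ?_,
    hiff⟩
  swap
  · rw [Finset.card_union_of_disjoint hdisj, hXc]
    omega
  have hzero : ∀ χ : IrrCharacter G, 5 ∣ deg χ → (χ : G → ℂ) y = 0 := fun χ hd => by
    obtain ⟨n, ρ, hρ, hρc'⟩ := χ.2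
    have hρc := hρc'.symm
    have := hρ
    rw [hρc]
    refine CfsgLib.Char.character_eq_zero_of_defect_zero
      (fun θ hθ hE => CfsgLib.Brauer.isGeneralizedCharacter_of_elementary hθ hE) ρ (p := 5) (n := 1)
      (by norm_num) (by rw [hG]; norm_num) (by rw [hG]; norm_num)
      (by rw [Module.finrank_fin_fun, ← deg_eq_finrank hρc, pow_one]; exact hd) ?_
    rw [hV.orderOf_eq hy hy1]
  by_cases hd : 5 ∣ deg χ
  · rw [if_pos hd, hzero χ hd]
  rw [if_neg hd]
  have hXv : ∀ ψ ∈ X, (ψ : G → ℂ) y = (εX ψ : ℂ) := fun ψ hψ => by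
    have h1 := (hX ψ hψ).2.2 1 0 y hy 1 (one_mem V) (by rwa [pow_one])
    rwa [pow_one, pow_zero, mul_one] at h1
  rcases Finset.mem_union.1 ((hiff χ).1 hd) with h | h
  · obtain ⟨h1, h2', -⟩ := hX χ h
    rw [hXv χ h]
    unfold Int.ModEq at h2'
    rcases h1 with h1 | h1 <;> rw [h1] at h2' ⊢ <;> split_ifs <;> first | (norm_num; done) | omega
  obtain ⟨θ, rfl⟩ := Finset.card_eq_one.1 (show Y.card = 1 by omega)
  rw [Finset.mem_singleton] at h
  subst h
  have := Fintype.ofFinite (IrrCharacter G)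
  have hsum := sum_degree_mul_apply_of_ne_one hy1
  rw [← Finset.sum_subset (Finset.subset_univ (X ∪ {χ})) fun ψ _ hψ => by
      rw [hzero ψ (by by_contra hc; exact hψ ((hiff ψ).1 hc)), mul_zero],
    Finset.sum_union hdisj, Finset.sum_singleton,
    Finset.sum_congr rfl fun ψ hψ => by rw [hXv ψ hψ, apply_one_eq_charDegree]] at hsum
  have h1 : ((ε : ℂ) * (deg χ : ℂ)) = ∑ ψ ∈ X, (εX ψ : ℂ) * (deg ψ : ℂ) := by
    exact_mod_cast hrel χ (Finset.mem_singleton_self χ)
  rw [Finset.sum_congr rfl (fun (ψ : IrrCharacter G) _ => mul_comm (deg ψ : ℂ) (εX ψ : ℂ)), ← h1,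
    apply_one_eq_charDegree] at hsum
  have hne : (deg χ : ℂ) ≠ 0 := Nat.cast_ne_zero.2 (charDegree_pos χ).ne'
  have hv : (χ : G → ℂ) y = -(ε : ℂ) :=
    mul_left_cancel₀ hne (by linear_combination hsum)
  have h2' := hYm χ (Finset.mem_singleton_self χ)
  unfold Int.ModEq at h2'
  rw [hv]
  rcases hε with rfl | rfl <;> split_ifs <;> first | (norm_num; done) | omega

/-- The degrees prime to `5`. -/
theorem five {χ₁ : IrrCharacter G} (hd₁ : deg χ₁ = 10) :
    (∀ χ : IrrCharacter G, ¬ 5 ∣ deg χ → deg χ % 5 = 1 ∨ deg χ % 5 = 4) ∧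
    ∃ S : Finset (IrrCharacter G), S.card = 5 ∧ ∀ χ : IrrCharacter G, ¬ 5 ∣ deg χ ↔ χ ∈ S := by
  obtain ⟨P⟩ : Nonempty (Sylow 5 G) := inferInstance
  obtain ⟨-, -, h1, -, h2⟩ := five_values hG hd₁ P
  exact ⟨h1, h2⟩

end CfsgLib.Blocks.Order7920
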