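import Cfsg.Agent.Lib.Char.Basic
import Cfsg.Agent.Lib.Char.Extension
import Cfsg.Agent.Lib.Char.Integral
import Cfsg.Agent.Lib.Char.Rep

/-!
# Eigenvalue multiplicities of commuting elements

If a character takes one value on all `x ^ i * v ^ j` with `x ^ i ≠ 1`, where `x` has prime order `p`,
then `p` divides the multiplicity of every nontrivial eigenvalue of `v`.
-/

set_option autoImplicit false

namespace CfsgLib.Blocks.Order7920

open Cfsg CfsgLib Module

theorem geom_root {n : ℕ} {z : ℂ} (hz : z ^ n = 1) :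
    ∑ k ∈ Finset.range n, z ^ k = if z = 1 then (n : ℂ) else 0 := by
  split_ifs with h
  · simp [h]
  · rw [geom_sum_eq h, hz, sub_self, zero_div]

variable {G : Type*} [Group G] [Finite G] {V : Type*} [AddCommGroup V] [Module ℂ V]
  [FiniteDimensional ℂ V]

/-- `p` divides the multiplicities of the nontrivial eigenvalues. -/
theorem dvd_multiplicity (ρ : Representation ℂ G V) {p r : ℕ} (hp : p.Prime) (hr : r.Prime)
    (hpr : p ≠ r) {x v : G} (hx : x ^ p = 1) (hx1 : x ≠ 1) (hv : v ^ r = 1) (hc : Commute x v)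
    {c : ℂ} (hval : ∀ i j : ℕ, x ^ i ≠ 1 → ρ.character (x ^ i * v ^ j) = c) :
    ∃ (ε : Fin (finrank ℂ V) → ℂ) (b : Basis (Fin (finrank ℂ V)) ℂ V),
      (∀ i, ρ v (b i) = ε i • b i) ∧ (∀ i, ε i ^ r = 1) ∧ ρ.character v = ∑ i, ε i ∧
      ∀ ζ : ℂ, ζ ≠ 1 → p ∣ (Finset.univ.filter fun i => ε i = ζ).card := by
  classical
  have hox : orderOf x = p := by
    have := Fact.mk hp
    exact orderOf_eq_prime hx hx1
  obtain ⟨b, ε, hb, hε⟩ := Char.exists_eigenbasis ρ v
  have hεr : ∀ i, ε i ^ r = 1 := fun i => by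
    obtain ⟨k, hk⟩ := orderOf_dvd_of_pow_eq_one hv
    rw [hk, pow_mul, hε i, one_pow]
  have hpow : ∀ m : ℕ, ρ.character (v ^ m) = ∑ i, ε i ^ m := by
    intro m
    have hbm : ∀ i, ρ (v ^ m) (b i) = ε i ^ m • b i := fun i => by
      induction m with
      | zero => simp
      | succ k ih => rw [pow_succ', map_mul, Module.End.mul_apply, ih, map_smul, hb, smul_smul, pow_succ]
    rw [Representation.character, LinearMap.trace_eq_matrix_trace ℂ b, Matrix.trace]
    refine Finset.sum_congr rfl fun i _ => ?_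
    simp only [Matrix.diag, LinearMap.toMatrix_apply, hbm]
    simp
  refine ⟨ε, b, hb, hεr, by simpa using hpow 1, fun ζ hζ1 => ?_⟩
  by_cases hζ : ∃ i, ε i = ζ
  swap
  · push Not at hζ
    simp [Finset.filter_eq_empty_iff.2 fun i _ => hζ i]
  have hζr : ζ ^ r = 1 := by obtain ⟨i, rfl⟩ := hζ; exact hεr i
  have hζ0 : ζ ≠ 0 := fun h => by rw [h, zero_pow hr.ne_zero] at hζr; exact zero_ne_one hζr
  set w := x * v with hw
  obtain ⟨μ, hμ, -, hμpow, -⟩ := Char.exists_eigenvalues ρ w
  set N := p * r with hN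
  have hwN : w ^ N = 1 := by
    rw [hw, hc.mul_pow, hN, pow_mul, hx, one_pow, one_mul, mul_comm p r, pow_mul, hv, one_pow]
  have hζN : ζ ^ N = 1 := by rw [hN, mul_comm, pow_mul, hζr, one_pow]
  have hμN : ∀ i, μ i ^ N = 1 := fun i => by
    obtain ⟨k, hk⟩ := orderOf_dvd_of_pow_eq_one hwN
    rw [hk, pow_mul, hμ i, one_pow]
  set A := (Finset.univ.filter fun i => μ i = ζ).card
  set B := (Finset.univ.filter fun i => ε i = ζ).card
  set T := ∑ k ∈ Finset.range N, ρ.character (w ^ k) * ζ⁻¹ ^ k with hT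
  have hT1 : T = (N : ℂ) * A := by
    rw [hT]
    simp only [hμpow, Finset.sum_mul]
    rw [Finset.sum_comm]
    have : ∀ i, ∑ k ∈ Finset.range N, μ i ^ k * ζ⁻¹ ^ k = if μ i = ζ then (N : ℂ) else 0 := fun i => by
      simp only [← mul_pow]
      rw [geom_root (by rw [mul_pow, inv_pow, hμN i, hζN, inv_one, one_mul])]
      exact if_congr (mul_inv_eq_one₀ hζ0) rfl rfl
    rw [Finset.sum_congr rfl fun i _ => this i, ← Finset.sum_filter, Finset.sum_const, nsmul_eq_mul,
      mul_comm]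
  have hT2 : T = (r : ℂ) * B := by
    set D := (Finset.range N).filter (fun k => p ∣ k) with hD
    have hDimg : D = (Finset.range r).image (fun m => p * m) := by
      ext k
      simp only [hD, hN, Finset.mem_filter, Finset.mem_range, Finset.mem_image]
      constructor
      · rintro ⟨hk, m, rfl⟩
        exact ⟨m, Nat.lt_of_mul_lt_mul_left hk, rfl⟩
      · rintro ⟨m, hm, rfl⟩
        exact ⟨Nat.mul_lt_mul_of_pos_left hm hp.pos, m, rfl⟩
    have hsplit : ∀ f : ℕ → ℂ, ∑ k ∈ Finset.range N, f k =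
        (∑ m ∈ Finset.range r, f (p * m)) + ∑ k ∈ (Finset.range N).filter (fun k => ¬ p ∣ k), f k :=
      fun f => by
        rw [← Finset.sum_filter_add_sum_filter_not (Finset.range N) (fun k => p ∣ k), ← hD, hDimg,
          Finset.sum_image fun a _ a' _ e => Nat.eq_of_mul_eq_mul_left hp.pos e]
    have hpowζ : ∀ i, (ε i * ζ⁻¹) ^ r = 1 := fun i => by
      rw [mul_pow, inv_pow, hεr i, hζr, inv_one, one_mul]
    have hinj : ∀ z : ℂ, z ^ r = 1 → z ^ p = 1 → z = 1 := fun z h1 h2 => by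
      have h := pow_gcd_eq_one.2 (⟨h2, h1⟩ : z ^ p = 1 ∧ z ^ r = 1)
      rwa [(Nat.coprime_primes hp hr).2 hpr, pow_one] at h
    have h1 : ∑ m ∈ Finset.range r, ρ.character (w ^ (p * m)) * ζ⁻¹ ^ (p * m) = (r : ℂ) * B := by
      have e : ∀ m, w ^ (p * m) = v ^ (p * m) := fun m => by
        rw [hw, hc.mul_pow, pow_mul, hx, one_pow, one_mul]
      simp only [e, hpow, Finset.sum_mul]
      rw [Finset.sum_comm]
      have : ∀ i, ∑ m ∈ Finset.range r, ε i ^ (p * m) * ζ⁻¹ ^ (p * m) =
          if ε i = ζ then (r : ℂ) else 0 := fun i => by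
        simp only [← mul_pow, pow_mul]
        rw [geom_root (show ((ε i * ζ⁻¹) ^ p) ^ r = 1 by
          rw [← pow_mul, mul_comm p r, pow_mul, hpowζ, one_pow])]
        exact if_congr ⟨fun h => (mul_inv_eq_one₀ hζ0).1 (hinj _ (hpowζ i) h),
          fun h => by rw [h, mul_inv_cancel₀ hζ0, one_pow]⟩ rfl rfl
      rw [Finset.sum_congr rfl fun i _ => this i, ← Finset.sum_filter, Finset.sum_const,
        nsmul_eq_mul, mul_comm]
    have h2 : ∑ k ∈ (Finset.range N).filter (fun k => ¬ p ∣ k), ρ.character (w ^ k) * ζ⁻¹ ^ k =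
        c * ∑ k ∈ (Finset.range N).filter (fun k => ¬ p ∣ k), ζ⁻¹ ^ k := by
      rw [Finset.mul_sum]
      refine Finset.sum_congr rfl fun k hk => ?_
      rw [hw, hc.mul_pow, hval k k fun e => (Finset.mem_filter.1 hk).2 (hox ▸ orderOf_dvd_of_pow_eq_one e)]
    have h3 := hsplit fun k => ζ⁻¹ ^ k
    rw [geom_root (by rw [inv_pow, hζN, inv_one]), if_neg (by simpa using hζ1)] at h3
    have h4 : ∑ m ∈ Finset.range r, ζ⁻¹ ^ (p * m) = 0 := by
      simp only [pow_mul]
      rw [geom_root (by rw [← pow_mul, mul_comm, pow_mul, inv_pow, hζr, inv_one, one_pow]), if_neg]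
      intro h
      refine hζ1 ?_
      have := hinj ζ⁻¹ (by rw [inv_pow, hζr, inv_one]) h
      simpa using this
    rw [h4, zero_add] at h3
    rw [hT, hsplit, h1, h2, ← h3, mul_zero, add_zero]
  have : p * r * A = r * B := by exact_mod_cast (hN ▸ hT1.symm.trans hT2 : ((p * r : ℕ) : ℂ) * A = (r : ℂ) * B)
  exact ⟨A, Nat.eq_of_mul_eq_mul_left hr.pos (by rw [← this]; ring)⟩

/-- With fewer than `p` dimensions the element acts trivially. -/
theorem eq_one_of_finrank_lt (ρ : Representation ℂ G V) {p r : ℕ} (hp : p.Prime) (hr : r.Prime)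
    (hpr : p ≠ r) {x v : G} (hx : x ^ p = 1) (hx1 : x ≠ 1) (hv : v ^ r = 1) (hc : Commute x v)
    {c : ℂ} (hval : ∀ i j : ℕ, x ^ i ≠ 1 → ρ.character (x ^ i * v ^ j) = c)
    (hd : finrank ℂ V < p) : ρ v = 1 := by
  classical
  obtain ⟨ε, b, hb, -, -, hdvd⟩ := dvd_multiplicity ρ hp hr hpr hx hx1 hv hc hval
  refine b.ext fun i => ?_
  rw [hb i, Module.End.one_apply]
  suffices h : ε i = 1 by rw [h, one_smul]
  by_contra hne
  have h1 := Nat.le_of_dvd (Finset.card_pos.2 ⟨i, by simp⟩) (hdvd _ hne)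
  have h2 := (Finset.univ.filter fun j => ε j = ε i).card_le_univ
  rw [Fintype.card_fin] at h2
  omega

/-- An involution commuting with an element of prime order `p` on whose multiples a character of
degree `2 p` vanishes acts as a scalar, if `p` is odd and determinants are trivial. -/
theorem scalar_of_finrank_eq_two_mul (ρ : Representation ℂ G V) {p : ℕ} (hp : p.Prime)
    (hp2 : p ≠ 2) {x v : G} (hx : x ^ p = 1) (hx1 : x ≠ 1) (hv : v ^ 2 = 1) (hc : Commute x v)
    {c : ℂ} (hval : ∀ i j : ℕ, x ^ i ≠ 1 → ρ.character (x ^ i * v ^ j) = c)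
    (hd : finrank ℂ V = 2 * p) (hdet : LinearMap.det (ρ v) = 1) :
    ρ v = 1 ∨ ρ v = -1 := by
  classical
  obtain ⟨ε, b, hb, hε2, -, hdvd⟩ := dvd_multiplicity ρ hp Nat.prime_two hp2 hx hx1 hv hc hval
  set S := Finset.univ.filter fun i => ε i = (-1 : ℂ) with hS
  have hpm : ∀ i, i ∉ S → ε i = 1 := fun i hi => by
    rcases sq_eq_one_iff.1 (hε2 i) with h | h
    · exact h
    · exact absurd (show i ∈ S from Finset.mem_filter.2 ⟨Finset.mem_univ i, h⟩) hi
  have hdetp : LinearMap.det (ρ v) = (-1 : ℂ) ^ S.card := by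
    rw [← LinearMap.det_toMatrix b,
      show LinearMap.toMatrix b b (ρ v) = Matrix.diagonal ε from ?_, Matrix.det_diagonal,
      ← Finset.prod_filter_mul_prod_filter_not Finset.univ (fun i => ε i = (-1 : ℂ)),
      Finset.prod_congr rfl fun i hi => (Finset.mem_filter.1 hi).2, Finset.prod_const,
      Finset.prod_eq_one fun i hi => hpm i fun h => absurd ((Finset.mem_filter.1 h).2)
        (show ¬ ε i = (-1 : ℂ) from (Finset.mem_filter.1 hi).2), mul_one]
    ext i j
    rw [LinearMap.toMatrix_apply, hb, map_smul, Finsupp.smul_apply, b.repr_self, Matrix.diagonal]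
    simp only [Matrix.of_apply, Finsupp.single_apply]
    split_ifs with h1 h2 <;> simp_all
  have hk : p ∣ S.card := hdvd (-1) (by norm_num)
  have hle : S.card ≤ 2 * p := by
    refine le_trans S.card_le_univ (le_of_eq ?_)
    rw [Fintype.card_fin, hd]
  obtain ⟨k, hk⟩ := hk
  have hk2 : k ≤ 2 := Nat.le_of_mul_le_mul_left (by rw [← hk]; linarith) hp.pos
  interval_cases k
  · left
    refine b.ext fun i => ?_
    rw [hb i, hpm i (by rw [Finset.card_eq_zero.1 (hk.trans (mul_zero p))]; simp), one_smul]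
    rfl
  · exfalso
    rw [hdetp, hk, mul_one, (hp.odd_of_ne_two hp2).neg_one_pow] at hdet
    norm_num at hdet
  · right
    refine b.ext fun i => ?_
    have hu : S = Finset.univ := Finset.eq_univ_of_card _ (by
      refine hk.trans ?_
      rw [Fintype.card_fin, hd, mul_comm])
    have hiS : i ∈ S := hu ▸ Finset.mem_univ i
    have : ε i = -1 := (Finset.mem_filter.1 hiS).2
    rw [hb i, this, neg_one_smul]
    rfl

end CfsgLib.Blocks.Order7920
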