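import Cfsg.Agent.Lib.Blocks.Order7920.Table
import Cfsg.Agent.Lib.Perm.PrimeOrderCount
import Cfsg.Agent.S2490

/-!
# Order 7920 with the element order counts of the simple group
-/

set_option autoImplicit false

namespace CfsgLib.Blocks.Order7920

open Cfsg CfsgLib

/-- The positive numbers of elements of the various orders, in the simple group. -/
theorem counts_simple {M : Type*} [Group M] [Finite M] [IsSimpleGroup M] (hM : Nat.card M = 7920)
    {c n : ℕ} (hc : 0 < c) (hcn : c = Nat.card {g : M // orderOf g = n}) :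
    c = 1 ∨ 55 ∣ c ∨ c = 1584 ∨ c = 1440 := by
  classical
  have := Fintype.ofFinite M
  have : Fact (Nat.Prime 11) := ⟨by norm_num⟩
  have : Fact (Nat.Prime 5) := ⟨Nat.prime_five⟩
  obtain ⟨T⟩ := exists_tbl hM
  obtain ⟨P⟩ : Nonempty (Sylow 5 M) := inferInstance
  obtain ⟨Q⟩ : Nonempty (Sylow 11 M) := inferInstance
  have hP := card_sylow hM (Or.inr rfl) P
  have hQ := card_sylow hM (Or.inl rfl) Q
  by_cases h1 : n = 1
  · left
    rw [hcn, h1, Nat.card_eq_one_iff_unique]
    exact ⟨⟨fun a b => Subtype.ext ((orderOf_eq_one_iff.1 a.2).trans (orderOf_eq_one_iff.1 b.2).symm)⟩,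
      ⟨⟨1, orderOf_one⟩⟩⟩
  by_cases h5 : n = 5
  · right; right; left
    obtain ⟨hm, hmul⟩ := sylow_count P
    rw [(five_values hM T.d_t1 P).2.1, hM] at hmul
    rw [hcn, h5, CfsgLib.Perm.card_orderOf_eq_prime P hP]
    omega
  by_cases h11 : n = 11
  · right; right; right
    obtain ⟨hm, hmul⟩ := sylow_count Q
    rw [(eleven_values hM Q).2.1, hM] at hmul
    rw [hcn, h11, CfsgLib.Perm.card_orderOf_eq_prime Q hQ]
    omega
  right; left
  have key : ∀ {p : ℕ} [Fact p.Prime], n ≠ p →
      (∀ y : M, orderOf y = p → Nat.card (Subgroup.centralizer ({y} : Set M)) = p) →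
      p ∣ Nat.card M → p ∣ c := by
    intro p hp hnp hC hdvd
    obtain ⟨y, hy⟩ := exists_prime_orderOf_dvd_card' (G := M) p hdvd
    let S := Subgroup.zpowers y
    let act : MulAction S {g : M // orderOf g = n} :=
      { smul := fun s g => ⟨(s : M) * g * (s : M)⁻¹, by rw [CfsgLib.Perm.orderOf_conj_eq]; exact g.2⟩
        one_smul := fun g => Subtype.ext (by show ((1 : S) : M) * g * ((1 : S) : M)⁻¹ = g; simp)
        mul_smul := fun s t g => Subtype.ext (by
          show ((s * t : S) : M) * g * ((s * t : S) : M)⁻¹ = s * (t * g * (t : M)⁻¹) * (s : M)⁻¹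
          rw [Subgroup.coe_mul]; group) }
    have hS : IsPGroup p S := IsPGroup.of_card (n := 1) (by rw [Nat.card_zpowers, hy, pow_one])
    have h := hS.card_modEq_card_fixedPoints (α := {g : M // orderOf g = n})
    have h0 : Nat.card (MulAction.fixedPoints S {g : M // orderOf g = n}) = 0 := by
      rw [Nat.card_eq_zero]
      refine Or.inl ⟨fun a => ?_⟩
      have e : y * (a.1 : M) * y⁻¹ = (a.1 : M) := congrArg Subtype.val (a.2 ⟨y, Subgroup.mem_zpowers y⟩)
      have hm : (a.1 : M) ∈ Subgroup.centralizer ({y} : Set M) :=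
        Subgroup.mem_centralizer_singleton_iff.2 (mul_inv_eq_iff_eq_mul.1 e).symm
      have hd := Subgroup.orderOf_dvd_natCard _ hm
      rw [hC y hy, a.1.2] at hd
      rcases (Nat.dvd_prime hp.out).1 hd with h | h
      · exact h1 h
      · exact hnp h
    rw [h0, ← hcn] at h
    exact Nat.modEq_zero_iff_dvd.1 h
  have d5 := key h5 (fun y hy => card_centralizer_five hM T hy) (by rw [hM]; norm_num)
  have d11 := key h11 (fun y hy => card_centralizer_eleven hM hy) (by rw [hM]; norm_num)
  exact (by norm_num : Nat.Coprime 5 11).mul_dvd_of_dvd_of_dvd d5 d11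

/-- A group of order 7920 with only such counts is simple. -/
theorem isSimple_of_counts {G : Type*} [Group G] [Finite G] (hG : Nat.card G = 7920)
    (hcnt : ∀ c n : ℕ, 0 < c → c = Nat.card {g : G // orderOf g = n} →
      c = 1 ∨ 55 ∣ c ∨ c = 1584 ∨ c = 1440) : IsSimpleGroup G := by
  classical
  have := Fintype.ofFinite G
  have : Fact (Nat.Prime 11) := ⟨by norm_num⟩
  have : Fact (Nat.Prime 5) := ⟨Nat.prime_five⟩
  have hsyl : ∀ {p : ℕ} [Fact p.Prime] (m : ℕ), 7920 = p * m → ¬ p ∣ m → ∀ P : Sylow p G,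
      Nat.card (P : Subgroup G) = p := by
    intro p hp m e hm P
    have hf : (7920 : ℕ).factorization p = 1 := by
      rw [e, Nat.factorization_mul hp.out.ne_zero (fun m0 => by simp [m0] at e), Finsupp.add_apply,
        hp.out.factorization_self, Nat.factorization_eq_zero_of_not_dvd hm]
    rw [P.card_eq_multiplicity, hG, hf, pow_one]
  obtain ⟨P⟩ : Nonempty (Sylow 5 G) := inferInstance
  obtain ⟨Q⟩ : Nonempty (Sylow 11 G) := inferInstance
  have hP := hsyl 1584 (by norm_num) (by norm_num) P
  have hQ := hsyl 720 (by norm_num) (by norm_num) Q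
  have hc : ∀ {p : ℕ} [Fact p.Prime] (R : Sylow p G), Nat.card (R : Subgroup G) = p →
      (p - 1) * Nat.card (Sylow p G) = 1 ∨ 55 ∣ (p - 1) * Nat.card (Sylow p G) ∨
        (p - 1) * Nat.card (Sylow p G) = 1584 ∨ (p - 1) * Nat.card (Sylow p G) = 1440 := by
    intro p hp R hR
    refine hcnt _ p ?_ (CfsgLib.Perm.card_orderOf_eq_prime R hR).symm
    exact Nat.mul_pos (Nat.sub_pos_of_lt hp.out.one_lt) Nat.card_pos
  have h5 : Nat.card (Sylow 5 G) = 396 := by
    have hm : Nat.card (Sylow 5 G) % 5 = 1 := card_sylow_modEq_one 5 G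
    rcases hc P hP with h | h | h | h
    · omega
    · have h' : 5 ∣ Nat.card (Sylow 5 G) :=
        (show Nat.Coprime 5 (5 - 1) by norm_num).dvd_of_dvd_mul_left (dvd_trans (by norm_num) h)
      omega
    · omega
    · omega
  have h11 : Nat.card (Sylow 11 G) = 144 := by
    have hm : Nat.card (Sylow 11 G) % 11 = 1 := card_sylow_modEq_one 11 G
    rcases hc Q hQ with h | h | h | h
    · omega
    · have h' : 11 ∣ Nat.card (Sylow 11 G) :=
        (show Nat.Coprime 11 (11 - 1) by norm_num).dvd_of_dvd_mul_left (dvd_trans (by norm_num) h)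
      omega
    · omega
    · omega
  have hN : Nat.card (Subgroup.normalizer ((Q : Subgroup G) : Set G)) = 55 := by
    have h := (Subgroup.normalizer ((Q : Subgroup G) : Set G)).card_mul_index
    have hi : (Subgroup.normalizer ((Q : Subgroup G) : Set G)).index = 144 :=
      (Sylow.card_eq_index_normalizer Q).symm.trans h11
    rw [hi, hG] at h
    omega
  -- no element of order five commutes with the Sylow subgroup of order eleven
  have hcent : Subgroup.centralizer ((Q : Subgroup G) : Set G) = (Q : Subgroup G) := by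
    have hQab : (Q : Subgroup G) ≤ Subgroup.centralizer ((Q : Subgroup G) : Set G) := fun x hx =>
      Subgroup.mem_centralizer_iff.2 fun y hy => by
        have : IsCyclic (Q : Subgroup G) := isCyclic_of_prime_card hQ
        exact congrArg Subtype.val
          ((IsCyclic.isMulCommutative (α := (Q : Subgroup G))).is_comm.comm ⟨y, hy⟩ ⟨x, hx⟩)
    have hle : Subgroup.centralizer ((Q : Subgroup G) : Set G) ≤
        Subgroup.normalizer ((Q : Subgroup G) : Set G) := CfsgLib.Blocks.centralizer_le_normalizer' _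
    have h1 := Subgroup.card_dvd_of_le hle
    have h2 := Subgroup.card_dvd_of_le hQab
    rw [hN] at h1
    rw [hQ] at h2
    obtain ⟨k, hk⟩ := h2
    rw [hk] at h1
    rcases (Nat.dvd_prime Nat.prime_five).1 (Nat.dvd_of_mul_dvd_mul_left (by norm_num : 0 < 11) h1) with
      rfl | rfl
    · exact (Subgroup.eq_of_le_of_card_ge hQab (by rw [hk, hQ])).symm
    exfalso
    have hNC : Subgroup.normalizer ((Q : Subgroup G) : Set G) ≤
        Subgroup.centralizer ((Q : Subgroup G) : Set G) :=
      (Subgroup.eq_of_le_of_card_ge hle (by rw [hk, hN])).symm.le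
    have hco := MonoidHom.ker_transferSylow_isComplement' Q hNC
    have hK := hco.card_mul
    rw [hQ, hG] at hK
    set K := (MonoidHom.transferSylow Q hNC).ker
    have hn : (7920 : ℕ) / 11 = Nat.card K := by omega
    have hall : ∀ g : G, orderOf g = 5 → g ∈ K := by
      intro g hg
      by_contra hno
      have hd : orderOf (g : G ⧸ K) ∣ 5 := hg ▸ orderOf_map_dvd (QuotientGroup.mk' K) g
      have hd2 : orderOf (g : G ⧸ K) ∣ 11 := by
        have hi : Nat.card (G ⧸ K) = 11 := by
          have := K.card_mul_index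
          rw [hG, show Nat.card K = 720 by omega] at this
          rw [← Subgroup.index_eq_card]
          omega
        exact (orderOf_dvd_natCard _).trans (dvd_of_eq hi)
      have h1 := Nat.eq_one_of_dvd_coprimes (by norm_num : Nat.Coprime 5 11) hd hd2
      rw [orderOf_eq_one_iff, QuotientGroup.eq_one_iff] at h1
      exact hno h1
    have hle2 : Nat.card {g : G // orderOf g = 5} ≤ Nat.card K :=
      Nat.card_le_card_of_injective (fun g => (⟨g.1, hall g.1 g.2⟩ : K))
        fun a b e => Subtype.ext (congrArg (fun x : K => (x : G)) e :)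
    rw [CfsgLib.Perm.card_orderOf_eq_prime P hP, h5] at hle2
    omega
  refine Cfsg.Agent.S2490.result hG ⟨{11}, ⟨11, rfl, by norm_num, by rw [hG]; norm_num⟩,
    ⟨2, by norm_num, Nat.prime_two, by rw [hG]; norm_num⟩, ?_⟩
  intro a ha b hb hap hbp _ _ ⟨g, hg⟩
  rw [Set.mem_singleton_iff] at ha hb
  subst ha
  have hy : orderOf (g ^ b) = 11 := by
    rw [orderOf_pow_of_dvd hbp.ne_zero ⟨11, by rw [hg, mul_comm]⟩, hg, Nat.mul_div_cancel _ hbp.pos]
  obtain ⟨R, hR⟩ := exists_sylow_mem hy
  obtain ⟨d, hd⟩ := MulAction.exists_smul_eq G R Q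
  set g' := d * g * d⁻¹ with hg'
  have hmem : g' ^ b ∈ (Q : Subgroup G) := by
    rw [hg', conj_pow, ← hd, Sylow.coe_subgroup_smul]
    exact Subgroup.smul_mem_pointwise_smul _ (MulAut.conj d) _ hR
  have hQz : (Q : Subgroup G) = Subgroup.zpowers (g' ^ b) :=
    (Subgroup.eq_of_le_of_card_ge (Subgroup.zpowers_le.2 hmem) (by
      rw [hQ, Nat.card_zpowers, hg', conj_pow, CfsgLib.Perm.orderOf_conj_eq, hy])).symm
  have hin : g' ∈ Subgroup.centralizer ((Q : Subgroup G) : Set G) := by
    refine Subgroup.mem_centralizer_iff.2 fun x hx => ?_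
    rw [hQz] at hx
    obtain ⟨i, rfl⟩ := Subgroup.mem_zpowers_iff.1 hx
    exact ((Commute.refl g').pow_left b).zpow_left i |>.eq
  rw [hcent] at hin
  have h3 := Subgroup.orderOf_dvd_natCard _ hin
  rw [hQ, hg', CfsgLib.Perm.orderOf_conj_eq, hg] at h3
  have := Nat.le_of_dvd (by norm_num) h3
  have := hbp.two_le
  omega

end CfsgLib.Blocks.Order7920
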