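import Cfsg.Agent.Lib.Blocks.Order7920.Main
import Cfsg.Agent.Lib.Perm.RationalValue
import Cfsg.Agent.Lib.Char.Real
import Cfsg.Agent.Lib.Char.Central
import Cfsg.Agent.S4429

/-!
# The columns of elements of order five and eleven for a simple group of order 7920
-/

set_option autoImplicit false

namespace CfsgLib.Blocks.Order7920

open Cfsg CfsgLib CfsgLib.Char
open scoped Classical ComplexConjugate

variable {G : Type*} [Group G] [Fintype G] [IsSimpleGroup G]

/-- The ten irreducible characters, labelled by degree. -/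
structure Tbl (G : Type*) [Group G] [Fintype G] where
  t1 : IrrCharacter G
  t2 : IrrCharacter G
  t3 : IrrCharacter G
  e11 : IrrCharacter G
  s1 : IrrCharacter G
  s2 : IrrCharacter G
  f44 : IrrCharacter G
  m45 : IrrCharacter G
  n55 : IrrCharacter G
  d_t1 : deg t1 = 10
  d_t2 : deg t2 = 10
  d_t3 : deg t3 = 10
  d_e11 : deg e11 = 11
  d_s1 : deg s1 = 16
  d_s2 : deg s2 = 16
  d_f44 : deg f44 = 44
  d_m45 : deg m45 = 45
  d_n55 : deg n55 = 55
  ne_s : s1 ≠ s2
  sum_eq : ∀ [Fintype (IrrCharacter G)] (F : IrrCharacter G → ℂ), ∑ χ, F χ =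
    F (trivChar G) + (F t1 + F t2 + F t3) + F e11 + (F s1 + F s2) + F f44 + F m45 + F n55
  only16 : ∀ χ : IrrCharacter G, deg χ = 16 → χ = s1 ∨ χ = s2

variable (hG : Nat.card G = 7920)
include hG

theorem exists_tbl : Nonempty (Tbl G) := by
  have := Fintype.ofFinite (IrrCharacter G)
  obtain ⟨h10, hm⟩ := Cfsg.Agent.S4429.result (G := G) hG
  let F : ℕ → Finset (IrrCharacter G) := fun n => Finset.univ.filter fun χ => deg χ = n
  have hF : ∀ n, (F n).card = if n = 1 ∨ n = 11 ∨ n = 44 ∨ n = 45 ∨ n = 55 then 1 else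
      if n = 10 then 3 else if n = 16 then 2 else 0 := fun n => by
    rw [← hm n, Nat.card_eq_fintype_card, Fintype.card_subtype]
  have hmaps : ∀ χ ∈ (Finset.univ : Finset (IrrCharacter G)),
      deg χ ∈ ({1, 10, 11, 16, 44, 45, 55} : Finset ℕ) := fun χ _ => by
    by_contra hno
    have h0 := hF (deg χ)
    have hmem : χ ∈ F (deg χ) := Finset.mem_filter.2 ⟨Finset.mem_univ _, rfl⟩
    simp only [Finset.mem_insert, Finset.mem_singleton, not_or] at hno
    rw [if_neg (by omega), if_neg (by omega), if_neg (by omega), Finset.card_eq_zero] at h0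
    rw [h0] at hmem
    exact Finset.notMem_empty _ hmem
  obtain ⟨o, ho⟩ := Finset.card_eq_one.1 ((hF 1).trans (by simp))
  obtain ⟨a, b, c, hab, hac, hbc, hT⟩ := Finset.card_eq_three.1 ((hF 10).trans (by simp))
  obtain ⟨e, he⟩ := Finset.card_eq_one.1 ((hF 11).trans (by simp))
  obtain ⟨p, q, hpq, hS⟩ := Finset.card_eq_two.1 ((hF 16).trans (by simp))
  obtain ⟨f, hf⟩ := Finset.card_eq_one.1 ((hF 44).trans (by simp))
  obtain ⟨m, hm'⟩ := Finset.card_eq_one.1 ((hF 45).trans (by simp))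
  obtain ⟨n, hn⟩ := Finset.card_eq_one.1 ((hF 55).trans (by simp))
  have hd : ∀ {k : ℕ} {χ : IrrCharacter G}, χ ∈ F k → deg χ = k := fun h => (Finset.mem_filter.1 h).2
  have hotriv : o = trivChar G := deg_one hG (hd (by rw [ho]; exact Finset.mem_singleton_self o))
  refine ⟨⟨a, b, c, e, p, q, f, m, n, hd (by rw [hT]; simp), hd (by rw [hT]; simp),
    hd (by rw [hT]; simp), hd (by rw [he]; simp), hd (by rw [hS]; simp), hd (by rw [hS]; simp),
    hd (by rw [hf]; simp), hd (by rw [hm']; simp), hd (by rw [hn]; simp), hpq, fun {ft} Φ => ?_,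
    fun χ hχ => ?_⟩⟩
  · have hft : ft = this := Subsingleton.elim _ _
    subst hft
    rw [← Finset.sum_fiberwise_of_maps_to hmaps Φ]
    simp only [Finset.sum_insert, Finset.sum_singleton, Finset.mem_insert, Finset.mem_singleton,
      or_false, or_self, not_false_eq_true, OfNat.one_ne_ofNat, OfNat.ofNat_eq_ofNat,
      Nat.reduceEqDiff]
    show ∑ χ ∈ F 1, Φ χ + (∑ χ ∈ F 10, Φ χ + (∑ χ ∈ F 11, Φ χ + (∑ χ ∈ F 16, Φ χ +
      (∑ χ ∈ F 44, Φ χ + (∑ χ ∈ F 45, Φ χ + ∑ χ ∈ F 55, Φ χ))))) = _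
    rw [ho, hT, he, hS, hf, hm', hn, hotriv]
    rw [Finset.sum_insert (by simp [hab, hac]), Finset.sum_insert (by simp [hbc]),
      Finset.sum_insert (by simp [hpq])]
    simp only [Finset.sum_singleton]
    ring
  · have : χ ∈ F 16 := Finset.mem_filter.2 ⟨Finset.mem_univ _, hχ⟩
    rw [hS] at this
    simpa using this

/-- A character of defect zero vanishes at the singular elements. -/
theorem vanish {p n : ℕ} (hp : p.Prime) (hn : p ^ n ∣ 7920) (hn' : ¬ p ^ (n + 1) ∣ 7920)
    {χ : IrrCharacter G} (hd : p ^ n ∣ deg χ) {x : G} (hx : p ∣ orderOf x) :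
    (χ : G → ℂ) x = 0 := by
  obtain ⟨m, ρ, hρ, hρc'⟩ := χ.2
  have hρc := hρc'.symm
  have := hρ
  rw [hρc]
  exact CfsgLib.Char.character_eq_zero_of_defect_zero
    (fun θ hθ hE => CfsgLib.Brauer.isGeneralizedCharacter_of_elementary hθ hE) ρ (p := p) (n := n)
    hp (hG ▸ hn) (hG ▸ hn') (by rwa [Module.finrank_fin_fun, ← deg_eq_finrank hρc]) hx

omit [IsSimpleGroup G] hG in
theorem exists_sylow_mem {p : ℕ} [Fact p.Prime] {x : G} (hx : orderOf x = p) :
    ∃ P : Sylow p G, x ∈ (P : Subgroup G) := by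
  have hc : Nat.card (Subgroup.zpowers x) = p := by rw [Nat.card_zpowers, hx]
  obtain ⟨P, hP⟩ := (IsPGroup.of_card (n := 1) (by rw [hc, pow_one]) :
    IsPGroup p (Subgroup.zpowers x)).exists_le_sylow
  exact ⟨P, hP (Subgroup.mem_zpowers x)⟩

/-- The column of an element of order five. -/
theorem value_five (T : Tbl G) (χ : IrrCharacter G) {x : G} (hx : orderOf x = 5) :
    (χ : G → ℂ) x = if 5 ∣ deg χ then 0 else if deg χ % 5 = 1 then 1 else -1 := by
  have : Fact (Nat.Prime 5) := ⟨by norm_num⟩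
  obtain ⟨P, hP⟩ := exists_sylow_mem hx
  exact (five_values hG T.d_t1 P).2.2.2.1 χ x hP fun h => by simp [h] at hx

/-- The values at an element of order eleven of the characters not of degree `16`. -/
theorem value_eleven (χ : IrrCharacter G) (hχ : deg χ ≠ 16) {x : G} (hx : orderOf x = 11) :
    (χ : G → ℂ) x = if 11 ∣ deg χ then 0 else if deg χ = 10 then -1 else 1 := by
  have : Fact (Nat.Prime 11) := ⟨by norm_num⟩
  by_cases hd : 11 ∣ deg χ
  · rw [if_pos hd]
    exact vanish hG (p := 11) (n := 1) (by norm_num) (by norm_num) (by norm_num) (by simpa using hd) (by rw [hx])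
  rw [if_neg hd]
  obtain ⟨P, hP⟩ := exists_sylow_mem hx
  obtain ⟨-, -, X, Y, -, hiff, -, -, -, -, -, hval, y, hy, hsol⟩ := eleven_values hG P
  have h12 : (X.filter fun χ => deg χ = 12).card = 0 :=
    Finset.card_eq_zero.2 (Finset.filter_eq_empty_iff.2 fun ψ _ h => by
      obtain ⟨-, hm⟩ := Cfsg.Agent.S4429.result (G := G) hG
      have h0 : Nat.card {χ : IrrCharacter G // charDegree (χ : G → ℂ) = 12} = 0 :=
        (hm 12).trans (by norm_num)
      have : Nonempty {χ : IrrCharacter G // charDegree (χ : G → ℂ) = 12} := ⟨⟨ψ, h⟩⟩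
      exact Nat.card_pos.ne' h0)
  refine hval χ ?_ x hP fun h => by simp [h] at hx
  refine (Finset.mem_union.1 ((hiff χ).1 hd)).resolve_right fun hY => hχ ?_
  rw [hy χ hY, (hsol h12).1]

omit [IsSimpleGroup G] in
omit hG in
theorem deg_cast (χ : IrrCharacter G) : (χ : G → ℂ) 1 = (deg χ : ℂ) := apply_one_eq_charDegree χ

omit [IsSimpleGroup G] in
omit hG in
/-- A value taken on all the powers prime to the order is an integer, congruent to the degree. -/
theorem value_prime {p : ℕ} (hp : p.Prime) {x : G} (hx : orderOf x = p)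
    (hconj : ∀ k : ℕ, ¬ p ∣ k → IsConj (x ^ k) x) (hdvd : p ∣ Nat.card G) (χ : IrrCharacter G) :
    ∃ (v : ℤ) (A : ℕ), (χ : G → ℂ) x = v ∧ (deg χ : ℤ) + ((p : ℤ) - 1) * v = p * A := by
  obtain ⟨n, ρ, hρ, hρc'⟩ := χ.2
  have hρc := hρc'.symm
  have hcl : ∀ k : ℕ, ¬ p ∣ k → ρ.character (x ^ k) = ρ.character x := fun k hk => by
    obtain ⟨c, hc⟩ := isConj_iff.1 (hconj k hk)
    exact (ρ.char_conj (x ^ k) c).symm.trans (congrArg ρ.character hc)
  obtain ⟨v, hv⟩ := CfsgLib.Perm.RationalValue.exists_eq_int (IsIrr.isCharacter χ.2) x fun m hm => by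
    rw [hρc]
    exact hcl m fun h => hp.ne_one (Nat.eq_one_of_dvd_coprimes hm h hdvd)
  obtain ⟨ε, hε, -, hpow, -⟩ := exists_eigenvalues ρ x
  refine ⟨v, (Finset.univ.filter fun i => ε i = 1).card, hv, ?_⟩
  have h1 : ∑ k ∈ Finset.range p, ρ.character (x ^ k) =
      (p : ℂ) * (Finset.univ.filter fun i => ε i = 1).card := by
    simp only [hpow]
    rw [Finset.sum_comm, Finset.sum_congr rfl fun i _ => geom_root (n := p) (z := ε i)
      (by have := hε i; rwa [hx] at this), ← Finset.sum_filter, Finset.sum_const, nsmul_eq_mul,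
      mul_comm]
  have h0 : (0 : ℕ) ∈ Finset.range p := Finset.mem_range.2 hp.pos
  rw [← Finset.add_sum_erase _ _ h0, Finset.sum_congr rfl fun k hk => hcl k fun hd => by
      obtain ⟨hk0, hkp⟩ := Finset.mem_erase.1 hk
      exact hk0 (Nat.eq_zero_of_dvd_of_lt hd (Finset.mem_range.1 hkp)),
    Finset.sum_const, Finset.card_erase_of_mem h0, Finset.card_range, nsmul_eq_mul, pow_zero,
    ← hρc, hv, deg_cast, Nat.cast_sub hp.one_le, Nat.cast_one] at h1
  exact_mod_cast h1

/-- The value at an involution. -/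
theorem value_involution {t : G} (ht : orderOf t = 2) (χ : IrrCharacter G) :
    ∃ k : ℕ, 2 * k ≤ deg χ ∧ (χ : G → ℂ) t = (((deg χ : ℤ) - 4 * k : ℤ) : ℂ) := by
  obtain ⟨n, ρ, hρ, hρc'⟩ := χ.2
  have hρc := hρc'.symm
  obtain ⟨b, ε, hb, hε⟩ := exists_eigenbasis ρ t
  rw [ht] at hε
  have hdeg : deg χ = n := deg_eq_finrank hρc
  set S := Finset.univ.filter fun i => ε i = (-1 : ℂ) with hS
  have hpm : ∀ i, i ∉ S → ε i = 1 := fun i hi => by
    rcases sq_eq_one_iff.1 (hε i) with h | h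
    · exact h
    · exact absurd (show i ∈ S from Finset.mem_filter.2 ⟨Finset.mem_univ i, h⟩) hi
  have hmat : LinearMap.toMatrix b b (ρ t) = Matrix.diagonal ε := by
    ext i j
    rw [LinearMap.toMatrix_apply, hb, map_smul, Finsupp.smul_apply, b.repr_self, Matrix.diagonal]
    simp only [Matrix.of_apply, Finsupp.single_apply]
    split_ifs with h1 h2 <;> simp_all
  have hdet : LinearMap.det (ρ t) = 1 := by
    rw [← CharExt.detHom_apply, hom_eq_one hG (CharExt.detHom ρ)]
    rfl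
  rw [← LinearMap.det_toMatrix b, hmat, Matrix.det_diagonal,
    ← Finset.prod_filter_mul_prod_filter_not Finset.univ (fun i => ε i = (-1 : ℂ)),
    Finset.prod_congr rfl fun i hi => (Finset.mem_filter.1 hi).2, Finset.prod_const,
    Finset.prod_eq_one fun i hi => hpm i fun h => absurd ((Finset.mem_filter.1 h).2)
      (show ¬ ε i = (-1 : ℂ) from (Finset.mem_filter.1 hi).2), mul_one] at hdet
  have heven : Even S.card := (neg_one_pow_eq_one_iff_even (by norm_num)).1 hdet
  obtain ⟨k, hk⟩ := heven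
  have hle := S.card_le_univ
  rw [Fintype.card_fin] at hle
  have hfr : Module.finrank ℂ (Fin n → ℂ) = n := Module.finrank_fin_fun ℂ
  refine ⟨k, by omega, ?_⟩
  rw [hρc, Representation.character, LinearMap.trace_eq_matrix_trace ℂ b, hmat,
    Matrix.trace_diagonal]
  have h2 : ∀ i, ε i = 1 + (if i ∈ S then (-2 : ℂ) else 0) := fun i => by
    split_ifs with h
    · rw [(Finset.mem_filter.1 h).2]; norm_num
    · rw [hpm i h, add_zero]
  rw [Finset.sum_congr rfl fun i _ => h2 i, Finset.sum_add_distrib, Finset.sum_ite_mem,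
    Finset.univ_inter, Finset.sum_const, Finset.sum_const, Finset.card_univ, Fintype.card_fin,
    hk, hfr, hdeg]
  push_cast [nsmul_eq_mul]
  ring

omit [IsSimpleGroup G] hG in
/-- Column orthogonality in the labelled form. -/
theorem Tbl.ortho (T : Tbl G) (g h : G) :
    (trivChar G : G → ℂ) g * conj ((trivChar G : G → ℂ) h) +
      ((T.t1 : G → ℂ) g * conj ((T.t1 : G → ℂ) h) + (T.t2 : G → ℂ) g * conj ((T.t2 : G → ℂ) h) +
        (T.t3 : G → ℂ) g * conj ((T.t3 : G → ℂ) h)) +
      (T.e11 : G → ℂ) g * conj ((T.e11 : G → ℂ) h) +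
      ((T.s1 : G → ℂ) g * conj ((T.s1 : G → ℂ) h) + (T.s2 : G → ℂ) g * conj ((T.s2 : G → ℂ) h)) +
      (T.f44 : G → ℂ) g * conj ((T.f44 : G → ℂ) h) +
      (T.m45 : G → ℂ) g * conj ((T.m45 : G → ℂ) h) +
      (T.n55 : G → ℂ) g * conj ((T.n55 : G → ℂ) h) =
      if IsConj g h then (Nat.card (Subgroup.centralizer ({g} : Set G)) : ℂ) else 0 := by
  have := Fintype.ofFinite (IrrCharacter G)
  rw [← T.sum_eq fun χ => (χ : G → ℂ) g * conj ((χ : G → ℂ) h)]
  exact column_orthogonality g h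

omit hG in
theorem card_centralizer_five (hG : Nat.card G = 7920) (T : Tbl G) {x : G} (hx : orderOf x = 5) :
    Nat.card (Subgroup.centralizer ({x} : Set G)) = 5 := by
  have h := T.ortho x x
  rw [if_pos (IsConj.refl x)] at h
  simp only [value_five hG T _ hx, deg_trivChar, T.d_t1, T.d_t2, T.d_t3, T.d_e11, T.d_s1, T.d_s2,
    T.d_f44, T.d_m45, T.d_n55] at h
  norm_num at h
  rw [Nat.card_eq_fintype_card]
  exact_mod_cast h.symm

end CfsgLib.Blocks.Order7920
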