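import Cfsg.Agent.Lib.Blocks.Order7920.Local

/-!
# The Sylow 3-normaliser of a simple group of order 7920
-/

set_option autoImplicit false

namespace CfsgLib.Blocks.Order7920

open Cfsg CfsgLib CfsgLib.Char
open scoped Classical ComplexConjugate

variable {G : Type*} [Group G] [Fintype G] [IsSimpleGroup G]

omit [Fintype G] [IsSimpleGroup G] in
/-- Nine values congruent to given units, with squares summing to nine. -/
theorem nine_arith {a b c d e f g h i : ℤ} (ha : a % 3 = 1) (hb : b % 3 = 1) (hc : c % 3 = 1)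
    (hd : d % 3 = 2) (he : e % 3 = 1) (hf : f % 3 = 1) (hg : g % 3 = 2) (hh : h % 3 = 1)
    (hi : i = 1) (hsq : 1 + (a ^ 2 + b ^ 2 + c ^ 2) + d ^ 2 + (e ^ 2 + f ^ 2) + g ^ 2 + h ^ 2 = 9) :
    i + d + e + f - g ≠ 0 := by
  have one : ∀ x : ℤ, x % 3 ≠ 0 → 1 ≤ x ^ 2 := fun x hx => by
    rcases (by omega : 1 ≤ x ∨ x ≤ -1) with h | h <;> nlinarith only [h]
  have := one a (by omega)
  have := one b (by omega)
  have := one c (by omega)
  have := one d (by omega)
  have := one e (by omega)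
  have := one f (by omega)
  have := one g (by omega)
  have := one h (by omega)
  have unit : ∀ x : ℤ, x ^ 2 = 1 → x = 1 ∨ x = -1 := fun x hx => sq_eq_one_iff.1 hx
  rcases unit d (by linarith) with h1 | h1 <;> rcases unit e (by linarith) with h2 | h2 <;>
    rcases unit f (by linarith) with h3 | h3 <;> rcases unit g (by linarith) with h4 | h4 <;> omega

variable (hG : Nat.card G = 7920)
include hG

/-- A real element of order three has a centraliser of order other than `9`. -/
theorem card_centralizer_three_ne (T : Tbl G) {u : G} (hu : orderOf u = 3) (hreal : IsConj (u ^ 2) u) :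
    Nat.card (Subgroup.centralizer ({u} : Set G)) ≠ 9 := by
  intro hC
  have hconj : ∀ k : ℕ, ¬ 3 ∣ k → IsConj (u ^ k) u := fun k hk => by
    rw [← pow_mod_orderOf, hu]
    rcases (by omega : k % 3 = 1 ∨ k % 3 = 2) with h | h <;> rw [h]
    · rw [pow_one]
    · exact hreal
  have hdvd : 3 ∣ Nat.card G := by rw [hG]; norm_num
  have hval := fun χ : IrrCharacter G => value_prime Nat.prime_three hu hconj hdvd χ
  obtain ⟨va, Aa, ea, ma⟩ := hval T.t1
  obtain ⟨vb, Ab, eb, mb⟩ := hval T.t2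
  obtain ⟨vc, Ac, ec, mc⟩ := hval T.t3
  obtain ⟨vd, Ad, ed, md⟩ := hval T.e11
  obtain ⟨ve, Ae, ee, me⟩ := hval T.s1
  obtain ⟨vf, Af, ef, mf⟩ := hval T.s2
  obtain ⟨vg, Ag, eg, mg⟩ := hval T.f44
  obtain ⟨vh, Ah, eh, mh⟩ := hval T.n55
  have hm : (T.m45 : G → ℂ) u = 0 :=
    vanish hG (p := 3) (n := 2) Nat.prime_three (by norm_num) (by norm_num)
      (by norm_num [T.d_m45]) (by rw [hu])
  obtain ⟨h, hh⟩ : ∃ h : G, orderOf h = 5 := by
    have : Fact (Nat.Prime 5) := ⟨Nat.prime_five⟩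
    exact exists_prime_orderOf_dvd_card' 5 (by rw [hG]; norm_num)
  have hne : ¬ IsConj u h := fun hc => by
    obtain ⟨c, rfl⟩ := isConj_iff.1 hc
    rw [orderOf_conj_eq', hu] at hh
    omega
  have eC := T.ortho u u
  rw [if_pos (IsConj.refl u), hC] at eC
  simp only [trivChar_apply, ea, eb, ec, ed, ee, ef, eg, eh, hm, map_intCast, map_one, map_zero,
    one_mul, mul_zero, add_zero] at eC
  have e5 := T.ortho u h
  rw [if_neg hne] at e5
  simp only [value_five hG T _ hh, T.d_t1, T.d_t2, T.d_t3, T.d_e11, T.d_s1, T.d_s2, T.d_f44, T.d_m45,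
    T.d_n55, trivChar_apply, deg_trivChar, ea, eb, ec, ed, ee, ef, eg, eh, hm] at e5
  norm_num at e5
  have hsq : 1 + (va ^ 2 + vb ^ 2 + vc ^ 2) + vd ^ 2 + (ve ^ 2 + vf ^ 2) + vg ^ 2 + vh ^ 2 = 9 := by
    apply Int.cast_injective (α := ℂ)
    push_cast at eC ⊢
    linear_combination eC
  have h5 : 1 + vd + ve + vf - vg = 0 := by
    apply Int.cast_injective (α := ℂ)
    push_cast at e5 ⊢
    linear_combination e5
  simp only [T.d_t1, T.d_t2, T.d_t3, T.d_e11, T.d_s1, T.d_s2, T.d_f44, T.d_n55] at ma mb mc md me mf mg mh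
  exact nine_arith (a := va) (b := vb) (c := vc) (d := vd) (e := ve) (f := vf) (g := vg) (h := vh)
    (i := 1) (by omega) (by omega) (by omega) (by omega) (by omega) (by omega) (by omega) (by omega)
    rfl hsq h5

omit [IsSimpleGroup G] in
theorem card_sylow_three (P : Sylow 3 G) : Nat.card (P : Subgroup G) = 9 := by
  rw [P.card_eq_multiplicity, hG, show (7920 : ℕ) = 3 ^ 2 * 880 by norm_num,
    Nat.factorization_mul (by norm_num) (by norm_num), Finsupp.add_apply,
    Nat.Prime.factorization_pow Nat.prime_three, Finsupp.single_eq_same,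
    Nat.factorization_eq_zero_of_not_dvd (by norm_num : ¬ 3 ∣ 880)]
  norm_num

/-- A subgroup of order nine centralises only itself among the Sylow `3`-centralisers. -/
theorem centralizer_sylow_three (T : Tbl G) (P : Sylow 3 G) :
    Subgroup.centralizer ((P : Subgroup G) : Set G) = (P : Subgroup G) := by
  have hP9 := card_sylow_three hG P
  have hab := IsPGroup.commutative_of_card_eq_prime_sq (p := 3) (G := (P : Subgroup G)) (by rw [hP9]; norm_num)
  have hle : (P : Subgroup G) ≤ Subgroup.centralizer ((P : Subgroup G) : Set G) := fun x hx =>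
    Subgroup.mem_centralizer_iff.2 fun y hy => congrArg Subtype.val (hab ⟨y, hy⟩ ⟨x, hx⟩)
  refine (Subgroup.eq_of_le_of_card_ge hle ?_).symm
  have key : ∀ p : ℕ, p.Prime → (∀ y : G, orderOf y = p →
      ¬ 9 ∣ Nat.card (Subgroup.centralizer ({y} : Set G))) →
      ¬ p ∣ Nat.card (Subgroup.centralizer ((P : Subgroup G) : Set G)) := by
    intro p hp hC hd
    have := Fact.mk hp
    obtain ⟨y, hy, hyo⟩ := exists_mem_orderOf hG _ hd
    refine hC y hyo (hP9 ▸ Subgroup.card_dvd_of_le fun x hx => ?_)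
    exact Subgroup.mem_centralizer_singleton_iff.2 (Subgroup.mem_centralizer_iff.1 hy x hx)
  have h2 := key 2 Nat.prime_two fun y hy => by rw [card_centralizer_involution hG hy]; norm_num
  have h5 := key 5 Nat.prime_five fun y hy => by rw [card_centralizer_five hG T hy]; norm_num
  have h11 := key 11 (by norm_num) fun y hy => by rw [card_centralizer_eleven hG hy]; norm_num
  have hd : Nat.card (Subgroup.centralizer ((P : Subgroup G) : Set G)) ∣ 9 * (2 ^ 4 * (5 * 11)) := by
    have := Subgroup.card_subgroup_dvd_card (Subgroup.centralizer ((P : Subgroup G) : Set G))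
    rwa [hG] at this
  have hco : (Nat.card (Subgroup.centralizer ((P : Subgroup G) : Set G))).Coprime (2 ^ 4 * (5 * 11)) :=
    Nat.Coprime.mul_right (((Nat.prime_two.coprime_iff_not_dvd.2 h2).symm).pow_right 4)
      (Nat.Coprime.mul_right (Nat.prime_five.coprime_iff_not_dvd.2 h5).symm
        ((by norm_num : Nat.Prime 11).coprime_iff_not_dvd.2 h11).symm)
  rw [hP9]
  exact Nat.le_of_dvd (by norm_num) (hco.dvd_of_dvd_mul_right hd)

/-- An element of order three commuting with an involution generates a conjugate of any other such. -/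
theorem isConj_three {x y : G} (hx : orderOf x = 3) (hy : orderOf y = 3)
    (hxe : 2 ∣ Nat.card (Subgroup.centralizer ({x} : Set G)))
    (hye : 2 ∣ Nat.card (Subgroup.centralizer ({y} : Set G))) :
    IsConj x y ∨ IsConj x y⁻¹ := by
  have : Fact (Nat.Prime 3) := ⟨Nat.prime_three⟩
  obtain ⟨s, hs, hso⟩ := exists_mem_orderOf hG _ hxe
  obtain ⟨t, ht, hto⟩ := exists_mem_orderOf hG _ hye
  obtain ⟨c, hc⟩ := isConj_iff.1 (isConj_involution hG hso hto)
  set C := Subgroup.centralizer ({t} : Set G) with hCdef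
  have hC : Nat.card C = 48 := card_centralizer_involution hG hto
  have hx' : c * x * c⁻¹ ∈ C := by
    rw [hCdef, Subgroup.mem_centralizer_singleton_iff, ← hc, ← MulAut.conj_apply, ← MulAut.conj_apply,
      ← map_mul, ← map_mul, (Subgroup.mem_centralizer_singleton_iff.1 hs).symm]
  have hy' : y ∈ C := by
    rw [hCdef, Subgroup.mem_centralizer_singleton_iff]
    exact (Subgroup.mem_centralizer_singleton_iff.1 ht).symm
  let X : C := ⟨c * x * c⁻¹, hx'⟩
  let Y : C := ⟨y, hy'⟩
  have hXo : orderOf X = 3 := by rw [← Subgroup.orderOf_coe, orderOf_conj_eq', hx]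
  have hYo : orderOf Y = 3 := by rw [← Subgroup.orderOf_coe, hy]
  have hsyl : ∀ Z : C, orderOf Z = 3 → ∃ S : Sylow 3 C, (S : Subgroup C) = Subgroup.zpowers Z := by
    intro Z hZ
    refine ⟨Sylow.ofCard (Subgroup.zpowers Z) ?_, rfl⟩
    rw [Nat.card_zpowers, hZ, hC, show (48 : ℕ) = 3 ^ 1 * 16 by norm_num,
      Nat.factorization_mul (by norm_num) (by norm_num), Finsupp.add_apply,
      Nat.Prime.factorization_pow Nat.prime_three, Finsupp.single_eq_same,
      Nat.factorization_eq_zero_of_not_dvd (by norm_num : ¬ 3 ∣ 16)]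
    norm_num
  obtain ⟨S, hS⟩ := hsyl X hXo
  obtain ⟨R, hR⟩ := hsyl Y hYo
  obtain ⟨d, hd⟩ := MulAction.exists_smul_eq C S R
  have hmem : d * X * d⁻¹ ∈ Subgroup.zpowers Y := by
    rw [← hR, ← hd, Sylow.coe_subgroup_smul, hS]
    exact Subgroup.smul_mem_pointwise_smul X (MulAut.conj d) _ (Subgroup.mem_zpowers X)
  obtain ⟨k, hk⟩ := (mem_zpowers_iff_mem_range_orderOf.1 hmem : _) |> fun h => Finset.mem_image.1 h
  obtain ⟨hk3, hk⟩ := hk
  rw [hYo, Finset.mem_range] at hk3
  have e : ((d : G) * c) * x * ((d : G) * c)⁻¹ = y ^ k := by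
    have := congrArg Subtype.val hk
    simp only [X, Y, Subgroup.coe_mul, Subgroup.coe_inv, SubmonoidClass.coe_pow] at this
    rw [this]
    group
  have hy3 : y ^ 3 = 1 := by rw [← hy]; exact pow_orderOf_eq_one y
  interval_cases k
  · exfalso
    rw [pow_zero, conj_eq_one_iff] at e
    rw [e, orderOf_one] at hx
    omega
  · exact Or.inl (isConj_iff.2 ⟨_, e.trans (pow_one y)⟩)
  · exact Or.inr (isConj_iff.2 ⟨_, e.trans (eq_inv_of_mul_eq_one_left (by rw [← pow_succ, hy3]))⟩)

omit [Fintype G] [IsSimpleGroup G] hG in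
/-- An element of square one fixes or inverts a nontrivial element of an abelian group it
normalises. -/
theorem exists_fix_or_invert {P : Subgroup G} (hab : ∀ a b : P, a * b = b * a) {φ : G}
    (hφ : φ * φ = 1) (hN : φ ∈ Subgroup.normalizer (P : Set G)) {x : G} (hx : x ∈ P) (hx1 : x ≠ 1) :
    ∃ y ∈ P, y ≠ 1 ∧ (φ * y * φ⁻¹ = y ∨ φ * y * φ⁻¹ = y⁻¹) := by
  have hinv : φ⁻¹ = φ := inv_eq_of_mul_eq_one_left hφ
  have hx' : φ * x * φ⁻¹ ∈ P := (Subgroup.mem_normalizer_iff.1 hN x).1 hx
  by_cases h : x * (φ * x * φ⁻¹) = 1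
  · exact ⟨x, hx, hx1, Or.inr (eq_inv_of_mul_eq_one_right h)⟩
  · refine ⟨_, P.mul_mem hx hx', h, Or.inl ?_⟩
    have hcc : x * (φ * x * φ⁻¹) = (φ * x * φ⁻¹) * x := congrArg Subtype.val (hab ⟨x, hx⟩ ⟨_, hx'⟩)
    have hs : φ * (φ * x * φ⁻¹) * φ⁻¹ = x := by
      rw [hinv]; simp [← mul_assoc, hφ, mul_assoc x φ φ]
    conv_lhs => rw [← MulAut.conj_apply, map_mul, MulAut.conj_apply, MulAut.conj_apply, hs, ← hcc]

/-- A subgroup of order nine with a group of order thirty-six normalising it is impossible. -/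
theorem normalizer_three_ne_36 (T : Tbl G) (P : Sylow 3 G) :
    Nat.card (Subgroup.normalizer ((P : Subgroup G) : Set G)) ≠ 36 := by
  intro hN
  have : Fact (Nat.Prime 3) := ⟨Nat.prime_three⟩
  have : Fact (Nat.Prime 2) := ⟨Nat.prime_two⟩
  have hP9 := card_sylow_three hG P
  have hCP := centralizer_sylow_three hG T P
  set Q := (P : Subgroup G) with hQ
  set N := Subgroup.normalizer (Q : Set G) with hNdef
  have hab := IsPGroup.commutative_of_card_eq_prime_sq (p := 3) (G := Q) (by rw [hP9]; norm_num)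
  obtain ⟨φ, hφN, hφo⟩ := exists_mem_orderOf hG N (by rw [hN]; norm_num : 2 ∣ Nat.card N)
  have hφ2 : φ * φ = 1 := by rw [← pow_two, ← hφo]; exact pow_orderOf_eq_one φ
  have hQ0 : ∃ x ∈ Q, x ≠ 1 := by
    have : Nontrivial Q := Finite.one_lt_card_iff_nontrivial.1 (by rw [hP9]; norm_num)
    obtain ⟨x, hx⟩ := exists_ne (1 : Q)
    exact ⟨x, x.2, fun h => hx (Subtype.ext h)⟩
  by_cases hcyc : IsCyclic Q
  · have hker : Q.normalizerMonoidHom.ker = Q.subgroupOf N := by
      rw [Subgroup.normalizerMonoidHom_ker, hCP]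
    have h1 : Q.normalizerMonoidHom.ker.index ∣ Nat.card (MulAut Q) := by
      rw [Subgroup.index_ker]
      exact Subgroup.card_subgroup_dvd_card _
    rw [hker, IsCyclic.card_mulAut, hP9, show Nat.totient 9 = 6 by decide] at h1
    have h2 := (Q.subgroupOf N).card_mul_index
    rw [Nat.card_congr (Subgroup.subgroupOfEquivOfLe Subgroup.le_normalizer).toEquiv, hP9, hN] at h2
    have : (Q.subgroupOf N).index = 4 := by omega
    rw [this] at h1
    norm_num at h1
  have hord : ∀ x ∈ Q, x ≠ 1 → orderOf x = 3 := by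
    intro x hx hx1
    have hd : orderOf x ∣ 3 ^ 2 := by
      rw [show 3 ^ 2 = Nat.card Q by rw [hP9]; norm_num]
      exact Subgroup.orderOf_dvd_natCard _ hx
    obtain ⟨k, hk, hxk⟩ := (Nat.dvd_prime_pow Nat.prime_three).1 hd
    interval_cases k
    · exact absurd (orderOf_eq_one_iff.1 hxk) hx1
    · exact hxk
    · exact absurd (isCyclic_of_orderOf_eq_card (⟨x, hx⟩ : Q)
        (by rw [Subgroup.orderOf_mk, hxk, hP9]; norm_num)) hcyc
  have hodd : ∀ x ∈ Q, x ≠ 1 → ¬ 2 ∣ Nat.card (Subgroup.centralizer ({x} : Set G)) →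
      Nat.card (Subgroup.centralizer ({x} : Set G)) = 9 := by
    intro x hx hx1 h2
    have h144 : Nat.card (Subgroup.centralizer ({x} : Set G)) ∣ 9 * 2 ^ 4 :=
      centralizer_dvd_144 hG T hx1 (by rw [hord x hx hx1]; norm_num) (by rw [hord x hx hx1]; norm_num)
    have h9 : 9 ∣ Nat.card (Subgroup.centralizer ({x} : Set G)) :=
      hP9 ▸ Subgroup.card_dvd_of_le fun y hy => Subgroup.mem_centralizer_singleton_iff.2
        (congrArg Subtype.val (hab ⟨y, hy⟩ ⟨x, hx⟩))
    exact Nat.dvd_antisymm (((Nat.prime_two.coprime_iff_not_dvd.2 h2).symm.pow_right 4).dvd_of_dvd_mul_right h144) h9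
  let act : MulAction N G :=
    MulAction.compHom G ((ConjAct.toConjAct : G ≃* ConjAct G).toMonoidHom.comp N.subtype)
  have hsmul : ∀ (g : N) (x : G), g • x = (g : G) * x * (g : G)⁻¹ := fun g x => rfl
  set X := (Finset.univ.filter fun x => x ∈ Q).erase 1 with hXdef
  have hXc : X.card = 8 := by
    rw [hXdef, Finset.card_erase_of_mem (by simp [Q.one_mem]), show
      (Finset.univ.filter fun x => x ∈ Q).card = 9 by rw [← hP9, Nat.card_eq_fintype_card, Fintype.card_subtype]]
  have hmemX : ∀ y, y ∈ X ↔ y ∈ Q ∧ y ≠ 1 := fun y => by simp [hXdef, and_comm]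
  let O : G → Finset G := fun x => Finset.univ.filter fun y => y ∈ MulAction.orbit N x
  have hOX : ∀ x ∈ Q, x ≠ 1 → ∀ y ∈ O x, y ∈ X := by
    intro x hx hx1 y hy
    obtain ⟨g, rfl⟩ := (Finset.mem_filter.1 hy).2
    show (fun m : N => m • x) g ∈ X
    rw [hmemX]
    simp only [hsmul]
    exact ⟨(Subgroup.mem_normalizer_iff.1 g.2 x).1 hx, fun h => hx1 (conj_eq_one_iff.1 h)⟩
  have hstab : ∀ x ∈ Q, (O x).card * Nat.card (MulAction.stabilizer N x) = 36 ∧
      9 ∣ Nat.card (MulAction.stabilizer N x) := by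
    intro x hx
    refine ⟨?_, ?_⟩
    · have h := (MulAction.stabilizer N x).card_mul_index
      rw [MulAction.index_stabilizer, hN] at h
      rw [mul_comm, ← h]
      congr 1
      rw [← Set.ncard_coe_finset]
      congr 1
      ext y
      simp [O]
    · rw [← hP9, ← Nat.card_congr (Subgroup.subgroupOfEquivOfLe Subgroup.le_normalizer).toEquiv]
      exact Subgroup.card_dvd_of_le fun g hg => MulAction.mem_stabilizer_iff.2 (by
        rw [hsmul, show (g : G) * x = x * g from congrArg Subtype.val (hab ⟨g, hg⟩ ⟨x, hx⟩),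
          mul_inv_cancel_right])
  have hInv : ∀ x, ((O x).image fun y => y⁻¹).card = (O x).card :=
    fun x => Finset.card_image_of_injective _ inv_injective
  have hmemO : ∀ x y, y ∈ O x ↔ ∃ g : N, (g : G) * x * (g : G)⁻¹ = y := fun x y => by
    simp only [O, Finset.mem_filter, Finset.mem_univ, true_and, MulAction.mem_orbit_iff, hsmul]
  have hneg : ∀ x, x⁻¹ ∉ O x → Disjoint (O x) ((O x).image fun z => z⁻¹) := by
    intro x hno
    rw [Finset.disjoint_left]
    intro z hz hz'
    obtain ⟨w, hw, rfl⟩ := Finset.mem_image.1 hz'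
    obtain ⟨g, rfl⟩ := (hmemO x w).1 hw
    obtain ⟨g', hg'⟩ := (hmemO x _).1 hz
    refine hno ((hmemO x _).2 ⟨g⁻¹ * g', ?_⟩)
    simp only [Subgroup.coe_mul, Subgroup.coe_inv, mul_inv_rev, inv_inv]
    rw [show (g : G)⁻¹ * g' * x * ((g' : G)⁻¹ * g) = (g : G)⁻¹ * (g' * x * (g' : G)⁻¹) * g by group,
      hg']
    group
  have hfull : ∀ x ∈ Q, x ≠ 1 → (O x).card = 4 → x⁻¹ ∉ O x →
      ∀ y ∈ X, y ∈ O x ∨ y ∈ (O x).image fun z => z⁻¹ := by
    intro x hx hx1 h4 hno y hy
    rw [← Finset.mem_union]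
    suffices hU : O x ∪ (O x).image (fun z => z⁻¹) = X by rw [hU]; exact hy
    refine Finset.eq_of_subset_of_card_le (fun z hz => ?_) ?_
    · rcases Finset.mem_union.1 hz with h | h
      · exact hOX x hx hx1 z h
      · obtain ⟨w, hw, rfl⟩ := Finset.mem_image.1 h
        have := (hmemX w).1 (hOX x hx hx1 w hw)
        exact (hmemX _).2 ⟨Q.inv_mem this.1, by simpa using this.2⟩
    · rw [Finset.card_union_of_disjoint (hneg x hno), hInv, h4, hXc]
  have kodd : ∀ x ∈ Q, x ≠ 1 → ¬ 2 ∣ Nat.card (Subgroup.centralizer ({x} : Set G)) →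
      Nat.card (MulAction.stabilizer N x) = 9 ∧ x⁻¹ ∉ O x ∧
      ∀ y ∈ X, y ∈ O x ∨ y ∈ (O x).image fun z => z⁻¹ := by
    intro x hx hx1 hev
    obtain ⟨hmul, h9⟩ := hstab x hx
    have hst : Nat.card (MulAction.stabilizer N x) = 9 := by
      refine Nat.dvd_antisymm ?_ h9
      rw [← hodd x hx hx1 hev, ← Subgroup.card_map_of_injective (f := N.subtype) Subtype.val_injective]
      refine Subgroup.card_dvd_of_le fun g hg => ?_
      obtain ⟨g, hg', rfl⟩ := Subgroup.mem_map.1 hg
      rw [MulAction.mem_stabilizer_iff, hsmul, mul_inv_eq_iff_eq_mul] at hg'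
      exact Subgroup.mem_centralizer_singleton_iff.2 hg'
    rw [hst] at hmul
    have hno : x⁻¹ ∉ O x := fun hin => by
      obtain ⟨g, hg⟩ := (hmemO x _).1 hin
      refine card_centralizer_three_ne hG T (hord x hx hx1) ?_ (hodd x hx hx1 hev)
      refine (isConj_iff.2 ⟨(g : G), ?_⟩ : IsConj x (x ^ 2)).symm
      refine hg.trans (inv_eq_of_mul_eq_one_left ?_)
      rw [← pow_succ, show 2 + 1 = 3 from rfl, ← hord x hx hx1]
      exact pow_orderOf_eq_one x
    exact ⟨hst, hno, hfull x hx hx1 (by omega) hno⟩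
  have hcj : ∀ (g v : G), Nat.card (Subgroup.centralizer ({g * v * g⁻¹} : Set G)) =
      Nat.card (Subgroup.centralizer ({v} : Set G)) := by
    intro g v
    refine (Nat.card_congr ((MulAut.conj g).toEquiv.subtypeEquiv fun a => ?_)).symm
    simp only [Subgroup.mem_centralizer_singleton_iff, MulEquiv.toEquiv_eq_coe,
      EquivLike.coe_coe, MulAut.conj_apply]
    rw [show g * a * g⁻¹ * (g * v * g⁻¹) = g * (a * v) * g⁻¹ by group,
      show g * v * g⁻¹ * (g * a * g⁻¹) = g * (v * a) * g⁻¹ by group]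
    exact ⟨fun h => by rw [h], fun h => mul_left_cancel (mul_right_cancel h)⟩
  have hci : ∀ v : G, Subgroup.centralizer ({v⁻¹} : Set G) = Subgroup.centralizer ({v} : Set G) := by
    intro v
    ext a
    simp only [Subgroup.mem_centralizer_singleton_iff]
    exact ⟨fun h => inv_inv v ▸ (Commute.inv_right (show Commute a v⁻¹ from h)).eq,
      fun h => (Commute.inv_right (show Commute a v from h)).eq⟩
  have key : ∀ x ∈ Q, x ≠ 1 → Nat.card (MulAction.stabilizer N x) = 9 ∧ x⁻¹ ∉ O x ∧
      ∀ y ∈ X, y ∈ O x ∨ y ∈ (O x).image fun z => z⁻¹ := by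
    intro x hx hx1
    by_cases hev : 2 ∣ Nat.card (Subgroup.centralizer ({x} : Set G))
    swap
    · exact kodd x hx hx1 hev
    by_cases hall : ∀ y ∈ Q, y ≠ 1 → 2 ∣ Nat.card (Subgroup.centralizer ({y} : Set G))
    swap
    · exfalso
      push Not at hall
      obtain ⟨z, hz, hz1, hzodd⟩ := hall
      obtain ⟨-, -, hzfull⟩ := kodd z hz hz1 hzodd
      have hcard : Nat.card (Subgroup.centralizer ({x} : Set G)) = 9 := by
        rcases hzfull x ((hmemX x).2 ⟨hx, hx1⟩) with h | h
        · obtain ⟨g, rfl⟩ := (hmemO z x).1 h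
          rw [hcj]; exact hodd z hz hz1 hzodd
        · obtain ⟨w, hw, hwx⟩ := Finset.mem_image.1 h
          obtain ⟨g, rfl⟩ := (hmemO z w).1 hw
          rw [← hwx, hci, hcj]; exact hodd z hz hz1 hzodd
      rw [hcard] at hev
      norm_num at hev
    obtain ⟨hmul, h9⟩ := hstab x hx
    have : IsMulCommutative Q := ⟨⟨hab⟩⟩
    have hfus : ∀ w ∈ Q, IsConj x w → w ∈ O x := by
      intro w hw hc
      obtain ⟨c, hc⟩ := isConj_iff.1 hc
      obtain ⟨n, hn, hn'⟩ := P.conj_eq_normalizer_conj_of_mem x c⁻¹ hx (by rwa [inv_inv, hc])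
      refine (hmemO x w).2 ⟨⟨n⁻¹, N.inv_mem hn⟩, ?_⟩
      rw [inv_inv, ← hn', inv_inv, hc]
    have hsub : X ⊆ O x ∪ (O x).image (fun z => z⁻¹) := by
      intro y hy
      obtain ⟨hy0, hy1⟩ := (hmemX y).1 hy
      rcases isConj_three hG (hord x hx hx1) (hord y hy0 hy1) hev (hall y hy0 hy1) with h | h
      · exact Finset.mem_union_left _ (hfus y hy0 h)
      · exact Finset.mem_union_right _
          (Finset.mem_image.2 ⟨y⁻¹, hfus _ (Q.inv_mem hy0) h, inv_inv y⟩)
    have h8 := Finset.card_le_card hsub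
    have hle := Finset.card_union_le (O x) ((O x).image fun z => z⁻¹)
    rw [hInv] at hle
    rw [hXc] at h8
    obtain ⟨k, hk⟩ := h9
    rw [hk] at hmul ⊢
    have hk4 : (O x).card * k = 4 := by nlinarith only [hmul]
    have hkd : k ∣ 4 := Dvd.intro_left _ hk4
    have hk1 : k = 1 := by
      have := Nat.le_of_dvd (by norm_num) hkd
      interval_cases k <;> omega
    subst hk1
    have hno : x⁻¹ ∉ O x := fun hin => by
      obtain ⟨g, hg⟩ := (hmemO x _).1 hin
      have hsub2 : X ⊆ O x := fun y hy => by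
        rcases Finset.mem_union.1 (hsub hy) with h | h
        · exact h
        · obtain ⟨w, hw, rfl⟩ := Finset.mem_image.1 h
          obtain ⟨g', rfl⟩ := (hmemO x w).1 hw
          refine (hmemO x _).2 ⟨g' * g, ?_⟩
          simp only [Subgroup.coe_mul, mul_inv_rev]
          rw [show (g' : G) * g * x * ((g : G)⁻¹ * (g' : G)⁻¹) = g' * (g * x * (g : G)⁻¹) * (g' : G)⁻¹ by
            group, hg]
          group
      have := Finset.card_le_card hsub2
      omega
    exact ⟨rfl, hno, hfull x hx hx1 (by omega) hno⟩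
  obtain ⟨x₀, hx₀, hx₀1⟩ := hQ0
  obtain ⟨y, hy, hy1, hcase⟩ := exists_fix_or_invert hab hφ2 hφN hx₀ hx₀1
  obtain ⟨h9, hno, -⟩ := key y hy hy1
  rcases hcase with hfix | hinv
  · have hmem : (⟨φ, hφN⟩ : N) ∈ MulAction.stabilizer N y :=
      MulAction.mem_stabilizer_iff.2 (by rw [hsmul]; exact hfix)
    have := Subgroup.orderOf_dvd_natCard _ hmem
    rw [Subgroup.orderOf_mk, hφo, h9] at this
    norm_num at this
  · exact hno (Finset.mem_filter.2 ⟨Finset.mem_univ _, ⟨φ, hφN⟩, by
      show (⟨φ, hφN⟩ : N) • y = y⁻¹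
      rw [hsmul]; exact hinv⟩)

/-- Sylow `3`-normalisers have order `144`. -/
theorem card_normalizer_three (P : Sylow 3 G) :
    Nat.card (Subgroup.normalizer ((P : Subgroup G) : Set G)) = 144 := by
  have : Fact (Nat.Prime 3) := ⟨Nat.prime_three⟩
  obtain ⟨T⟩ := exists_tbl hG
  have hP9 := card_sylow_three hG P
  have hCP := centralizer_sylow_three hG T P
  set Q := (P : Subgroup G) with hQ
  set N := Subgroup.normalizer (Q : Set G) with hNdef
  obtain ⟨hmod, hmul⟩ := sylow_count P
  rw [hG] at hmul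
  have h9 : 9 ∣ Nat.card N := hP9 ▸ Subgroup.card_dvd_of_le Subgroup.le_normalizer
  obtain ⟨m, hm⟩ := h9
  rw [hm] at hmul
  have hnm : Nat.card (Sylow 3 G) * m = 880 := by nlinarith only [hmul]
  have key : ∀ p : ℕ, p.Prime → p = 5 ∨ p = 11 →
      (∀ y : G, orderOf y = p → Nat.card (Subgroup.centralizer ({y} : Set G)) = p) →
      ¬ p ∣ Nat.card N := by
    intro p hp hpc hC hd
    have := Fact.mk hp
    obtain ⟨y, hy, hyo⟩ := exists_mem_orderOf hG N hd
    let S := Subgroup.zpowers y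
    let act : MulAction S Q := MulAction.compHom Q
      ((Subgroup.normalizerMonoidHom Q).comp (Subgroup.inclusion (Subgroup.zpowers_le.2 hy)))
    have hS : IsPGroup p S := IsPGroup.of_card (n := 1) (by rw [Nat.card_zpowers, hyo, pow_one])
    have hfp := hS.card_modEq_card_fixedPoints (α := Q)
    rw [hP9] at hfp
    have hone : Nat.card (MulAction.fixedPoints S Q) ≤ 1 := by
      rw [Finite.card_le_one_iff_subsingleton]
      refine ⟨fun a b => ?_⟩
      suffices h : ∀ a : MulAction.fixedPoints S Q, ((a : Q) : G) = 1 from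
        Subtype.ext (Subtype.ext ((h a).trans (h b).symm))
      intro a
      by_contra ha
      have hfix : y * ((a : Q) : G) * y⁻¹ = ((a : Q) : G) :=
        congrArg Subtype.val (a.2 ⟨y, Subgroup.mem_zpowers y⟩)
      have hmem : ((a : Q) : G) ∈ Subgroup.centralizer ({y} : Set G) :=
        Subgroup.mem_centralizer_singleton_iff.2 (mul_inv_eq_iff_eq_mul.1 hfix).symm
      have h1 := Subgroup.orderOf_dvd_natCard _ hmem
      rw [hC y hyo] at h1
      have h2 := Subgroup.orderOf_dvd_natCard _ ((a : Q).2)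
      rw [hP9] at h2
      refine ha (orderOf_eq_one_iff.1 (Nat.eq_one_of_dvd_coprimes ?_ h1 h2))
      rcases hpc with rfl | rfl <;> norm_num
    unfold Nat.ModEq at hfp
    rcases hpc with rfl | rfl <;> omega
  have hm5 : ¬ 5 ∣ m := fun h => key 5 Nat.prime_five (Or.inl rfl)
    (fun y hy => card_centralizer_five hG T hy) (hm ▸ h.mul_left 9)
  have hm11 : ¬ 11 ∣ m := fun h => key 11 (by norm_num) (Or.inr rfl)
    (fun y hy => card_centralizer_eleven hG hy) (hm ▸ h.mul_left 9)
  have hmd : m ∣ 2 ^ 4 := by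
    refine (Nat.Coprime.mul_right (Nat.prime_five.coprime_iff_not_dvd.2 hm5).symm
      ((by norm_num : Nat.Prime 11).coprime_iff_not_dvd.2 hm11).symm).dvd_of_dvd_mul_right
      (?_ : m ∣ 2 ^ 4 * (5 * 11))
    exact Dvd.intro_left _ hnm
  obtain ⟨k, hk, rfl⟩ := (Nat.dvd_prime_pow Nat.prime_two).1 hmd
  interval_cases k
  · exfalso
    have hNQ : N ≤ Subgroup.centralizer (Q : Set G) := by
      rw [hCP]
      exact le_of_eq (Subgroup.eq_of_le_of_card_ge Subgroup.le_normalizer
        (by rw [hm, hP9]; norm_num)).symm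
    have hco := MonoidHom.ker_transferSylow_isComplement' P hNQ
    have hc := hco.card_mul
    rw [show Nat.card ↥(P : Subgroup G) = 9 from hP9, hG] at hc
    rcases Subgroup.Normal.eq_bot_or_eq_top
      (inferInstance : (MonoidHom.transferSylow P hNQ).ker.Normal) with h | h <;> rw [h] at hc <;>
      (simp only [Subgroup.card_bot, Subgroup.card_top, hG] at hc; norm_num at hc)
  · omega
  · exact absurd (hm.trans (by norm_num)) (normalizer_three_ne_36 hG T P)
  · omega
  · rw [hm]; norm_num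

end CfsgLib.Blocks.Order7920
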